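import Cfsg.Agent.Lib.U6Cover.Bound
import Cfsg.Agent.Lib.Classical.Herm.Apps

/-!
A Sylow 2-subgroup of the double cover as a product of three elementary abelian subgroups.
-/

set_option autoImplicit false

namespace CfsgLib.U6Cover

open Module CfsgLib.Classical.Herm HermSpace CfsgLib.UnitaryTransv

attribute [-simp] stdHerm_h

variable {F : Type*} [Field F] [Fintype F] {hF : Fintype.card F = 2 ^ 2}

/-- The frame with the last two pairs interchanged. -/
def Fr.P2 (P : Fr hF) : Fr hF where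
  e := ![P.e 0, P.f 1, P.f 2]
  f := ![P.f 0, P.e 1, P.e 2]
  ee i j := by fin_cases i <;> fin_cases j <;> simp [P.ee, P.ff, P.ef, P.fe]
  ff i j := by fin_cases i <;> fin_cases j <;> simp [P.ee, P.ff, P.ef, P.fe]
  ef i j := by fin_cases i <;> fin_cases j <;> simp [P.ee, P.ff, P.ef, P.fe]

/-- The frame with the last pair interchanged. -/
def Fr.P3 (P : Fr hF) : Fr hF where
  e := ![P.e 0, P.e 1, P.f 2]
  f := ![P.f 0, P.f 1, P.e 2]
  ee i j := by fin_cases i <;> fin_cases j <;> simp [P.ee, P.ff, P.ef, P.fe]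
  ff i j := by fin_cases i <;> fin_cases j <;> simp [P.ee, P.ff, P.ef, P.fe]
  ef i j := by fin_cases i <;> fin_cases j <;> simp [P.ee, P.ff, P.ef, P.fe]

theorem Fr.HasCode.apply_f {P : Fr hF} {ω : F} {g : Unit' (stdHerm hF 6)} {c : ℕ} (h : P.HasCode ω g c)
    (j : Fin 3) : g.1 (P.f j) = P.f j + iota ω (ent4 c 0 j) • P.e 0 + iota ω (ent4 c 1 j) • P.e 1 +
      iota ω (ent4 c 2 j) • P.e 2 := by
  rw [h, Fin.sum_univ_three]
  simp [P.fe, Finset.sum_ite_eq, add_assoc, mul_ite]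

/-- The code test of the second group. -/
def mask2 (n : ℕ) : Bool := Nat.beq (lin baseMats n &&& 487) 0

/-- The code test of the third group. -/
def mask3 (n : ℕ) : Bool := Nat.beq (lin baseMats n &&& 31) 0

theorem mask2_ok : (below 512 fun c => !(Nat.beq (c &&& 487) 0) ||
    (Nat.beq (ent4 c 1 1) 0 && Nat.beq (ent4 c 2 1) 0 && Nat.beq (ent4 c 1 2) 0 && Nat.beq (ent4 c 2 2) 0 &&
      Nat.beq (ent4 c 0 2) 0 && Nat.beq (ent4 c 0 0) 0)) = true := by decide +kernel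

theorem mask3_ok : (below 512 fun c => !(Nat.beq (c &&& 31) 0) ||
    (Nat.beq (ent4 c 2 2) 0 && Nat.beq (ent4 c 0 1) 0 && Nat.beq (ent4 c 0 0) 0 && Nat.beq (ent4 c 1 1) 0)) = true := by
  decide +kernel

theorem mask2_card : countBelow 512 mask2 = 4 := by decide +kernel

theorem mask3_card : countBelow 512 mask3 = 16 := by decide +kernel

theorem mask3_conj_ok : (below 4 fun a => below 512 fun n => !(mask3 n) || mask3 (lin (triImgs a 0 0) n)) = true := by
  decide +kernel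

theorem mask2_spec {n : ℕ} (hn : n < 512) (h : mask2 n = true) :
    ent4 (lin baseMats n) 1 1 = 0 ∧ ent4 (lin baseMats n) 2 1 = 0 ∧ ent4 (lin baseMats n) 1 2 = 0 ∧
      ent4 (lin baseMats n) 2 2 = 0 ∧ ent4 (lin baseMats n) 0 2 = 0 ∧ ent4 (lin baseMats n) 0 0 = 0 := by
  have := below_spec mask2_ok (coord_spec hn).2.2.1
  rw [show Nat.beq (lin baseMats n &&& 487) 0 = true from h] at this
  simp only [Bool.not_true, Bool.false_or, Bool.and_eq_true] at this
  obtain ⟨⟨⟨⟨⟨a, b⟩, c⟩, d⟩, e⟩, f⟩ := this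
  exact ⟨Nat.eq_of_beq_eq_true a, Nat.eq_of_beq_eq_true b, Nat.eq_of_beq_eq_true c, Nat.eq_of_beq_eq_true d,
    Nat.eq_of_beq_eq_true e, Nat.eq_of_beq_eq_true f⟩

theorem mask3_spec {n : ℕ} (hn : n < 512) (h : mask3 n = true) :
    ent4 (lin baseMats n) 2 2 = 0 ∧ ent4 (lin baseMats n) 0 1 = 0 ∧ ent4 (lin baseMats n) 0 0 = 0 ∧
      ent4 (lin baseMats n) 1 1 = 0 := by
  have := below_spec mask3_ok (coord_spec hn).2.2.1
  rw [show Nat.beq (lin baseMats n &&& 31) 0 = true from h] at this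
  simp only [Bool.not_true, Bool.false_or, Bool.and_eq_true] at this
  obtain ⟨⟨⟨a, b⟩, c⟩, d⟩ := this
  exact ⟨Nat.eq_of_beq_eq_true a, Nat.eq_of_beq_eq_true b, Nat.eq_of_beq_eq_true c, Nat.eq_of_beq_eq_true d⟩

theorem mask_zero : mask2 0 = true ∧ mask3 0 = true := by decide +kernel

theorem mask_xor (m : ℕ) {a b : ℕ} (ha : Nat.beq (lin baseMats a &&& m) 0 = true)
    (hb : Nat.beq (lin baseMats b &&& m) 0 = true) : Nat.beq (lin baseMats (a ^^^ b) &&& m) 0 = true := by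
  rw [lin_xor, Nat.and_xor_distrib_right, Nat.eq_of_beq_eq_true ha, Nat.eq_of_beq_eq_true hb]
  rfl

/-- The image of an element of the second group on the first triple. -/
theorem Fr.u2_apply (P : Fr hF) {ω : F} (hω : ω ^ 2 + ω + 1 = 0) {n : ℕ} (hn : n < 512)
    (h : mask2 n = true) :
    (P.P2.u ω n).1 (P.e 0) = P.e 0 ∧
      (P.P2.u ω n).1 (P.e 1) = P.e 1 + iota ω (ent4 (lin baseMats n) 0 1) • P.e 0 ∧
      (P.P2.u ω n).1 (P.e 2) = P.e 2 ∧ (P.P2.u ω n).1 (P.f 2) = P.f 2 := by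
  obtain ⟨h11, h21, h12, h22, h02, -⟩ := mask2_spec hn h
  have hc := P.P2.hasCode_u hω n
  refine ⟨hc.mem_U 0, ?_, ?_, hc.mem_U 2⟩
  · have := hc.apply_f 1
    simpa [Fr.P2, h11, h21, iota] using this
  · have := hc.apply_f 2
    simpa [Fr.P2, h02, h12, h22, iota] using this

/-- The image of an element of the third group on the first triple. -/
theorem Fr.u3_apply (P : Fr hF) {ω : F} (hω : ω ^ 2 + ω + 1 = 0) {n : ℕ} (hn : n < 512)
    (h : mask3 n = true) :
    (P.P3.u ω n).1 (P.e 0) = P.e 0 ∧ (P.P3.u ω n).1 (P.e 1) = P.e 1 ∧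
      (P.P3.u ω n).1 (P.e 2) = P.e 2 + iota ω (ent4 (lin baseMats n) 0 2) • P.e 0 +
        iota ω (ent4 (lin baseMats n) 1 2) • P.e 1 := by
  obtain ⟨h22, -, -, -⟩ := mask3_spec hn h
  have hc := P.P3.hasCode_u hω n
  refine ⟨hc.mem_U 0, hc.mem_U 1, ?_⟩
  have := hc.apply_f 2
  simpa [Fr.P3, h22, iota] using this

theorem mask2_inj {n : ℕ} (hn : n < 512) (h : mask2 n = true) (h1 : ent4 (lin baseMats n) 0 1 = 0) :
    n = 0 := by
  have hb : (below 512 fun c => !(Nat.beq (c &&& 487) 0 && Nat.beq (ent4 c 0 1) 0) || Nat.beq c 0) = true := by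
    decide +kernel
  have := below_spec hb (coord_spec hn).2.2.1
  rw [show Nat.beq (lin baseMats n &&& 487) 0 = true from h, h1] at this
  simp only [Nat.beq_refl, Bool.and_self, Bool.not_true, Bool.false_or] at this
  rw [← (coord_spec hn).2.1, Nat.eq_of_beq_eq_true this, lin_zero]

theorem mask3_inj {n : ℕ} (hn : n < 512) (h : mask3 n = true) (h1 : ent4 (lin baseMats n) 0 2 = 0)
    (h2 : ent4 (lin baseMats n) 1 2 = 0) : n = 0 := by
  have hb : (below 512 fun c => !(Nat.beq (c &&& 31) 0 && Nat.beq (ent4 c 0 2) 0 && Nat.beq (ent4 c 1 2) 0) ||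
      Nat.beq c 0) = true := by decide +kernel
  have := below_spec hb (coord_spec hn).2.2.1
  rw [show Nat.beq (lin baseMats n &&& 31) 0 = true from h, h1, h2] at this
  simp only [Nat.beq_refl, Bool.and_self, Bool.not_true, Bool.false_or] at this
  rw [← (coord_spec hn).2.1, Nat.eq_of_beq_eq_true this, lin_zero]

variable {C : Type*} [Group C] [Finite C]

omit [Finite C] in
theorem Data.u_sq (_D : Data hF C) (P : Fr hF) {ω : F} (hω : ω ^ 2 + ω + 1 = 0) {n : ℕ} (hn : n < 512) :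
    P.u ω n * P.u ω n = 1 := by
  rw [← P.u_xor hω hn hn, Nat.xor_self]
  exact prodBits_zero _

/-- The lifts of the masked elements. -/
def Data.B (D : Data hF C) (P : Fr hF) (ω : F) (hω : ω ^ 2 + ω + 1 = 0) (p : ℕ → Bool) (h0 : p 0 = true)
    (hx : ∀ {a b}, p a = true → p b = true → p (a ^^^ b) = true) : Subgroup C where
  carrier := {c | ∃ n < 512, p n = true ∧ D.L c (P.u ω n)}
  one_mem' := ⟨0, by norm_num, h0, by rw [show P.u ω 0 = 1 from prodBits_zero _]; exact D.L_one⟩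
  mul_mem' := by
    rintro a b ⟨n, hn, hp, h⟩ ⟨m, hm, hp', h'⟩
    exact ⟨n ^^^ m, Nat.xor_lt_two_pow (n := 9) hn hm, hx hp hp', by rw [P.u_xor hω hn hm]; exact h.mul h'⟩
  inv_mem' := by
    rintro a ⟨n, hn, hp, h⟩
    refine ⟨n, hn, hp, ?_⟩
    have := h.inv
    rwa [inv_eq_of_mul_eq_one_left (D.u_sq P hω hn)] at this

/-- The second group. -/
def Data.B2 (D : Data hF C) (P : Fr hF) (ω : F) (hω : ω ^ 2 + ω + 1 = 0) : Subgroup C :=
  D.B P.P2 ω hω mask2 mask_zero.1 (fun h h' => mask_xor 487 h h')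

/-- The third group. -/
def Data.B3 (D : Data hF C) (P : Fr hF) (ω : F) (hω : ω ^ 2 + ω + 1 = 0) : Subgroup C :=
  D.B P.P3 ω hω mask3 mask_zero.2 (fun h h' => mask_xor 31 h h')

omit [Finite C] in
theorem Data.B2_le (D : Data hF C) (P : Fr hF) {ω : F} (hω : ω ^ 2 + ω + 1 = 0) :
    D.B2 P ω hω ≤ D.A P.P2 ∧ D.B2 P ω hω ≤ Subgroup.normalizer (D.A P : Set C) := by
  refine ⟨fun c ⟨n, _, _, h⟩ => ⟨_, P.P2.u_mem hω n, h⟩, fun c ⟨n, hn, hm, h⟩ => D.conj_mem P h fun i => ?_⟩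
  obtain ⟨h0, h1, h2, -⟩ := P.u2_apply hω hn hm
  intro j
  fin_cases i
  · show (stdHerm hF 6).h ((P.P2.u ω n).1 (P.e 0)) _ = 0
    rw [h0, P.ee]
  · show (stdHerm hF 6).h ((P.P2.u ω n).1 (P.e 1)) _ = 0
    rw [h1, HermSpace.add_left, HermSpace.smul_left, P.ee, P.ee, mul_zero, add_zero]
  · show (stdHerm hF 6).h ((P.P2.u ω n).1 (P.e 2)) _ = 0
    rw [h2, P.ee]

omit [Finite C] in
theorem Data.B3_le (D : Data hF C) (P : Fr hF) {ω : F} (hω : ω ^ 2 + ω + 1 = 0) :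
    D.B3 P ω hω ≤ D.A P.P3 ∧ D.B3 P ω hω ≤ Subgroup.normalizer (D.A P : Set C) := by
  refine ⟨fun c ⟨n, _, _, h⟩ => ⟨_, P.P3.u_mem hω n, h⟩, fun c ⟨n, hn, hm, h⟩ => D.conj_mem P h fun i => ?_⟩
  obtain ⟨h0, h1, h2⟩ := P.u3_apply hω hn hm
  intro j
  fin_cases i
  · show (stdHerm hF 6).h ((P.P3.u ω n).1 (P.e 0)) _ = 0
    rw [h0, P.ee]
  · show (stdHerm hF 6).h ((P.P3.u ω n).1 (P.e 1)) _ = 0
    rw [h1, P.ee]
  · show (stdHerm hF 6).h ((P.P3.u ω n).1 (P.e 2)) _ = 0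
    simp [h2, HermSpace.add_left, HermSpace.smul_left, P.ee]

omit [Finite C] in
theorem Data.B2_normalizes (D : Data hF C) (P : Fr hF) {ω : F} (hω : ω ^ 2 + ω + 1 = 0) {c : C}
    (hc : c ∈ D.B2 P ω hω) :
    c ∈ Subgroup.normalizer (D.A P.P3 : Set C) ∧
      ∀ x ∈ D.B3 P ω hω, c * x * c⁻¹ ∈ D.B3 P ω hω := by
  obtain ⟨n, hn, hm, h⟩ := hc
  obtain ⟨h0, h1, -, h2⟩ := P.u2_apply hω hn hm
  set a := ent4 (lin baseMats n) 0 1
  have ha : a < 4 := (ent4_lt (coord_spec hn).2.2.1 (by norm_num) (by norm_num)).1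
  refine ⟨D.conj_mem P.P3 h fun i j => ?_, ?_⟩
  · have h3 : ∀ i, (P.P2.u ω n).1 (P.P3.e i) = P.P3.e i +
        (if i = 1 then iota ω a else 0) • P.P3.e 0 := fun i => by
      fin_cases i
      · show (P.P2.u ω n).1 (P.e 0) = _
        simp [Fr.P3, h0]
      · show (P.P2.u ω n).1 (P.e 1) = _
        simp [Fr.P3, h1]
      · show (P.P2.u ω n).1 (P.f 2) = _
        simp [Fr.P3, h2]
    rw [h3, HermSpace.add_left, HermSpace.smul_left, P.P3.ee, P.P3.ee, mul_zero, add_zero]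
  · rintro x ⟨m, hmlt, hm3, hx⟩
    have hv := P.P3.vec_tri (g := P.P2.u ω n) hω ha (show 0 < 4 by norm_num) (show 0 < 4 by norm_num) h0 h1
      (by show (P.P2.u ω n).1 (P.f 2) = _; simp [h2, iota, Fr.P3])
    have hws : ∀ w ∈ baseVecs.map (tri4 a 0 0), w < 64 := fun w hw => by
      obtain ⟨v, -, rfl⟩ := List.mem_map.1 hw
      exact (hv v).2
    refine ⟨_, code4_lt_of hws m, ?_, ?_⟩
    · have := below_spec (below_spec mask3_conj_ok ha) hmlt
      rw [hm3] at this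
      simpa [triImgs] using this
    · have := h.conj hx
      rwa [P.P3.u_conj hω hws (by rw [List.map_map]; exact List.map_congr_left fun v _ => (hv v).1)] at this

omit [Finite C] in
theorem Data.isPGroup (D : Data hF C) (P : Fr hF) : IsPGroup 2 (D.A P) := IsPGroup.of_card (D.card_A P)

/-- The product of the three groups. -/
def Data.S0 (D : Data hF C) (P : Fr hF) (ω : F) (hω : ω ^ 2 + ω + 1 = 0) : Subgroup C :=
  D.A P ⊔ (D.B3 P ω hω ⊔ D.B2 P ω hω)

omit [Finite C] in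
theorem Data.S0_le_normalizer (D : Data hF C) (P : Fr hF) {ω : F} (hω : ω ^ 2 + ω + 1 = 0) :
    D.S0 P ω hω ≤ Subgroup.normalizer (D.A P : Set C) :=
  sup_le Subgroup.le_normalizer (sup_le (D.B3_le P hω).2 (D.B2_le P hω).2)

omit [Finite C] in
theorem Data.B2_le_normalizer_B3 (D : Data hF C) (P : Fr hF) {ω : F} (hω : ω ^ 2 + ω + 1 = 0) :
    D.B2 P ω hω ≤ Subgroup.normalizer (D.B3 P ω hω : Set C) := fun c hc =>
  Subgroup.mem_normalizer_iff.2 fun x => ⟨(D.B2_normalizes P hω hc).2 x, fun hx => by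
    have := (D.B2_normalizes P hω (inv_mem hc)).2 _ hx
    simpa [mul_assoc] using this⟩

theorem Data.isPGroup_S0 (D : Data hF C) (P : Fr hF) {ω : F} (hω : ω ^ 2 + ω + 1 = 0) :
    IsPGroup 2 (D.S0 P ω hω) := by
  rw [Data.S0, sup_comm]
  refine IsPGroup.to_sup_of_normal_right' ?_ (D.isPGroup P) (sup_le (D.B3_le P hω).2 (D.B2_le P hω).2)
  rw [sup_comm]
  exact IsPGroup.to_sup_of_normal_right' ((D.isPGroup P.P2).to_le (D.B2_le P hω).1)
    ((D.isPGroup P.P3).to_le (D.B3_le P hω).1) (D.B2_le_normalizer_B3 P hω)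

omit [Finite C] in
/-- Elements of the three groups with product one have trivial images in the last two. -/
theorem Data.prod_unique (D : Data hF C) (P : Fr hF) {ω : F} (hω : ω ^ 2 + ω + 1 = 0) {a : C}
    (ha : a ∈ D.A P) {n m n' m' : ℕ} (hn : n < 512) (hm : m < 512) (hn' : n' < 512) (hm' : m' < 512)
    (pn : mask2 n = true) (pm : mask3 m = true) (pn' : mask2 n' = true) (pm' : mask3 m' = true)
    {x y x' y' : C} (hx : D.L x (P.P2.u ω n)) (hy : D.L y (P.P3.u ω m)) (hx' : D.L x' (P.P2.u ω n'))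
    (hy' : D.L y' (P.P3.u ω m')) (e : a * (x * y) = x' * y') : n = n' ∧ m = m' := by
  obtain ⟨k, hk, hka⟩ := ha
  have h1 := hka.mul (hx.mul hy)
  rw [e] at h1
  obtain ⟨μ, -, hμ⟩ := h1.scalar (hx'.mul hy')
  obtain ⟨p0, p1, p2, -⟩ := P.u2_apply hω hn pn
  obtain ⟨q0, q1, q2⟩ := P.u3_apply hω hm pm
  obtain ⟨p0', p1', p2', -⟩ := P.u2_apply hω hn' pn'
  obtain ⟨q0', q1', q2'⟩ := P.u3_apply hω hm' pm'
  have e0 := hμ (P.e 0)
  have e1 := hμ (P.e 1)
  have e2 := hμ (P.e 2)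
  simp only [CfsgLib.Classical.Herm.mul_apply, q0, q1, q2, q0', q1', q2', p0, p1, p2, p0', p1', p2', map_add,
    map_smul, hk _, smul_add, smul_smul] at e0 e1 e2
  have hμ1 : μ = 1 := smul_left_injective F (P.e_ne_zero 0) (e0.symm.trans (one_smul F _).symm)
  subst hμ1
  simp only [one_smul, one_mul] at e1 e2
  have r1 := congrArg (fun x => (stdHerm hF 6).h x (P.f 0)) e1
  simp [HermSpace.add_left, HermSpace.smul_left, P.ef] at r1
  have r2 := congrArg (fun x => (stdHerm hF 6).h x (P.f 1)) e2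
  simp [HermSpace.add_left, HermSpace.smul_left, P.ef] at r2
  have r0 := congrArg (fun x => (stdHerm hF 6).h x (P.f 0)) e2
  simp [HermSpace.add_left, HermSpace.smul_left, P.ef, r1, r2] at r0
  have hlt : ∀ {c : ℕ}, c < 512 → ∀ i j : ℕ, i < 3 → j < 3 → ent4 (lin baseMats c) i j < 4 :=
    fun hc i j hi hj => (ent4_lt (coord_spec hc).2.2.1 hi hj).1
  have x01 := iota_inj hF hω (hlt hn' 0 1 (by norm_num) (by norm_num)) (hlt hn 0 1 (by norm_num) (by norm_num)) r1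
  have x12 := iota_inj hF hω (hlt hm' 1 2 (by norm_num) (by norm_num)) (hlt hm 1 2 (by norm_num) (by norm_num)) r2
  have x02 := iota_inj hF hω (hlt hm' 0 2 (by norm_num) (by norm_num)) (hlt hm 0 2 (by norm_num) (by norm_num)) r0
  constructor
  · refine Nat.xor_eq_zero_iff.1 (mask2_inj (Nat.xor_lt_two_pow (n := 9) hn hn') (mask_xor 487 pn pn') ?_)
    rw [lin_xor, ent4_xor _ _ (by norm_num) (by norm_num), x01, Nat.xor_self]
  · refine Nat.xor_eq_zero_iff.1 (mask3_inj (Nat.xor_lt_two_pow (n := 9) hm hm') (mask_xor 31 pm pm') ?_ ?_)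
    · rw [lin_xor, ent4_xor _ _ (by norm_num) (by norm_num), x02, Nat.xor_self]
    · rw [lin_xor, ent4_xor _ _ (by norm_num) (by norm_num), x12, Nat.xor_self]

theorem Data.card_S0 (D : Data hF C) (P : Fr hF) {ω : F} (hω : ω ^ 2 + ω + 1 = 0) :
    2 ^ 16 ≤ Nat.card (D.S0 P ω hω) := by
  have c2 : ((Finset.range 512).filter fun n => mask2 n).card = 4 := by
    exact (countBelow_eq 512 mask2).symm.trans mask2_card
  have c3 : ((Finset.range 512).filter fun n => mask3 n).card = 16 := by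
    exact (countBelow_eq 512 mask3).symm.trans mask3_card
  let T2 := (Finset.range 512).filter fun n => mask2 n
  let T3 := (Finset.range 512).filter fun n => mask3 n
  have hT2 : ∀ n : ↥T2, n.1 < 512 ∧ mask2 n.1 = true := fun n =>
    ⟨Finset.mem_range.1 (Finset.mem_filter.1 n.2).1, (Finset.mem_filter.1 n.2).2⟩
  have hT3 : ∀ n : ↥T3, n.1 < 512 ∧ mask3 n.1 = true := fun n =>
    ⟨Finset.mem_range.1 (Finset.mem_filter.1 n.2).1, (Finset.mem_filter.1 n.2).2⟩
  let f : ↥(D.A P) × (↥T2 × ↥T3) → D.S0 P ω hω := fun p => ⟨p.1.1 * (D.au P.P2 ω p.2.1 * D.au P.P3 ω p.2.2),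
    mul_mem (Subgroup.mem_sup_left p.1.2) (Subgroup.mem_sup_right (mul_mem
      (Subgroup.mem_sup_right ⟨p.2.1, (hT2 p.2.1).1, (hT2 p.2.1).2, D.L_au P.P2 ω _⟩)
      (Subgroup.mem_sup_left ⟨p.2.2, (hT3 p.2.2).1, (hT3 p.2.2).2, D.L_au P.P3 ω _⟩)))⟩
  have hf : Function.Injective f := by
    rintro ⟨a, n, m⟩ ⟨a', n', m'⟩ h
    have h' : a.1 * (D.au P.P2 ω n * D.au P.P3 ω m) = a'.1 * (D.au P.P2 ω n' * D.au P.P3 ω m') :=
      congrArg Subtype.val h
    obtain ⟨e1, e2⟩ := D.prod_unique P hω (mul_mem (inv_mem a'.2) a.2) (hT2 n).1 (hT3 m).1 (hT2 n').1 (hT3 m').1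
      (hT2 n).2 (hT3 m).2 (hT2 n').2 (hT3 m').2 (D.L_au P.P2 ω _) (D.L_au P.P3 ω _) (D.L_au P.P2 ω _)
      (D.L_au P.P3 ω _) (by rw [mul_assoc, h', inv_mul_cancel_left])
    obtain rfl := Subtype.ext e1
    obtain rfl := Subtype.ext e2
    rw [Subtype.ext (mul_right_cancel h') ]
  have := Nat.card_le_card_of_injective f hf
  rw [Nat.card_prod, Nat.card_prod, D.card_A, Nat.card_eq_finsetCard, Nat.card_eq_finsetCard, c2, c3] at this
  omega

omit [Fintype F] in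
theorem card_psu_six (hF : Nat.card F = 4) : Nat.card (Cfsg.PSU 6 F 2) = 9196830720 := by
  have : Finite F := Nat.finite_of_card_ne_zero (by rw [hF]; norm_num)
  cases nonempty_fintype F
  have hF' : Fintype.card F = 2 ^ 2 := by rw [← Nat.card_eq_fintype_card, hF]; norm_num
  have h := card_psu (n := 6) hF' (by norm_num)
  norm_num [Finset.prod_range_succ, Nat.even_iff] at h
  omega

omit [Finite C] in
theorem Data.card_C (D : Data hF C) : Nat.card C = 2 ^ 16 * 280665 ∧ ¬ 2 ∣ 280665 := by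
  have hk : Nat.card D.θ.ker = 2 := by
    classical
    rw [show ((D.θ.ker : Subgroup C) : Type _) = ({1, D.z} : Set C) from congrArg (fun s : Set C => ↥s)
      (Set.ext fun c => by simp [MonoidHom.mem_ker, D.ker]), Nat.card_coe_set_eq, Set.ncard_pair D.z_ne.symm]
  refine ⟨?_, by norm_num⟩
  rw [← D.θ.ker.card_mul_index, Subgroup.index_ker, MonoidHom.range_eq_top.2 D.surj, Subgroup.card_top, hk,
    card_psu_six (by rw [Nat.card_eq_fintype_card, hF]; norm_num)]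
  norm_num

/-- A Sylow 2-subgroup. -/
theorem Data.exists_sylow (D : Data hF C) (P : Fr hF) {ω : F} (hω : ω ^ 2 + ω + 1 = 0) :
    ∃ S : Sylow 2 C, (S : Subgroup C) = D.S0 P ω hω ∧ Odd (D.S0 P ω hω).index := by
  obtain ⟨S, hS⟩ := (D.isPGroup_S0 P hω).exists_le_sylow
  obtain ⟨hC, hodd⟩ := D.card_C
  have hS16 : Nat.card S = 2 ^ 16 := by
    rw [S.card_eq_multiplicity, hC]
    congr 1
    rw [Nat.factorization_mul (by norm_num) (by norm_num), Nat.Prime.factorization_pow Nat.prime_two]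
    simp [Nat.factorization_eq_zero_of_not_dvd hodd]
  have heq : D.S0 P ω hω = S := Subgroup.eq_of_le_of_card_ge hS (by
    show Nat.card S ≤ _
    rw [hS16]; exact D.card_S0 P hω)
  refine ⟨S, heq.symm, ?_⟩
  rw [heq, ← Nat.not_even_iff_odd, even_iff_two_dvd]
  exact S.not_dvd_index

omit [Finite C] in
theorem decomp_sup {G : Type*} [Group G] (H K : Subgroup G) (h : K ≤ Subgroup.normalizer (H : Set G)) {g : G}
    (hg : g ∈ H ⊔ K) : ∃ a ∈ H, ∃ b ∈ K, g = a * b := by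
  have : g ∈ ((H ⊔ K : Subgroup G) : Set G) := hg
  rw [Subgroup.coe_mul_of_right_le_normalizer_left H K h] at this
  obtain ⟨a, ha, b, hb, e⟩ := this
  exact ⟨a, ha, b, hb, e.symm⟩

end CfsgLib.U6Cover
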