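import Cfsg.Agent.Lib.UnitaryTransv.Basic
import Mathlib.LinearAlgebra.Dual.Lemmas

/-!
Transvections of a Hermitian space over the field with four elements as commutators of root elements,
and one step of writing an involution as a product of commuting transvections.
-/

set_option autoImplicit false

namespace CfsgLib.U6Cover

open Module CfsgLib.Classical.Herm HermSpace CfsgLib.UnitaryTransv

variable {F : Type*} [Field F] [Fintype F] {n : ℕ}

theorem fixed_eq_one (hF : Fintype.card F = 2 ^ 2) {c : F} (hc : c ^ 2 = c) (h0 : c ≠ 0) : c = 1 :=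
  mul_right_cancel₀ h0 (by linear_combination hc)

theorem neg_eq (hF : Fintype.card F = 2 ^ 2) (a : F) : -a = a :=
  neg_eq_of_add_eq_zero_left (add_self_zero hF a)

/-- A subspace on which the form vanishes has at most half the dimension. -/
theorem two_finrank_le (hF : Fintype.card F = 2 ^ 2) (W : Submodule F (Fin n → F))
    (h0 : ∀ x ∈ W, ∀ y ∈ W, (stdHerm hF n).h x y = 0) : 2 * finrank F W ≤ n := by
  classical
  have : Finite (Dual F (Fin n → F)) := Module.finite_of_finite F
  let j : W → W.dualAnnihilator := fun w =>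
    ⟨(stdHerm hF n).form w.1, by rw [Submodule.mem_dualAnnihilator]; exact fun x hx => h0 x hx w.1 w.2⟩
  have hj : Function.Injective j := fun a b e => by
    apply Subtype.ext
    rw [← sub_eq_zero]
    refine (stdHerm hF n).nondeg _ fun y => (stdHerm hF n).h_comm_zero ?_
    have e' := LinearMap.congr_fun (congrArg Subtype.val e) y
    simp only [j, HermSpace.form_apply] at e'
    rw [(stdHerm hF n).sub_right, e', sub_self]
  have hle := Nat.card_le_card_of_injective j hj
  rw [Module.natCard_eq_pow_finrank (K := F), Module.natCard_eq_pow_finrank (K := F) (V := W.dualAnnihilator),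
    Nat.card_eq_fintype_card, hF] at hle
  have h1 := (Nat.pow_le_pow_iff_right (a := 2 ^ 2) (by norm_num)).1 hle
  have h2 := Subspace.finrank_add_finrank_dualAnnihilator_eq W
  rw [finrank_fin_fun] at h2
  omega

/-- A large enough subspace has a vector of norm one. -/
theorem exists_norm_one (hF : Fintype.card F = 2 ^ 2) (W : Submodule F (Fin n → F))
    (hd : n < 2 * finrank F W) : ∃ m ∈ W, (stdHerm hF n).h m m = 1 := by
  by_contra hcon
  have hiso : ∀ x ∈ W, (stdHerm hF n).h x x = 0 := fun x hx => by
    by_contra h0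
    refine hcon ⟨x, hx, fixed_eq_one hF ?_ h0⟩
    have := (stdHerm hF n).conj_diag x
    rwa [stdHerm_conj] at this
  have h0 : ∀ x ∈ W, ∀ y ∈ W, (stdHerm hF n).h x y = 0 := by
    intro x hx y hy
    obtain ⟨t, ht⟩ := (stdHerm hF n).exists_trace_one
    have e1 : (stdHerm hF n).h y x = -(stdHerm hF n).h x y := by
      have := hiso (x + y) (W.add_mem hx hy)
      rw [(stdHerm hF n).add_left, (stdHerm hF n).add_right, (stdHerm hF n).add_right, hiso x hx, hiso y hy] at this
      linear_combination this
    have := hiso (t • x + y) (W.add_mem (W.smul_mem t hx) hy)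
    rw [(stdHerm hF n).add_left, (stdHerm hF n).add_right, (stdHerm hF n).add_right, (stdHerm hF n).smul_left, (stdHerm hF n).smul_left, (stdHerm hF n).smul_right, (stdHerm hF n).smul_right,
      hiso x hx, hiso y hy, e1] at this
    have e2 : (t - (stdHerm hF n).conj t) * (stdHerm hF n).h x y = 0 := by linear_combination this
    refine (mul_eq_zero.1 e2).resolve_left fun h => ?_
    have h3 : t + t = 1 := by linear_combination ht + h
    rw [add_self_zero hF] at h3
    exact zero_ne_one h3
  have := two_finrank_le hF W h0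
  omega

theorem finrank_ker_form_two (hF : Fintype.card F = 2 ^ 2) (u w : Fin n → F) :
    n ≤ finrank F (LinearMap.ker (((stdHerm hF n).form u).prod ((stdHerm hF n).form w))) + 2 := by
  have h1 := LinearMap.finrank_range_add_finrank_ker (((stdHerm hF n).form u).prod ((stdHerm hF n).form w))
  have h2 := Submodule.finrank_le (LinearMap.range (((stdHerm hF n).form u).prod ((stdHerm hF n).form w)))
  rw [Module.finrank_prod, finrank_self] at h2
  rw [finrank_fin_fun] at h1
  omega

theorem mem_ker_two {hF : Fintype.card F = 2 ^ 2} {u w m : Fin n → F}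
    (hm : m ∈ LinearMap.ker (((stdHerm hF n).form u).prod ((stdHerm hF n).form w))) :
    (stdHerm hF n).h m u = 0 ∧ (stdHerm hF n).h m w = 0 := by
  simpa using hm

theorem tv_eq_root (hF : Fintype.card F = 2 ^ 2) (v : Fin n → F) (hv : (stdHerm hF n).h v v = 0)
    (c : RootCond (stdHerm hF n) v 0 1) : tv hF v hv = root (stdHerm hF n) v 0 1 c := by
  rw [tv, shear_isotropic_eq_root _ hv]

/-- A transvection is a commutator of root elements commuting with an orthogonal transvection. -/
theorem exists_comm_fix (hF : Fintype.card F = 2 ^ 2) (hn : 5 ≤ n) (v w : Fin n → F)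
    (hv : (stdHerm hF n).h v v = 0) (hw : (stdHerm hF n).h w w = 0)
    (hvw : (stdHerm hF n).h v w = 0) :
    ∃ A B : Unit' (stdHerm hF n), detHom (stdHerm hF n) A = 1 ∧ detHom (stdHerm hF n) B = 1 ∧
      A * B = tv hF w hw * (B * A) ∧ Commute (tv hF v hv) A ∧ Commute (tv hF v hv) B := by
  obtain ⟨m, hm, hm1⟩ := exists_norm_one hF (LinearMap.ker (((stdHerm hF n).form v).prod ((stdHerm hF n).form w)))
    (by have := finrank_ker_form_two hF v w; omega)
  obtain ⟨hmv, hmw⟩ := mem_ker_two hm
  obtain ⟨t, ht⟩ := (stdHerm hF n).exists_trace_one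
  obtain ⟨l, hl⟩ := (stdHerm hF n).exists_trace (c := -(stdHerm hF n).h m m) (by rw [map_neg, (stdHerm hF n).conj_diag])
  set m' := t • m with hm'
  have hm'v : (stdHerm hF n).h m' v = 0 := by rw [hm', (stdHerm hF n).smul_left, hmv, mul_zero]
  have hm'w : (stdHerm hF n).h m' w = 0 := by rw [hm', (stdHerm hF n).smul_left, hmw, mul_zero]
  obtain ⟨l', hl'⟩ := (stdHerm hF n).exists_trace (c := -(stdHerm hF n).h m' m') (by rw [map_neg, (stdHerm hF n).conj_diag])
  have c1 : RootCond (stdHerm hF n) w m l := ⟨hw, hmw, by linear_combination hl⟩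
  have c2 : RootCond (stdHerm hF n) w m' l' := ⟨hw, hm'w, by linear_combination hl'⟩
  have c0 : RootCond (stdHerm hF n) w 0 1 := ⟨hw, (stdHerm hF n).zero_left w, by
    rw [map_one, (stdHerm hF n).zero_left, add_zero, add_self_zero hF]⟩
  have hfix : ∀ (x : Fin n → F) (a : F) (c : RootCond (stdHerm hF n) w x a), (stdHerm hF n).h x v = 0 →
      Commute (tv hF v hv) (root (stdHerm hF n) w x a c) := by
    intro x a c hx
    have e : (root (stdHerm hF n) w x a c).1 v = v := by
      rw [root_apply, hvw, (stdHerm hF n).h_comm_zero hx]; simp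
    have := tv_conj hF (root (stdHerm hF n) w x a c) v hv
    rw [tv_congr hF _ hv e] at this
    exact (mul_inv_eq_iff_eq_mul.mp this).symm
  refine ⟨root (stdHerm hF n) w m l c1, root (stdHerm hF n) w m' l' c2, detHom_root c1, detHom_root c2, ?_,
    hfix _ _ c1 hmv, hfix _ _ c2 hm'v⟩
  rw [tv_eq_root hF w hw c0, root_mul, root_mul, root_mul]
  refine root_congr _ _ rfl (by rw [zero_add, add_comm]) ?_
  rw [(stdHerm hF n).add_left, hm', (stdHerm hF n).smul_left, (stdHerm hF n).smul_right, (stdHerm hF n).zero_right, (stdHerm hF n).zero_right, hm1, mul_one, mul_one]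
  linear_combination ht - t * two_eq_zero hF

/-- A transvection as a commutator with a root element that is a product of three orthogonal transvections. -/
theorem exists_comm_sq (hF : Fintype.card F = 2 ^ 2) (hn : 5 ≤ n) (u : Fin n → F)
    (hu : (stdHerm hF n).h u u = 0) :
    ∃ (A B : Unit' (stdHerm hF n)) (m : Fin n → F) (hm : (stdHerm hF n).h m m = 0)
      (hum : (stdHerm hF n).h (u + m) (u + m) = 0), detHom (stdHerm hF n) B = 1 ∧
      (stdHerm hF n).h m u = 0 ∧ A = tv hF (u + m) hum * tv hF u hu * tv hF m hm ∧ A * A = 1 ∧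
      A * B = tv hF u hu * (B * A) := by
  obtain ⟨m₁, hk₁, h11⟩ := exists_norm_one hF (LinearMap.ker (((stdHerm hF n).form u).prod ((stdHerm hF n).form u)))
    (by have := finrank_ker_form_two hF u u; omega)
  have hm1u := (mem_ker_two hk₁).1
  obtain ⟨m₂, hk₂, h22⟩ := exists_norm_one hF (LinearMap.ker (((stdHerm hF n).form u).prod ((stdHerm hF n).form m₁)))
    (by have := finrank_ker_form_two hF u m₁; omega)
  obtain ⟨hm2u, h21⟩ := mem_ker_two hk₂
  have h12 := (stdHerm hF n).h_comm_zero h21
  set m := m₁ + m₂ with hmdef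
  have hmu : (stdHerm hF n).h m u = 0 := by rw [hmdef, (stdHerm hF n).add_left, hm1u, hm2u, add_zero]
  have hm : (stdHerm hF n).h m m = 0 := by
    rw [hmdef, (stdHerm hF n).add_left, (stdHerm hF n).add_right, (stdHerm hF n).add_right, h11, h22, h12, h21, add_zero, zero_add,
      add_self_zero hF]
  have hum : (stdHerm hF n).h (u + m) (u + m) = 0 := by
    simp only [(stdHerm hF n).add_left, (stdHerm hF n).add_right, hu, hm, hmu, (stdHerm hF n).h_comm_zero hmu, add_zero]
  obtain ⟨t, ht⟩ := (stdHerm hF n).exists_trace_one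
  set m' := t • m₁ with hm'
  obtain ⟨l', hl'⟩ := (stdHerm hF n).exists_trace (c := -(stdHerm hF n).h m' m') (by rw [map_neg, (stdHerm hF n).conj_diag])
  have c1 : RootCond (stdHerm hF n) u m 0 := ⟨hu, hmu, by rw [map_zero, hm]; simp⟩
  have c2 : RootCond (stdHerm hF n) u m' l' := ⟨hu, by rw [hm', (stdHerm hF n).smul_left, hm1u, mul_zero], by linear_combination hl'⟩
  have c0 : RootCond (stdHerm hF n) u 0 1 := ⟨hu, (stdHerm hF n).zero_left u, by
    rw [map_one, (stdHerm hF n).zero_left, add_zero, add_self_zero hF]⟩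
  have hA : root (stdHerm hF n) u m 0 c1 = tv hF (u + m) hum * tv hF u hu * tv hF m hm := by
    refine unit_ext fun x => ?_
    simp only [root_apply, CfsgLib.Classical.Herm.mul_apply, tv_apply, (stdHerm hF n).add_left, (stdHerm hF n).smul_left, (stdHerm hF n).add_right,
      hu, hm, hmu, (stdHerm hF n).h_comm_zero hmu, neg_eq hF, zero_mul, mul_zero, add_zero, smul_add, add_smul]
    have e1 : (stdHerm hF n).h x u • u + (stdHerm hF n).h x u • u = 0 := smul_add_self_zero hF _
    have e2 : (stdHerm hF n).h x m • m + (stdHerm hF n).h x m • m = 0 := smul_add_self_zero hF _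
    linear_combination (norm := module) (-1 : F) • e1 + (-1 : F) • e2
  refine ⟨_, root (stdHerm hF n) u m' l' c2, m, hm, hum, detHom_root c2, hmu, hA, ?_, ?_⟩
  · refine unit_ext fun x => ?_
    rw [root_mul, one_apply, root_apply]
    rw [show (0 : F) + 0 - (stdHerm hF n).h m m = 0 by rw [hm]; ring, smul_add_self_zero hF, (stdHerm hF n).zero_right]
    simp
  · rw [tv_eq_root hF u hu c0, root_mul, root_mul, root_mul]
    refine root_congr _ _ rfl (by rw [zero_add, add_comm]) ?_
    rw [(stdHerm hF n).add_left, hm', hmdef, (stdHerm hF n).add_right, (stdHerm hF n).add_left, (stdHerm hF n).smul_left, (stdHerm hF n).smul_left, (stdHerm hF n).smul_right,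
      (stdHerm hF n).smul_right, (stdHerm hF n).zero_right, (stdHerm hF n).zero_right, h11, h12, h21, mul_one, mul_zero, mul_zero,
      add_zero, add_zero, mul_one]
    linear_combination ht - t * two_eq_zero hF

/-- One step in writing an involution as a product of commuting transvections. -/
theorem exists_peel (hF : Fintype.card F = 2 ^ 2) (k : Unit' (stdHerm hF n)) (hk : k * k = 1)
    (hk1 : k ≠ 1) :
    ∃ (v : Fin n → F) (hv : (stdHerm hF n).h v v = 0) (a : Fin n → F), v = k.1 a + a ∧
      (k * tv hF v hv) * (k * tv hF v hv) = 1 ∧ (∀ x, k.1 x = x → (k * tv hF v hv).1 x = x) ∧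
      (k * tv hF v hv).1 a = a ∧ k.1 a ≠ a ∧
      ∀ x, ∃ y, (k * tv hF v hv).1 x + x = k.1 y + y := by
  have hkk : ∀ x, k.1 (k.1 x) = x := fun x => by rw [← CfsgLib.Classical.Herm.mul_apply, hk, one_apply]
  have hfix : ∀ x, k.1 (k.1 x + x) = k.1 x + x := fun x => by rw [map_add, hkk, add_comm]
  set N := fun x => k.1 x + x with hN
  have hkN : ∀ x, k.1 x = N x + x := fun x => by
    rw [hN, add_assoc, smul_add_self_zero hF, add_zero]
  have hNN : ∀ x y, (stdHerm hF n).h (N x) (N y) = 0 := by
    intro x y
    have := unit_h_fix k (hfix x) y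
    rwa [(stdHerm hF n).sub_right, ← neg_eq hF ((stdHerm hF n).h _ y), sub_neg_eq_add, ← (stdHerm hF n).add_right] at this
  have hadj : ∀ x y, (stdHerm hF n).h (N x) y = (stdHerm hF n).h x (N y) := by
    intro x y
    have := unit_h k x y
    simp only [hkN x, hkN y, (stdHerm hF n).add_left, (stdHerm hF n).add_right, hNN, zero_add] at this
    have e2 : (stdHerm hF n).h (N x) y + (stdHerm hF n).h x (N y) = 0 := by linear_combination this
    linear_combination e2 - (stdHerm hF n).h x (N y) * two_eq_zero hF
  obtain ⟨a, ha⟩ : ∃ a, (stdHerm hF n).h (N a) a ≠ 0 := by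
    by_contra! h0
    refine hk1 (unit_ext fun x => ?_)
    rw [one_apply, hkN, add_eq_right]
    refine (stdHerm hF n).nondeg _ fun y => ?_
    obtain ⟨t, ht⟩ := (stdHerm hF n).exists_trace_one
    have hsum : ∀ p q, (stdHerm hF n).h (N p) q + (stdHerm hF n).h (N q) p = 0 := fun p q => by
      have := h0 (p + q)
      have e : N (p + q) = N p + N q := by simp only [hN, map_add]; abel
      rw [e, (stdHerm hF n).add_left, (stdHerm hF n).add_right, (stdHerm hF n).add_right, h0, h0] at this
      linear_combination this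
    have e1 := hsum x y
    have e2 := hsum x (t • y)
    have e : N (t • y) = t • N y := by simp only [hN, map_smul, smul_add]
    rw [e, (stdHerm hF n).smul_left, (stdHerm hF n).smul_right] at e2
    have e3 : ((stdHerm hF n).conj t - t) * (stdHerm hF n).h (N x) y = 0 := by linear_combination e2 - t * e1
    refine (mul_eq_zero.1 e3).resolve_left fun h => ?_
    have h3 : t + t = 1 := by linear_combination ht - h
    rw [add_self_zero hF] at h3
    exact zero_ne_one h3
  have ha1 : (stdHerm hF n).h a (N a) = 1 := by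
    rw [← hadj]
    refine fixed_eq_one hF ?_ ha
    have := (stdHerm hF n).symm' (N a) a
    rwa [← hadj, stdHerm_conj] at this
  have hv : (stdHerm hF n).h (N a) (N a) = 0 := hNN a a
  have htk : Commute k (tv hF (N a) hv) := by
    have := tv_conj hF k (N a) hv
    rw [tv_congr hF _ hv (hfix a)] at this
    exact mul_inv_eq_iff_eq_mul.mp this
  have happ : ∀ x, (k * tv hF (N a) hv).1 x = k.1 x + (stdHerm hF n).h x (N a) • N a := fun x => by
    rw [CfsgLib.Classical.Herm.mul_apply, tv_apply, map_add, map_smul, hfix]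
  refine ⟨N a, hv, a, rfl, ?_, fun x hx => ?_, ?_, fun e => ?_, fun x => ?_⟩
  · rw [htk.symm.mul_mul_mul_comm, hk, tv_sq, one_mul]
  · rw [happ, hx, ← hadj, show N x = 0 by rw [hN]; simp [hx, smul_add_self_zero hF], (stdHerm hF n).zero_left,
      zero_smul, add_zero]
  · rw [happ, ha1, one_smul, hkN, add_comm (N a), add_assoc, smul_add_self_zero hF, add_zero]
  · exact ha (by rw [show N a = 0 by rw [hN]; simp [e, smul_add_self_zero hF], (stdHerm hF n).zero_left])
  · refine ⟨x + (stdHerm hF n).h x (N a) • a, ?_⟩
    rw [happ, map_add, map_smul, hkN a, smul_add]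
    have e1 : (stdHerm hF n).h x (N a) • a + (stdHerm hF n).h x (N a) • a = 0 := smul_add_self_zero hF _
    linear_combination (norm := module) (-1 : F) • e1

end CfsgLib.U6Cover
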