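import Cfsg.Agent.Lib.U6Cover.Bits
import Cfsg.Agent.Lib.U6Cover.Transv

/-!
Frames of the six dimensional hermitian space over the field with four elements and the pointwise stabiliser
of a maximal totally isotropic subspace in coded coordinates.
-/

set_option autoImplicit false

namespace CfsgLib.U6Cover

open Module CfsgLib.Classical.Herm HermSpace CfsgLib.UnitaryTransv

attribute [-simp] stdHerm_h

variable {F : Type*} [Field F]

/-- The element with a given code. -/
def iota (ω : F) : ℕ → F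
  | 0 => 0
  | 1 => 1
  | 2 => ω
  | _ => ω ^ 2

variable [Fintype F] {hF : Fintype.card F = 2 ^ 2}

theorem exists_omega (hF : Fintype.card F = 2 ^ 2) : ∃ ω : F, ω ^ 2 + ω + 1 = 0 := by
  classical
  obtain ⟨a, ha⟩ : ((Finset.univ : Finset F) \ {0, 1}).Nonempty := by
    rw [← Finset.card_pos]
    have := Finset.card_le_two (a := (0 : F)) (b := 1)
    have h := Finset.le_card_sdiff ({0, 1} : Finset F) Finset.univ
    rw [Finset.card_univ, hF] at h
    omega
  simp only [Finset.mem_sdiff, Finset.mem_univ, true_and, Finset.mem_insert, Finset.mem_singleton,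
    not_or] at ha
  refine ⟨a, (mul_eq_zero.1 ?_).resolve_left (sub_ne_zero.2 ha.2)⟩
  linear_combination CfsgLib.UnitaryTransv.pow_three hF ha.1

omit [Fintype F] in
theorem omega_ne_zero {ω : F} (hω : ω ^ 2 + ω + 1 = 0) : ω ≠ 0 := by
  rintro rfl; simp at hω

theorem omega_ne_one (hF : Fintype.card F = 2 ^ 2) {ω : F} (hω : ω ^ 2 + ω + 1 = 0) : ω ≠ 1 := by
  rintro rfl
  exact one_ne_zero (α := F) (by linear_combination hω - two_eq_zero hF)

theorem iota_inj (hF : Fintype.card F = 2 ^ 2) {ω : F} (hω : ω ^ 2 + ω + 1 = 0) {a b : ℕ} (ha : a < 4)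
    (hb : b < 4) (h : iota ω a = iota ω b) : a = b := by
  have h0 := omega_ne_zero hω
  have h1 := omega_ne_one hF hω
  have h2 : ω ^ 2 ≠ 0 := pow_ne_zero _ h0
  have h3 : ω ^ 2 ≠ 1 := fun e => h0 (by linear_combination hω - e - two_eq_zero hF)
  have h4 : ω ^ 2 ≠ ω := fun e => h1 (mul_left_cancel₀ h0 (by linear_combination e))
  interval_cases a <;> interval_cases b <;> simp only [iota] at h <;>
    first | rfl | exact absurd h (by first | exact zero_ne_one | exact one_ne_zero) |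
      exact absurd h h0 | exact absurd h h1 | exact absurd h h2 | exact absurd h h3 | exact absurd h h4 |
      exact absurd h.symm h0 | exact absurd h.symm h1 | exact absurd h.symm h2 | exact absurd h.symm h3 |
      exact absurd h.symm h4

theorem iota_surj (hF : Fintype.card F = 2 ^ 2) {ω : F} (hω : ω ^ 2 + ω + 1 = 0) (x : F) :
    ∃ a < 4, iota ω a = x := by
  have hb : Function.Bijective (fun a : Fin 4 => iota ω a.1) :=
    (Fintype.bijective_iff_injective_and_card _).2
      ⟨fun a b h => Fin.ext (iota_inj hF hω a.2 b.2 h), by rw [Fintype.card_fin, hF]; norm_num⟩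
  obtain ⟨a, ha⟩ := hb.2 x
  exact ⟨a.1, a.2, ha⟩

theorem iota_xor (hF : Fintype.card F = 2 ^ 2) {ω : F} (hω : ω ^ 2 + ω + 1 = 0) {a b : ℕ} (ha : a < 4)
    (hb : b < 4) : iota ω (a ^^^ b) = iota ω a + iota ω b := by
  have h2 := two_eq_zero hF
  interval_cases a <;> interval_cases b <;> simp [iota] <;>
    first | linear_combination hω - (0 : F) * h2 | linear_combination hω - h2 | linear_combination hω - ω * h2 | linear_combination hω - ω ^ 2 * h2 |
      linear_combination -h2 | linear_combination -ω * h2 | linear_combination -ω ^ 2 * h2 |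
      linear_combination -hω + (0 : F) * h2 |
      linear_combination hω - (1 + ω) * h2 | linear_combination hω - (1 + ω ^ 2) * h2 |
      linear_combination hω - (ω + ω ^ 2) * h2

theorem iota_mul (hF : Fintype.card F = 2 ^ 2) {ω : F} (hω : ω ^ 2 + ω + 1 = 0) {a b : ℕ} (ha : a < 4)
    (hb : b < 4) : iota ω (mul4 a b) = iota ω a * iota ω b := by
  have h3 := CfsgLib.UnitaryTransv.pow_three hF (omega_ne_zero hω)
  interval_cases a <;> interval_cases b <;> simp [iota, mul4] <;>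
    first | ring1 | linear_combination (-1 : F) * h3 | linear_combination h3 | linear_combination -ω * h3 | linear_combination ω * h3

theorem mul4_lt (a b : ℕ) : mul4 a b < 4 := by
  have : mul4 a b ≤ 3 := Nat.and_le_right
  omega

theorem iota_conj (hF : Fintype.card F = 2 ^ 2) {ω : F} (hω : ω ^ 2 + ω + 1 = 0) {a : ℕ} (ha : a < 4) :
    iota ω (conj4 a) = iota ω a ^ 2 := by
  rw [conj4, iota_mul hF hω ha ha, pow_two]

theorem iota_diag (hF : Fintype.card F = 2 ^ 2) {ω : F} (hω : ω ^ 2 + ω + 1 = 0) {x : F} (hx : x ^ 2 = x) :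
    ∃ a < 2, iota ω a = x := by
  by_cases h : x = 0
  · exact ⟨0, by norm_num, h.symm⟩
  · exact ⟨1, by norm_num, (fixed_eq_one hF hx h).symm⟩

/-- A frame: two dual maximal totally isotropic triples. -/
structure Fr (hF : Fintype.card F = 2 ^ 2) where
  /-- the first triple -/
  e : Fin 3 → (Fin 6 → F)
  /-- the second triple -/
  f : Fin 3 → (Fin 6 → F)
  ee : ∀ i j, (stdHerm hF 6).h (e i) (e j) = 0
  ff : ∀ i j, (stdHerm hF 6).h (f i) (f j) = 0
  ef : ∀ i j, (stdHerm hF 6).h (e i) (f j) = if i = j then 1 else 0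

theorem Fr.fe (P : Fr hF) (i j : Fin 3) :
    (stdHerm hF 6).h (P.f i) (P.e j) = if i = j then 1 else 0 := by
  rw [← (stdHerm hF 6).symm', P.ef]
  by_cases h : i = j
  · subst h; simp
  · simp [h, Ne.symm h]

theorem h_sum_left {n : ℕ} {ι : Type*} (s : Finset ι) (g : ι → (Fin n → F)) (y : Fin n → F) :
    (stdHerm hF n).h (∑ i ∈ s, g i) y = ∑ i ∈ s, (stdHerm hF n).h (g i) y := by
  classical
  induction s using Finset.induction_on with
  | empty => simp only [Finset.sum_empty]; exact (stdHerm hF n).zero_left y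
  | insert i s hi ih => rw [Finset.sum_insert hi, Finset.sum_insert hi, (stdHerm hF n).add_left, ih]

theorem h_sum_right {n : ℕ} {ι : Type*} (s : Finset ι) (g : ι → (Fin n → F)) (y : Fin n → F) :
    (stdHerm hF n).h y (∑ i ∈ s, g i) = ∑ i ∈ s, (stdHerm hF n).h y (g i) := by
  classical
  induction s using Finset.induction_on with
  | empty => simp only [Finset.sum_empty]; exact (stdHerm hF n).zero_right y
  | insert i s hi ih => rw [Finset.sum_insert hi, Finset.sum_insert hi, (stdHerm hF n).add_right, ih]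

theorem Fr.decomp (P : Fr hF) (x : Fin 6 → F) :
    x = ∑ i, (stdHerm hF 6).h x (P.f i) • P.e i + ∑ i, (stdHerm hF 6).h x (P.e i) • P.f i := by
  let H := stdHerm hF 6
  have key : ∀ y : Fin 6 → F, ∀ a b : Fin 3 → F, y = ∑ i, a i • P.e i + ∑ i, b i • P.f i →
      (∀ i, H.h y (P.f i) = a i) ∧ ∀ i, H.h y (P.e i) = b i := by
    rintro y a b rfl
    constructor <;> intro i
    · rw [H.add_left, h_sum_left, h_sum_left]
      simp [H.smul_left, P.ef, P.ff, Finset.sum_ite_eq', Finset.mem_univ, H]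
    · rw [H.add_left, h_sum_left, h_sum_left]
      simp [H.smul_left, P.ee, P.fe, Finset.sum_ite_eq', Finset.mem_univ, H]
  let w : Fin 3 ⊕ Fin 3 → (Fin 6 → F) := Sum.elim P.e P.f
  have hli : LinearIndependent F w := by
    rw [Fintype.linearIndependent_iff]
    intro g hg
    have h0 := key 0 (fun i => g (Sum.inl i)) (fun i => g (Sum.inr i)) (by
      rw [← hg, Fintype.sum_sum_type]; rfl)
    rintro (i | i)
    · rw [← h0.1 i, H.zero_left]
    · rw [← h0.2 i, H.zero_left]
  have hsp : Submodule.span F (Set.range w) = ⊤ :=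
    hli.span_eq_top_of_card_eq_finrank' (by simp)
  have hx : x ∈ Submodule.span F (Set.range w) := hsp ▸ Submodule.mem_top
  obtain ⟨c, hc⟩ := (Submodule.mem_span_range_iff_exists_fun F).1 hx
  have h1 : x = ∑ i, c (Sum.inl i) • P.e i + ∑ i, c (Sum.inr i) • P.f i := by
    rw [← hc, Fintype.sum_sum_type]; rfl
  obtain ⟨ha, hb⟩ := key x _ _ h1
  simp only [H] at ha hb
  simp only [ha, hb]
  exact h1

/-- The pointwise stabiliser of the first triple. -/
def Fr.U (P : Fr hF) : Subgroup (Unit' (stdHerm hF 6)) where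
  carrier := {g | ∀ i, g.1 (P.e i) = P.e i}
  one_mem' i := one_apply _
  mul_mem' {a b} ha hb i := by rw [CfsgLib.Classical.Herm.mul_apply, hb i, ha i]
  inv_mem' {a} ha i := by
    conv_lhs => rw [← ha i]
    exact inv_apply_self a _

theorem Fr.mem_U (P : Fr hF) {g : Unit' (stdHerm hF 6)} : g ∈ P.U ↔ ∀ i, g.1 (P.e i) = P.e i :=
  Iff.rfl

/-- The vector with a given code. -/
def Fr.vec (P : Fr hF) (ω : F) (v : ℕ) : Fin 6 → F := ∑ i : Fin 3, iota ω (comp4 v i) • P.e i

theorem Fr.h_vec_vec (P : Fr hF) (ω : F) (v w : ℕ) :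
    (stdHerm hF 6).h (P.vec ω v) (P.vec ω w) = 0 := by
  rw [Fr.vec, Fr.vec, h_sum_left]
  refine Finset.sum_eq_zero fun i _ => ?_
  rw [(stdHerm hF 6).smul_left, h_sum_right]
  simp [(stdHerm hF 6).smul_right, P.ee]

/-- The transvection of a coded vector. -/
def Fr.tvv (P : Fr hF) (ω : F) (v : ℕ) : Unit' (stdHerm hF 6) := tv hF (P.vec ω v) (P.h_vec_vec ω v v)

/-- An element given by a coded hermitian matrix. -/
def Fr.HasCode (P : Fr hF) (ω : F) (g : Unit' (stdHerm hF 6)) (c : ℕ) : Prop :=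
  ∀ x, g.1 x = x + ∑ i : Fin 3, ∑ j : Fin 3, (iota ω (ent4 c i j) * (stdHerm hF 6).h x (P.e j)) • P.e i

theorem Fr.HasCode.mem_U {P : Fr hF} {ω : F} {g : Unit' (stdHerm hF 6)} {c : ℕ} (h : P.HasCode ω g c) :
    g ∈ P.U := fun i => by
  rw [h]; simp [P.ee]

theorem Fr.hasCode_one (P : Fr hF) (ω : F) : P.HasCode ω 1 0 := fun x => by
  rw [one_apply]
  simp [ent4_zero _ _ (Fin.is_lt _) (Fin.is_lt _), iota]

theorem Fr.HasCode.eq {P : Fr hF} {ω : F} {g g' : Unit' (stdHerm hF 6)} {c : ℕ} (h : P.HasCode ω g c)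
    (h' : P.HasCode ω g' c) : g = g' :=
  unit_ext fun x => by rw [h x, h' x]

theorem Fr.HasCode.h_f {P : Fr hF} {ω : F} {g : Unit' (stdHerm hF 6)} {c : ℕ} (h : P.HasCode ω g c)
    (i j : Fin 3) : (stdHerm hF 6).h (g.1 (P.f j)) (P.f i) = iota ω (ent4 c i j) := by
  rw [h, (stdHerm hF 6).add_left, P.ff, zero_add, h_sum_left,
    Finset.sum_eq_single i, h_sum_left, Finset.sum_eq_single j]
  · rw [(stdHerm hF 6).smul_left, P.ef, P.fe, if_pos rfl, if_pos rfl, mul_one, mul_one]
  · intro k _ hk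
    rw [(stdHerm hF 6).smul_left, P.fe, if_neg (Ne.symm hk), mul_zero, zero_mul]
  · simp
  · intro k _ hk
    rw [h_sum_left]
    refine Finset.sum_eq_zero fun l _ => ?_
    rw [(stdHerm hF 6).smul_left, P.ef, if_neg hk, mul_zero]
  · simp

theorem Fr.HasCode.inj {P : Fr hF} {ω : F} (hω : ω ^ 2 + ω + 1 = 0) {g : Unit' (stdHerm hF 6)}
    {c c' : ℕ} (hc : c < 512) (hc' : c' < 512) (h : P.HasCode ω g c) (h' : P.HasCode ω g c') :
    c = c' := by
  have e : ∀ i j : Fin 3, ent4 c i j = ent4 c' i j := fun i j =>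
    iota_inj hF hω (ent4_lt hc i.2 j.2).1 (ent4_lt hc' i.2 j.2).1 (by rw [← h.h_f, ← h'.h_f])
  rw [ent_det hc, ent_det hc']
  have := e 0 0; have := e 1 1; have := e 2 2; have := e 0 1; have := e 0 2; have := e 1 2
  simp only [Fin.val_zero, Fin.val_one, Fin.val_two] at *
  simp [*]

theorem Fr.HasCode.mul {P : Fr hF} {ω : F} (hω : ω ^ 2 + ω + 1 = 0) {g g' : Unit' (stdHerm hF 6)}
    {c c' : ℕ} (hc : c < 512) (hc' : c' < 512) (h : P.HasCode ω g c) (h' : P.HasCode ω g' c') :
    P.HasCode ω (g * g') (c ^^^ c') := fun x => by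
  have hU : ∀ i, g.1 (P.e i) = P.e i := h.mem_U
  rw [CfsgLib.Classical.Herm.mul_apply, h' x, map_add, map_sum, h x]
  simp only [map_sum, map_smul, hU]
  rw [add_assoc, ← Finset.sum_add_distrib]
  congr 1
  refine Finset.sum_congr rfl fun i _ => ?_
  rw [← Finset.sum_add_distrib]
  refine Finset.sum_congr rfl fun j _ => ?_
  rw [ent4_xor c c' i.2 j.2, iota_xor hF hω (ent4_lt hc i.2 j.2).1 (ent4_lt hc' i.2 j.2).1, add_mul,
    add_smul]

theorem Fr.hasCode_tvv (P : Fr hF) {ω : F} (hω : ω ^ 2 + ω + 1 = 0) {v : ℕ} (hv : v < 64) :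
    P.HasCode ω (P.tvv ω v) (outer4 v) := fun x => by
  rw [Fr.tvv, tv_apply]
  congr 1
  conv_lhs => rw [Fr.vec, h_sum_right]
  rw [Finset.smul_sum]
  refine Finset.sum_congr rfl fun i _ => ?_
  rw [Finset.sum_smul]
  refine Finset.sum_congr rfl fun j _ => ?_
  rw [(code_spec hv).2.2 i j i.2 j.2, iota_mul hF hω (b := conj4 (comp4 v j)) (comp4_lt v i) (mul4_lt _ _),
    iota_conj hF hω (comp4_lt v j), (stdHerm hF 6).smul_right, stdHerm_conj, smul_smul]
  congr 1
  ring

/-- The element with given coordinates. -/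
def Fr.u (P : Fr hF) (ω : F) (n : ℕ) : Unit' (stdHerm hF 6) := prodBits (baseVecs.map (P.tvv ω)) n

theorem Fr.hasCode_prod (P : Fr hF) {ω : F} (hω : ω ^ 2 + ω + 1 = 0) (ws : List ℕ)
    (h : ∀ w ∈ ws, w < 64) (n : ℕ) :
    P.HasCode ω (prodBits (ws.map (P.tvv ω)) n) (lin (ws.map outer4) n) := by
  induction ws generalizing n with
  | nil => exact P.hasCode_one ω
  | cons w ws ih =>
    have hw := h w List.mem_cons_self
    have hrest : ∀ v ∈ ws, v < 64 := fun v hv => h v (List.mem_cons_of_mem _ hv)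
    simp only [List.map_cons, prodBits, lin]
    refine Fr.HasCode.mul hω ?_ ?_ ?_ (ih hrest _)
    · cases Nat.beq (n % 2) 1
      · norm_num
      · exact (code_spec hw).1
    · exact lin_lt _ (fun t ht => by
        obtain ⟨v, hv, rfl⟩ := List.mem_map.1 ht
        exact (code_spec (hrest v hv)).1) _
    · cases Nat.beq (n % 2) 1
      · exact P.hasCode_one ω
      · exact P.hasCode_tvv hω hw

theorem Fr.hasCode_u (P : Fr hF) {ω : F} (hω : ω ^ 2 + ω + 1 = 0) (n : ℕ) :
    P.HasCode ω (P.u ω n) (lin baseMats n) := by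
  rw [baseMats_eq]
  exact P.hasCode_prod hω baseVecs baseVecs_lt n

theorem Fr.u_mem (P : Fr hF) {ω : F} (hω : ω ^ 2 + ω + 1 = 0) (n : ℕ) : P.u ω n ∈ P.U :=
  (P.hasCode_u hω n).mem_U

theorem Fr.u_xor (P : Fr hF) {ω : F} (hω : ω ^ 2 + ω + 1 = 0) {a b : ℕ} (ha : a < 512) (hb : b < 512) :
    P.u ω (a ^^^ b) = P.u ω a * P.u ω b := by
  refine (P.hasCode_u hω _).eq ?_
  rw [lin_xor]
  exact Fr.HasCode.mul hω (coord_spec ha).2.2.1 (coord_spec hb).2.2.1 (P.hasCode_u hω a) (P.hasCode_u hω b)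

theorem Fr.u_inj (P : Fr hF) {ω : F} (hω : ω ^ 2 + ω + 1 = 0) {a b : ℕ} (ha : a < 512) (hb : b < 512)
    (h : P.u ω a = P.u ω b) : a = b := by
  have e := (P.hasCode_u hω a).inj hω (coord_spec ha).2.2.1 (coord_spec hb).2.2.1
    (h ▸ P.hasCode_u hω b)
  rw [← (coord_spec ha).2.1, e, (coord_spec hb).2.1]

theorem Fr.exists_u (P : Fr hF) {ω : F} (hω : ω ^ 2 + ω + 1 = 0) {g : Unit' (stdHerm hF 6)}
    (hg : g ∈ P.U) : ∃ n < 512, g = P.u ω n := by
  let H := stdHerm hF 6
  have hge : ∀ j i, H.h (g.1 (P.f j)) (P.e i) = H.h (P.f j) (P.e i) := fun j i => by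
    conv_lhs => rw [← hg i]
    exact unit_h g _ _
  let M : Fin 3 → Fin 3 → F := fun i j => H.h (g.1 (P.f j)) (P.f i)
  have hgf : ∀ j, g.1 (P.f j) = P.f j + ∑ i, M i j • P.e i := fun j => by
    conv_lhs => rw [P.decomp (g.1 (P.f j))]
    rw [add_comm]
    congr 1
    simp [hge, P.fe, Finset.sum_ite_eq, Finset.mem_univ, H]
  have hM : ∀ i j, M i j = M j i ^ 2 := by
    intro i j
    have h := unit_h g (P.f j) (P.f i)
    rw [P.ff] at h
    rw [hgf i] at h
    rw [H.add_right, h_sum_right] at h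
    simp only [H.smul_right, hge, P.fe, H] at h
    rw [Finset.sum_eq_single j (fun k _ hk => by rw [if_neg (Ne.symm hk), mul_zero]) (by simp), if_pos rfl,
      mul_one, stdHerm_conj] at h
    exact (eq_neg_of_add_eq_zero_left h).trans (neg_eq hF _)
  obtain ⟨a, ha, ha'⟩ := iota_diag hF hω (hM 0 0).symm
  obtain ⟨b, hb, hb'⟩ := iota_diag hF hω (hM 1 1).symm
  obtain ⟨c, hc, hc'⟩ := iota_diag hF hω (hM 2 2).symm
  obtain ⟨p, hp, hp'⟩ := iota_surj hF hω (M 0 1)
  obtain ⟨q, hq, hq'⟩ := iota_surj hF hω (M 0 2)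
  obtain ⟨r, hr, hr'⟩ := iota_surj hF hω (M 1 2)
  obtain ⟨m, hm, e00, e11, e22, e01, e02, e12⟩ := exists_code a b c p q r ha hb hc hp hq hr
  refine ⟨lin coordTab m, (coord_spec hm).2.2.2, ?_⟩
  have hu := P.hasCode_u hω (lin coordTab m)
  rw [(coord_spec hm).1] at hu
  have hent : ∀ i j : Fin 3, M i j = iota ω (ent4 m i j) := by
    have hl : ∀ i j : Fin 3, (i, j) = (0, 0) ∨ (i, j) = (1, 1) ∨ (i, j) = (2, 2) ∨ (i, j) = (0, 1) ∨
        (i, j) = (0, 2) ∨ (i, j) = (1, 2) → M i j = iota ω (ent4 m i j) := by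
      intro i j h
      simp only [Prod.mk.injEq] at h
      rcases h with ⟨rfl, rfl⟩ | ⟨rfl, rfl⟩ | ⟨rfl, rfl⟩ | ⟨rfl, rfl⟩ | ⟨rfl, rfl⟩ | ⟨rfl, rfl⟩ <;>
        simp only [Fin.val_zero, Fin.val_one, Fin.val_two, e00, e11, e22, e01, e02, e12, ha', hb', hc', hp',
          hq', hr']
    intro i j
    by_cases h : (i, j) = (0, 0) ∨ (i, j) = (1, 1) ∨ (i, j) = (2, 2) ∨ (i, j) = (0, 1) ∨
        (i, j) = (0, 2) ∨ (i, j) = (1, 2)
    · exact hl i j h
    · rw [hM, hl j i (by revert h; revert i j; decide), (ent4_lt hm j.2 i.2).2,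
        iota_conj hF hω (ent4_lt hm j.2 i.2).1]
  refine unit_ext fun x => ?_
  rw [hu x]
  conv_lhs => rw [P.decomp x]
  conv_rhs => rw [P.decomp x]
  simp only [map_add, map_sum, map_smul, hg _, hgf, smul_add, Finset.sum_add_distrib, ← add_assoc,
    H.add_left, h_sum_left, H.smul_left, P.ee, P.fe, mul_zero, Finset.sum_const_zero, zero_add, hent,
    mul_ite, mul_one, Finset.sum_ite_eq', Finset.mem_univ, if_true, H]
  congr 1
  simp only [Finset.smul_sum, smul_smul]
  rw [Finset.sum_comm]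
  exact Finset.sum_congr rfl fun i _ => Finset.sum_congr rfl fun j _ => by rw [mul_comm]

theorem Fr.u_conj (P : Fr hF) {ω : F} (hω : ω ^ 2 + ω + 1 = 0) {g : Unit' (stdHerm hF 6)}
    {ws : List ℕ} (hws : ∀ w ∈ ws, w < 64)
    (h : baseVecs.map (fun v => g.1 (P.vec ω v)) = ws.map (P.vec ω)) (n : ℕ) :
    g * P.u ω n * g⁻¹ = P.u ω (lin (ws.map code4) n) := by
  have e1 : g * P.u ω n * g⁻¹ = prodBits (ws.map (P.tvv ω)) n := by
    have e : baseVecs.map (fun v => g * P.tvv ω v * g⁻¹) = ws.map (P.tvv ω) := by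
      refine List.ext_getElem (by simpa using congrArg List.length h) fun k h1 h2 => ?_
      simp only [List.length_map] at h1 h2
      have hk := List.getElem_of_eq h (i := k) (by simpa using h1)
      simp only [List.getElem_map] at hk ⊢
      exact (tv_conj hF g _ _).trans (tv_congr hF _ _ hk)
    rw [← e, show g * P.u ω n * g⁻¹ = (MulAut.conj g).toMonoidHom (P.u ω n) from rfl, Fr.u, prodBits_map,
      List.map_map]
    rfl
  rw [e1]
  refine (P.hasCode_prod hω ws hws n).eq ?_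
  have := P.hasCode_u hω (lin (ws.map code4) n)
  rwa [lin_outer hws] at this

end CfsgLib.U6Cover
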