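import Cfsg.Agent.Lib.U6Cover.Final

/-!
The conjugates of the involution in its centraliser lie over transvections, and those normalising the subgroup of
order `2 ^ 10` lie in it and generate it.
-/

set_option autoImplicit false
set_option linter.unusedSectionVars false

namespace CfsgLib.U6Cover

open CfsgLib.Classical.Herm HermSpace CfsgLib.UnitaryTransv

attribute [-simp] stdHerm_h

variable {F : Type*} [Field F] [Fintype F] {hF : Fintype.card F = 2 ^ 2} {G : Type*} [Group G] [Finite G]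

theorem base_rank_ok : ∀ v ∈ baseVecs,
    code4 v < 512 ∧ code4 v ≠ 0 ∧ rank4 (code4 v) = 1 := by decide +kernel

/-- A coordinate of rank one gives a transvection. -/
theorem Data.exists_tv_of_rank_one {C : Type*} [Group C] [Finite C] (D : Data hF C) (P : Fr hF) {ω : F}
    (hω : ω ^ 2 + ω + 1 = 0) {n : ℕ} (hn : n < 512) (hn0 : n ≠ 0) (hr : rank4 n = 1) :
    ∃ (v : Fin 6 → F) (hv : (stdHerm hF 6).h v v = 0), P.u ω n = tv hF v hv := by
  let f : ℕ → Prop := fun m => ∃ (v : Fin 6 → F) (hv : (stdHerm hF 6).h v v = 0), P.u ω m = tv hF v hv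
  have hf : ∀ g < 6, ∀ m < 512, f (genAct g m) = f m := by
    intro g hg m hm
    obtain ⟨c, -, hc⟩ := exists_genAct D P hω g hg
    obtain ⟨k, hk⟩ := D.exists_L c
    have hgm : genAct g m < 512 := lin_lt _ (by interval_cases g <;> decide +kernel) m
    have e : k * P.u ω m * k⁻¹ = P.u ω (genAct g m) := by
      refine (hc m).eq_of_invol (hk.conj (D.L_au P ω m)) (D.u_sq P hω hgm) ?_
      rw [show k * P.u ω m * k⁻¹ * (k * P.u ω m * k⁻¹) = k * (P.u ω m * P.u ω m) * k⁻¹ by group,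
        D.u_sq P hω hm, mul_one, mul_inv_cancel]
    refine propext ⟨fun ⟨v, hv, h⟩ => ?_, fun ⟨v, hv, h⟩ => ?_⟩
    · refine ⟨k⁻¹.1 v, by rw [unit_h]; exact hv, ?_⟩
      rw [← tv_conj hF k⁻¹ v hv, ← h, ← e]; group
    · refine ⟨k.1 v, by rw [unit_h]; exact hv, ?_⟩
      rw [← tv_conj hF k v hv, ← h, e]
  obtain ⟨h, -⟩ := root_invariant f hf hn hn0
  have hroot : root4 n = 1 := by
    unfold rank4 at hr
    by_contra hne
    rw [show Nat.beq (root4 n) 1 = false from Bool.eq_false_iff.2 fun e => hne (Nat.eq_of_beq_eq_true e)] at hr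
    revert hr
    cases Nat.beq (root4 n) 3 <;> simp
  show f n
  rw [h, hroot]
  refine ⟨P.vec ω 1, P.h_vec_vec ω 1 1, ?_⟩
  have h1 := P.hasCode_u hω 1
  have h2 := P.hasCode_tvv hω (show 1 < 64 by norm_num)
  rw [show lin baseMats 1 = outer4 1 by decide +kernel] at h1
  exact h1.eq h2

variable (T : Ctx hF G) (P : Fr hF)

/-- A conjugate other than the involution itself lies over a transvection. -/
theorem Ctx.conj_tv {c : ↥(Subgroup.centralizer ({T.d} : Set G))} (hc : IsConj T.d (c : G)) (hne : (c : G) ≠ T.d) :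
    ∃ (v : Fin 6 → F) (hv : (stdHerm hF 6).h v v = 0), T.D.L c (tv hF v hv) := by
  obtain ⟨ω, hω⟩ := exists_omega hF
  have hsq : c * c = 1 := by
    obtain ⟨g, hg⟩ := isConj_iff.1 hc
    apply Subtype.ext
    show (c : G) * c = 1
    rw [← hg, show g * T.d * g⁻¹ * (g * T.d * g⁻¹) = g * (T.d * T.d) * g⁻¹ by group, T.d_sq, mul_one,
      mul_inv_cancel]
  obtain ⟨k, hk, hk2⟩ := T.D.exists_invol hsq
  obtain ⟨Q, hQ⟩ := exists_frame_fixed hF k hk2
  have hcQ : c ∈ T.D.A Q := ⟨k, hQ, hk⟩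
  obtain ⟨p, hp⟩ := (T.elv_spec Q hω).2.2 _ ⟨c, hcQ, rfl⟩
  obtain ⟨n, b⟩ := p
  change T.elv Q ω (n, b) = (c : G) at hp
  have hχ : T.chi (T.elv Q ω (n, b)) = 1 := by rw [hp]; exact T.chi_eq_one.2 hc
  have hn0 : (n : ℕ) ≠ 0 := by
    intro h0
    cases b
    · rw [T.elv_false, h0, T.av_zero, T.chi_one] at hχ; exact zero_ne_one hχ
    · rw [T.elv_true, h0, T.av_zero, one_mul] at hp; exact hne hp.symm
  have hcnt := T.cnt_eq Q hω n n.2
  have hr : rank4 n = 1 := by
    by_contra hr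
    have hb : Nat.beq (n : ℕ) 0 = false := Bool.eq_false_iff.2 fun e => hn0 (Nat.eq_of_beq_eq_true e)
    have hb' : Nat.beq (rank4 n) 1 = false := Bool.eq_false_iff.2 fun e => hr (Nat.eq_of_beq_eq_true e)
    simp only [sel, hb, hb', cond_false, Bool.cond_self] at hcnt
    unfold Ctx.cnt at hcnt
    cases b
    · rw [T.elv_false] at hχ; omega
    · rw [T.elv_true] at hχ; omega
  obtain ⟨v, hv, hu⟩ := T.D.exists_tv_of_rank_one Q hω n.2 hn0 hr
  refine ⟨v, hv, hu ▸ ?_⟩
  have : T.D.el Q ω (n, b) = c := Subtype.ext hp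
  rw [← this]
  unfold Data.el
  cases b
  · rw [cond_false, mul_one]; exact T.D.L_au Q ω _
  · exact (T.D.L_au Q ω _).mul_z

/-- A conjugate in the centraliser normalising `A` lies in `A`. -/
theorem Ctx.conj_mem_A {c : ↥(Subgroup.centralizer ({T.d} : Set G))} (hc : IsConj T.d (c : G))
    (hn : c ∈ Subgroup.normalizer (T.D.A P : Set ↥(Subgroup.centralizer ({T.d} : Set G)))) : c ∈ T.D.A P := by
  by_cases hne : (c : G) = T.d
  · rw [show c = T.D.z from Subtype.ext (hne.trans T.hz.symm)]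
    exact T.D.z_mem P
  obtain ⟨v, hv, hL⟩ := T.conj_tv hc hne
  refine ⟨_, fun i => ?_, hL⟩
  have hW := T.D.inW_of_mem P hL hn i
  rw [tv_apply]
  by_cases h0 : (stdHerm hF 6).h (P.e i) v = 0
  · rw [h0, zero_smul, add_zero]
  exfalso
  have hvW : ∀ j, (stdHerm hF 6).h v (P.e j) = 0 := fun j => by
    have h := hW j
    rw [tv_apply, HermSpace.add_left, HermSpace.smul_left, P.ee, zero_add] at h
    exact (mul_eq_zero.1 h).resolve_left h0
  exact h0 ((stdHerm hF 6).h_comm_zero (hvW i))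

/-- The conjugates generate `A`. -/
theorem Ctx.AG_le_closure : T.AG P ≤ Subgroup.closure {x : G | x ∈ T.AG P ∧ IsConj T.d x} := by
  obtain ⟨ω, hω⟩ := exists_omega hF
  set K := Subgroup.closure {x : G | x ∈ T.AG P ∧ IsConj T.d x}
  have hd : T.d ∈ K := Subgroup.subset_closure ⟨T.d_mem P, IsConj.refl _⟩
  have hbase : ∀ v ∈ baseVecs, (T.D.s (P.tvv ω v) : G) ∈ K := by
    intro v hv
    obtain ⟨hlt, h0, hr⟩ := base_rank_ok v hv
    have hu : P.u ω (code4 v) = P.tvv ω v := by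
      refine (P.hasCode_u hω _).eq ?_
      rw [code4, (coord_spec (code_spec (baseVecs_lt v hv)).1).1]
      exact P.hasCode_tvv hω (baseVecs_lt v hv)
    have hcnt := T.cnt_eq P hω (code4 v) hlt
    have hb : Nat.beq (code4 v) 0 = false := Bool.eq_false_iff.2 fun e => h0 (Nat.eq_of_beq_eq_true e)
    simp only [sel, hb, hr, cond_false, Nat.beq_refl, cond_true] at hcnt
    have hm : T.av P ω (code4 v) ∈ T.AG P := ⟨_, T.D.au_mem P hω _, rfl⟩
    have hav : T.av P ω (code4 v) ∈ K := by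
      unfold Ctx.cnt at hcnt
      rcases Nat.eq_zero_or_pos (T.chi (T.av P ω (code4 v))) with h | h
      · have hmem : T.av P ω (code4 v) * T.d ∈ K :=
          Subgroup.subset_closure ⟨mul_mem hm (T.d_mem P), T.chi_eq_one.1 (by omega)⟩
        have := mul_mem hmem hd
        rwa [mul_assoc, T.d_sq, mul_one] at this
      · exact Subgroup.subset_closure ⟨hm, T.chi_eq_one.1 (by omega)⟩
    have hL : T.D.L (T.D.au P ω (code4 v)) (P.tvv ω v) := hu ▸ T.D.L_au P ω (code4 v)
    rcases hL.eq_or (T.D.L_s_tvv P ω v) with e | e <;> rw [e]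
    · exact hav
    · rw [Subgroup.coe_mul, T.hz]; exact mul_mem hav hd
  intro x hx
  obtain ⟨⟨n, b⟩, hp⟩ := (T.elv_spec P hω).2.2 x hx
  have hav : T.av P ω n ∈ K := by
    show (T.D.au P ω n : G) ∈ K
    exact prodBits_mem (K.comap (Subgroup.centralizer ({T.d} : Set G)).subtype).toSubmonoid
      (baseVecs.map fun v => T.D.s (P.tvv ω v)) (fun t ht => by
      obtain ⟨v, hv, rfl⟩ := List.mem_map.1 ht
      exact hbase v hv) n
  rw [← hp]
  cases b
  · rw [T.elv_false]; exact hav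
  · rw [T.elv_true]; exact mul_mem hav hd

end CfsgLib.U6Cover
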