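import Cfsg.Agent.Lib.U6Cover.MultSplit

/-!
The kernel of a perfect central extension of `PSU(6, 2)` by a group of exponent two has order at most four.
-/

set_option autoImplicit false
set_option linter.unusedSectionVars false

namespace CfsgLib.U6Cover

open Module CfsgLib.Classical.Herm HermSpace CfsgLib.UnitaryTransv

attribute [-simp] stdHerm_h

variable {F : Type*} [Field F] [Fintype F] {hF : Fintype.card F = 2 ^ 2}

/-- The linear map taking one frame to another. -/
noncomputable def Fr.toFrame (P Q : Fr hF) : (Fin 6 → F) →ₗ[F] (Fin 6 → F) where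
  toFun x := ∑ i, (stdHerm hF 6).h x (P.f i) • Q.e i + ∑ i, (stdHerm hF 6).h x (P.e i) • Q.f i
  map_add' x y := by
    simp only [(stdHerm hF 6).add_left, add_smul, Finset.sum_add_distrib]
    abel
  map_smul' a x := by
    simp only [(stdHerm hF 6).smul_left, RingHom.id_apply, smul_add, Finset.smul_sum, smul_smul]

theorem Fr.toFrame_basis (P Q : Fr hF) (i : Fin 3) :
    P.toFrame Q (P.e i) = Q.e i ∧ P.toFrame Q (P.f i) = Q.f i := by
  constructor <;>
    fin_cases i <;> simp [Fr.toFrame, Fin.sum_univ_three, P.ee, P.ff, P.ef, P.fe]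

/-- An isometry of determinant one exchanging two frames. -/
theorem Fr.exists_exchange (P Q : Fr hF) (he : ∀ i, P.toFrame Q (Q.e i) = P.e i)
    (hf : ∀ i, P.toFrame Q (Q.f i) = P.f i) :
    ∃ k : Unit' (stdHerm hF 6), detHom (stdHerm hF 6) k = 1 ∧ ∀ i, k.1 (P.e i) = Q.e i := by
  have hinv : ∀ x, P.toFrame Q (P.toFrame Q x) = x := fun x => by
    show P.toFrame Q (∑ i, _ + ∑ i, _) = x
    simp only [map_add, map_sum, map_smul, he, hf]
    exact (P.decomp x).symm
  let L : (Fin 6 → F) ≃ₗ[F] (Fin 6 → F) :=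
    LinearEquiv.ofLinearMap (P.toFrame Q) (P.toFrame Q) (LinearMap.ext hinv) (LinearMap.ext hinv)
  have hL : ∀ x y, (stdHerm hF 6).h (L x) (L y) = (stdHerm hF 6).h x y := by
    intro x y
    conv_rhs => rw [P.decomp x, P.decomp y]
    show (stdHerm hF 6).h (∑ i, _ + ∑ i, _) (∑ i, _ + ∑ i, _) = _
    simp only [Fin.sum_univ_three, (stdHerm hF 6).add_left, (stdHerm hF 6).add_right, (stdHerm hF 6).smul_left,
      (stdHerm hF 6).smul_right, P.ee, P.ff, P.ef, P.fe, Q.ee, Q.ff, Q.ef, Q.fe]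
  refine ⟨⟨L, hL⟩, ?_, fun i => (P.toFrame_basis Q i).1⟩
  have hkk : (⟨L, hL⟩ : Unit' (stdHerm hF 6)) * ⟨L, hL⟩ = 1 := unit_ext hinv
  have h2 := congrArg (detHom (stdHerm hF 6)) hkk
  rw [map_mul, map_one] at h2
  refine Units.ext (eq_one_of_scalar_sq hF ?_)
  rw [pow_two, ← Units.val_mul, h2, Units.val_one]

theorem Fr.exchange_P2 (P : Fr hF) :
    ∃ k : Unit' (stdHerm hF 6), detHom (stdHerm hF 6) k = 1 ∧ ∀ i, k.1 (P.e i) = P.P2.e i := by
  refine P.exists_exchange P.P2 (fun i => ?_) fun i => ?_ <;>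
    fin_cases i <;>
      first | exact (P.toFrame_basis P.P2 0).1 | exact (P.toFrame_basis P.P2 0).2 |
        exact (P.toFrame_basis P.P2 1).1 | exact (P.toFrame_basis P.P2 1).2 |
        exact (P.toFrame_basis P.P2 2).1 | exact (P.toFrame_basis P.P2 2).2

theorem Fr.exchange_P3 (P : Fr hF) :
    ∃ k : Unit' (stdHerm hF 6), detHom (stdHerm hF 6) k = 1 ∧ ∀ i, k.1 (P.e i) = P.P3.e i := by
  refine P.exists_exchange P.P3 (fun i => ?_) fun i => ?_ <;>
    fin_cases i <;>
      first | exact (P.toFrame_basis P.P3 0).1 | exact (P.toFrame_basis P.P3 0).2 |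
        exact (P.toFrame_basis P.P3 1).1 | exact (P.toFrame_basis P.P3 1).2 |
        exact (P.toFrame_basis P.P3 2).1 | exact (P.toFrame_basis P.P3 2).2

variable {C : Type*} [Group C] [Finite C]

/-- A perfect double cover does not split compatibly over the three subgroups of a Sylow subgroup. -/
theorem Data.no_split_sub (D : Data hF C) (hC : Group.IsPerfect C) (P : Fr hF) {ω : F}
    (hω : ω ^ 2 + ω + 1 = 0) (H1 H2 H3 : Subgroup C) (z1 : D.z ∉ H1) (z2 : D.z ∉ H2) (z3 : D.z ∉ H3)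
    (o1 : ∀ x ∈ D.A P, x ∈ H1 ∨ x * D.z ∈ H1) (o2 : ∀ x ∈ D.A P.P2, x ∈ H2 ∨ x * D.z ∈ H2)
    (o3 : ∀ x ∈ D.A P.P3, x ∈ H3 ∨ x * D.z ∈ H3) (l1 : H1 ≤ D.A P)
    (n2 : ∀ c ∈ D.B2 P ω hω, ∀ x ∈ H1, c * x * c⁻¹ ∈ H1)
    (n3 : ∀ c ∈ D.B3 P ω hω, ∀ x ∈ H1, c * x * c⁻¹ ∈ H1)
    (n23 : ∀ c ∈ D.B2 P ω hω, ∀ x ∈ H3, c * x * c⁻¹ ∈ H3) : False := by
  classical
  let T2 := H2 ⊓ D.B2 P ω hω
  let T3 := H3 ⊓ D.B3 P ω hω
  have hnorm : ∀ (B H : Subgroup C), (∀ c ∈ B, ∀ x ∈ H, c * x * c⁻¹ ∈ H) → ∀ c ∈ B, ∀ x,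
      x ∈ H ↔ c * x * c⁻¹ ∈ H := fun B H h c hc x => ⟨h c hc x, fun hx => by
    have := h c⁻¹ (inv_mem hc) _ hx
    rwa [show c⁻¹ * (c * x * c⁻¹) * c⁻¹⁻¹ = x by group] at this⟩
  have hN1 : T2 ⊔ T3 ≤ Subgroup.normalizer (H1 : Set C) :=
    sup_le (fun c hc => Subgroup.mem_normalizer_iff.2 (hnorm _ _ n2 c hc.2))
      (fun c hc => Subgroup.mem_normalizer_iff.2 (hnorm _ _ n3 c hc.2))
  have hN2 : T2 ≤ Subgroup.normalizer (T3 : Set C) := fun c hc => by
    have h2 := D.B2_le_normalizer_B3 P hω hc.2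
    exact Subgroup.mem_normalizer_iff.2 fun x => and_congr (hnorm _ _ n23 c hc.2 x)
      (Subgroup.mem_normalizer_iff.1 h2 x)
  let K := H1 ⊔ (T3 ⊔ T2)
  have hzK : D.z ∉ K := by
    intro hz
    obtain ⟨x, hx, y, hy, exy⟩ := decomp_sup H1 (T3 ⊔ T2) (by rw [sup_comm]; exact hN1) hz
    obtain ⟨t3, ht3, t2, ht2, rfl⟩ := decomp_sup T3 T2 hN2 hy
    have ht3' : t2⁻¹ * t3 * t2 ∈ T3 := (Subgroup.mem_normalizer_iff''.1 (hN2 ht2) t3).1 ht3
    obtain ⟨n, hn, pn, hLn⟩ := ht2.2
    obtain ⟨m, hm, pm, hLm⟩ := ht3'.2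
    have h1' : D.L (1 : C) (P.P2.u ω 0) := by
      rw [show P.P2.u ω 0 = 1 from prodBits_zero _]; exact D.L_one
    have h2' : D.L D.z (P.P3.u ω 0) := by
      rw [show P.P3.u ω 0 = 1 from prodBits_zero _]; exact D.L_z
    obtain ⟨rfl, rfl⟩ := D.prod_unique P hω (l1 hx) hn hm (by norm_num : 0 < 512) (by norm_num : 0 < 512) pn pm
      mask_zero.1 mask_zero.2 hLn hLm h1' h2' (by rw [one_mul, exy]; group)
    have e2' : t2 = 1 := by
      rcases h1'.eq_or hLn with e | e
      · exact e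
      · rw [one_mul] at e; exact absurd (e ▸ ht2.1) z2
    have e3' : t2⁻¹ * t3 * t2 = 1 := by
      have hL0 : D.L (1 : C) (P.P3.u ω 0) := by
        rw [show P.P3.u ω 0 = 1 from prodBits_zero _]; exact D.L_one
      rcases hL0.eq_or hLm with e | e
      · exact e
      · rw [one_mul] at e; exact absurd (e ▸ ht3'.1) z3
    rw [e2', inv_one, one_mul, mul_one] at e3'
    rw [e2', e3', one_mul, mul_one] at exy
    exact z1 (exy ▸ hx)
  let R : Subgroup C :=
    { carrier := {x | x ∈ K ∨ x * D.z ∈ K}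
      one_mem' := Or.inl (one_mem _)
      mul_mem' := by
        have hc := D.central
        rintro a b (ha | ha) (hb | hb)
        · exact Or.inl (mul_mem ha hb)
        · exact Or.inr (by rw [mul_assoc]; exact mul_mem ha hb)
        · exact Or.inr (by rw [mul_assoc, ← hc b, ← mul_assoc]; exact mul_mem ha hb)
        · refine Or.inl ?_
          have := mul_mem ha hb
          rwa [show a * D.z * (b * D.z) = a * (D.z * b) * D.z by group, hc b,
            show a * (b * D.z) * D.z = a * b * (D.z * D.z) by group, D.z_sq, mul_one] at this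
      inv_mem' := by
        rintro a (ha | ha)
        · exact Or.inl (inv_mem ha)
        · refine Or.inr ?_
          have := inv_mem ha
          rwa [mul_inv_rev, inv_eq_of_mul_eq_one_left D.z_sq, D.central] at this }
  have hR : D.S0 P ω hω ≤ R := by
    refine sup_le (fun x hx => (o1 x hx).imp (fun h => Subgroup.mem_sup_left h) fun h => Subgroup.mem_sup_left h)
      (sup_le (fun x hx => ?_) (fun x hx => ?_))
    · rcases o3 x ((D.B3_le P hω).1 hx) with h | h
      · exact Or.inl (Subgroup.mem_sup_right (Subgroup.mem_sup_left ⟨h, hx⟩))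
      · refine Or.inr (Subgroup.mem_sup_right (Subgroup.mem_sup_left ⟨h, ?_⟩))
        obtain ⟨n, hn, pn, hL⟩ := hx
        exact ⟨n, hn, pn, hL.mul_z⟩
    · rcases o2 x ((D.B2_le P hω).1 hx) with h | h
      · exact Or.inl (Subgroup.mem_sup_right (Subgroup.mem_sup_right ⟨h, hx⟩))
      · refine Or.inr (Subgroup.mem_sup_right (Subgroup.mem_sup_right ⟨h, ?_⟩))
        obtain ⟨n, hn, pn, hL⟩ := hx
        exact ⟨n, hn, pn, hL.mul_z⟩
  let φ : ↥(D.S0 P ω hω) →* ℤˣ :=
    { toFun := fun x => if (x : C) ∈ K then 1 else -1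
      map_one' := if_pos (one_mem K)
      map_mul' := fun x y => by
        have hc := D.central
        by_cases hx : (x : C) ∈ K
        · rw [if_pos hx, one_mul]
          exact if_congr (K.mul_mem_cancel_left hx) rfl rfl
        · by_cases hy : (y : C) ∈ K
          · rw [if_pos hy, mul_one]
            exact if_congr (K.mul_mem_cancel_right hy) rfl rfl
          · rw [if_neg hx, if_neg hy, if_pos]
            · norm_num
            · have := mul_mem (Or.resolve_left (hR x.2) hx) (Or.resolve_left (hR y.2) hy)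
              rwa [show (x : C) * D.z * ((y : C) * D.z) = (x : C) * (D.z * (y : C)) * D.z by group,
                hc, show (x : C) * ((y : C) * D.z) * D.z = (x : C) * (y : C) * (D.z * D.z) by group,
                D.z_sq, mul_one] at this }
  obtain ⟨-, -, hodd⟩ := D.exists_sylow P hω
  refine no_transfer hC (D.S0 P ω hω) hodd φ D.central D.z_sq (Subgroup.mem_sup_left (D.z_mem P)) ?_
  show (if D.z ∈ K then (1 : ℤˣ) else -1) ≠ 1
  rw [if_neg hzK]
  decide

theorem tri_ne_zero : (below 4 fun a => below 4 fun p => below 4 fun q =>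
    baseVecs.all fun v => Nat.blt 0 (tri4 a p q v)) = true := by decide +kernel

/-- No selection of lifts with all relations exists in a perfect double cover. -/
theorem Data.not_good (D : Data hF C) (hC : Group.IsPerfect C) {P : Fr hF} {ω : F} (hω : ω ^ 2 + ω + 1 = 0)
    {t : C} {f : ℕ → C} (ht : D.L t P.tau) (h : D.Sel P ω t f) (hG : D.Good f) : False := by
  obtain ⟨k2, hk2, hk2e⟩ := P.exchange_P2
  obtain ⟨k3, hk3, hk3e⟩ := P.exchange_P3
  obtain ⟨c2, hc2⟩ := D.exists_lift hk2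
  obtain ⟨c3, hc3⟩ := D.exists_lift hk3
  obtain ⟨h2, -⟩ := h.transport D hω hc2 hk2e
  obtain ⟨h3, hG3⟩ := h.transport D hω hc3 hk3e
  have tri : ∀ (Q : Fr hF) (g : Unit' (stdHerm hF 6)) (a p q : ℕ), a < 4 → p < 4 → q < 4 →
      g.1 (Q.e 0) = Q.e 0 → g.1 (Q.e 1) = Q.e 1 + iota ω a • Q.e 0 →
      g.1 (Q.e 2) = Q.e 2 + iota ω p • Q.e 0 + iota ω q • Q.e 1 →
      ∀ v ∈ baseVecs, ∃ w < 64, w ≠ 0 ∧ g.1 (Q.vec ω v) = Q.vec ω w := by
    intro Q g a p q ha hp hq e0 e1 e2 v hv
    obtain ⟨e, hlt⟩ := Q.vec_tri hω ha hp hq e0 e1 e2 v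
    refine ⟨_, hlt, ?_, e⟩
    have := List.all_eq_true.1 (below_spec (below_spec (below_spec tri_ne_zero ha) hp) hq) v hv
    exact (Nat.pos_iff_ne_zero.1 (Nat.blt_eq.mp this))
  have hent : ∀ {n}, n < 512 → ∀ i j : ℕ, i < 3 → j < 3 → ent4 (lin baseMats n) i j < 4 :=
    fun hn i j hi hj => (ent4_lt (coord_spec hn).2.2.1 hi hj).1
  refine D.no_split_sub hC P hω (h.H D hω) (h2.H D hω) (h3.H D hω) (h.H_spec D hω).1 (h2.H_spec D hω).1
    (h3.H_spec D hω).1 (h.H_spec D hω).2.2 (h2.H_spec D hω).2.2 (h3.H_spec D hω).2.2 (h.H_spec D hω).2.1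
    ?_ ?_ ?_
  · rintro c ⟨n, hn, hm, hc⟩ x hx
    obtain ⟨e0, e1, e2, -⟩ := P.u2_apply hω hn hm
    exact h.H_conj D hω ht hG hc (tri P _ _ 0 0 (hent hn 0 1 (by norm_num) (by norm_num)) (by norm_num)
      (by norm_num) e0 e1 (by simp [e2, iota])) hx
  · rintro c ⟨n, hn, hm, hc⟩ x hx
    obtain ⟨e0, e1, e2⟩ := P.u3_apply hω hn hm
    exact h.H_conj D hω ht hG hc (tri P _ 0 _ _ (by norm_num) (hent hn 0 2 (by norm_num) (by norm_num))
      (hent hn 1 2 (by norm_num) (by norm_num)) e0 (by simp [e1, iota]) e2) hx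
  · rintro c ⟨n, hn, hm, hc⟩ x hx
    obtain ⟨e0, e1, -, e2⟩ := P.u2_apply hω hn hm
    exact h3.H_conj D hω ht (hG3 hG) hc (tri P.P3 _ _ 0 0 (hent hn 0 1 (by norm_num) (by norm_num))
      (by norm_num) (by norm_num) e0 e1
      (by show (P.P2.u ω n).1 (P.f 2) = _; simp [e2, iota, Fr.P3])) hx

/-- In a perfect double cover some product over a hexad of conjugate lifts is nontrivial. -/
theorem Data.hexad_ne (D : Data hF C) (hC : Group.IsPerfect C) {P : Fr hF} {ω : F} (hω : ω ^ 2 + ω + 1 = 0)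
    {t : C} {f : ℕ → C} (ht : D.L t P.tau) (h : D.Sel P ω t f) (h₁ : (hexOne.map f).prod = 1)
    (h₂ : (hexTwo.map f).prod = 1) : False := by
  have hzz : ∀ x y : C, x * D.z * (y * D.z) = x * y := fun x y => by
    rw [mul_assoc x D.z, ← mul_assoc D.z y D.z, D.central y, mul_assoc y, D.z_sq, mul_one]
  have hflip : ∀ n, D.tz (fun n => f n * D.z) n = f n := fun n => by
    show f n * D.z * D.z = f n
    rw [mul_assoc, D.z_sq, mul_one]
  have key : ∀ (g : ℕ → C) (a b c d e i : ℕ), ([a, b, c, d, e, i].map (D.tz g)).prod =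
      ([a, b, c, d, e, i].map g).prod := by
    intro g a b c d e i
    simp only [Data.tz, List.map_cons, List.map_nil, List.prod_cons, List.prod_nil, mul_one]
    rw [hzz (g e) (g i), ← mul_assoc (g c * D.z) (g d * D.z), hzz (g c) (g d), ← mul_assoc (g a * D.z) (g b * D.z),
      hzz (g a) (g b)]
    simp [mul_assoc]
  have hl : (lineOne.map (D.tz f)).prod = 1 ∨ (lineOne.map f).prod = 1 := by
    have hL : ∀ l : List ℕ, (∀ n ∈ l, n ∈ pts21) →
        D.L (l.map f).prod (P.u ω (l.foldr (· ^^^ ·) 0)) ∧ l.foldr (· ^^^ ·) 0 < 512 := by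
      intro l hl
      induction l with
      | nil => exact ⟨by rw [List.foldr_nil, show P.u ω 0 = 1 from prodBits_zero _]; exact D.L_one, by norm_num⟩
      | cons a l ih =>
        obtain ⟨i1, i2⟩ := ih fun n hn => hl n (List.mem_cons_of_mem _ hn)
        have ha := hl a List.mem_cons_self
        refine ⟨?_, Nat.xor_lt_two_pow (n := 9) (pts21_ok a ha).1 i2⟩
        rw [List.map_cons, List.prod_cons, List.foldr_cons, P.u_xor hω (pts21_ok a ha).1 i2]
        exact (h.lies a ha).mul i1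
    have h0 := (hL lineOne line_hex_mem.1).1
    rw [show lineOne.foldr (· ^^^ ·) 0 = 0 by decide +kernel, show P.u ω 0 = 1 from prodBits_zero _] at h0
    rcases D.L_one.eq_or h0 with e | e
    · exact Or.inr e
    · refine Or.inl ?_
      simp only [lineOne, Data.tz, List.map_cons, List.map_nil, List.prod_cons, List.prod_nil, mul_one] at e ⊢
      rw [hzz (f 16) (f 27), ← mul_assoc (f 1 * D.z) (f 2 * D.z), hzz (f 1) (f 2)]
      rw [one_mul] at e
      calc f 1 * f 2 * (f 8 * D.z * (f 16 * f 27)) = f 1 * (f 2 * (f 8 * (f 16 * f 27))) * D.z := by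
            simp only [mul_assoc, D.central]
        _ = 1 := by rw [e, D.z_sq]
  rcases hl with hl | hl
  · exact D.not_good hC hω ht h (h.good D hω ht hl (by rw [hexOne, key]; exact h₁)
      (by rw [hexTwo, key]; exact h₂))
  · have h' : D.Sel P ω (t * D.z) (fun n => f n * D.z) := by
      refine ⟨fun n hn => ?_, fun n hn => (h.lies n hn).mul_z⟩
      obtain ⟨c, hc⟩ := h.mem n hn
      refine ⟨c, ?_⟩
      rw [hc, mul_assoc (c * t) c⁻¹ D.z, ← D.central c⁻¹]
      group
    have e : ∀ l : List ℕ, l.map (D.tz fun n => f n * D.z) = l.map f := fun l =>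
      List.map_congr_left fun n _ => hflip n
    exact D.not_good hC hω ht.mul_z h' (h'.good D hω ht.mul_z (by rw [e]; exact hl) (by rw [e]; exact h₁)
      (by rw [e]; exact h₂))

/-- The kernel of a perfect central extension of `PSU(6, 2)` by a group of exponent two has order at most
four. -/
theorem card_ker_le {F : Type*} [Field F] [Fintype F] (hF : Fintype.card F = 2 ^ 2) {C : Type*} [Group C]
    [Finite C] (hC : Group.IsPerfect C) (θ : C →* Cfsg.PSU 6 F 2) (hs : Function.Surjective θ)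
    (hc : θ.ker ≤ Subgroup.center C) (h2 : ∀ c ∈ θ.ker, c * c = 1) : Nat.card θ.ker ≤ 4 := by
  classical
  by_contra hcard
  obtain ⟨P, -⟩ := exists_frame_fixed hF 1 (mul_one 1)
  obtain ⟨ω, hω⟩ := exists_omega hF
  have hcm : ∀ {x}, x ∈ θ.ker → ∀ y, Commute x y := fun hx y => (Subgroup.mem_center_iff.1 (hc hx) y).symm
  have hinv : ∀ {x}, x ∈ θ.ker → x⁻¹ = x := fun hx => inv_eq_of_mul_eq_one_left (h2 _ hx)
  -- quotient double covers
  have hquot : ∀ h₁ ∈ θ.ker, ∀ h₂' ∈ θ.ker, ∃ (K : Subgroup C) (_ : K.Normal) (D : Data hF (C ⧸ K)),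
      h₁ ∈ K ∧ h₂' ∈ K ∧ ∀ x, D.θ (QuotientGroup.mk x) = θ x := by
    intro a ha b hb
    let M₀ := Subgroup.closure ({a, b} : Set C)
    have hM₀ : M₀ ≤ θ.ker := (Subgroup.closure_le _).2 (by rintro x (rfl | rfl) <;> assumption)
    obtain ⟨z₀, hz₀, hzM⟩ : ∃ z ∈ θ.ker, z ∉ M₀ := by
      by_contra! hle
      have h4 : (M₀ : Set C) ⊆ ({1, a, b, a * b} : Finset C) := by
        intro x hx
        simp only [Finset.coe_insert, Finset.coe_singleton]
        refine Subgroup.closure_induction ?_ ?_ (fun p q _ _ hp hq => ?_) (fun p hp h => ?_) hx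
        · rintro y (rfl | rfl) <;> simp
        · simp
        · simp only [Set.mem_insert_iff, Set.mem_singleton_iff] at hp hq ⊢
          have h1 : a * a = 1 := h2 a ha
          have h1' : b * b = 1 := h2 b hb
          have h3 : b * a = a * b := (hcm hb a).eq
          have r1 : a * (a * b) = b := by rw [← mul_assoc, h1, one_mul]
          have r2 : a * b * a = b := by rw [mul_assoc, h3, r1]
          have r3 : b * (a * b) = a := by rw [← mul_assoc, h3, mul_assoc, h1', mul_one]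
          have r4 : a * b * b = a := by rw [mul_assoc, h1', mul_one]
          have r5 : a * b * (a * b) = 1 := by rw [← mul_assoc, r2, h1']
          rcases hp with rfl | rfl | rfl | rfl <;> rcases hq with rfl | rfl | rfl | rfl <;>
            simp [*]
        · simp only [Set.mem_insert_iff, Set.mem_singleton_iff] at h ⊢
          rw [hinv (hM₀ hp)]
          exact h
      refine hcard ?_
      rw [← SetLike.coe_sort_coe, Nat.card_coe_set_eq]
      refine (Set.ncard_le_ncard (fun x hx => h4 (hle x hx)) (Finset.finite_toSet _)).trans ?_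
      rw [Set.ncard_coe_finset]
      exact Finset.card_le_four
    obtain ⟨K, hK, hmax⟩ := Finite.exists_le_maximal
      (p := fun K : Subgroup C => M₀ ≤ K ∧ K ≤ θ.ker ∧ z₀ ∉ K) ⟨le_rfl, hM₀, hzM⟩
    have hn : K.Normal := ⟨fun x hx y => by
      rwa [← (hcm (hmax.1.2.1 hx) y).eq, mul_inv_cancel_right]⟩
    have hcases : ∀ x ∈ θ.ker, x ∈ K ∨ z₀⁻¹ * x ∈ K := by
      intro x hx
      by_contra! hxK
      have hle : K ⊔ Subgroup.zpowers x ≤ θ.ker := sup_le hmax.1.2.1 (Subgroup.zpowers_le.2 hx)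
      have hin : z₀ ∈ K ⊔ Subgroup.zpowers x := by
        by_contra hnot
        exact hxK.1 (hmax.2 ⟨hmax.1.1.trans le_sup_left, hle, hnot⟩ le_sup_left
          (Subgroup.mem_sup_right (Subgroup.mem_zpowers x)))
      obtain ⟨k, hk, y, hy, rfl⟩ := decomp_sup K (Subgroup.zpowers x) (Subgroup.zpowers_le.2
        (Subgroup.mem_normalizer_iff.2 fun y => by rw [(hcm hx y).eq, mul_inv_cancel_right])) hin
      obtain ⟨n, rfl⟩ := Subgroup.mem_zpowers_iff.1 hy
      rcases Int.even_or_odd n with ⟨m, rfl⟩ | ⟨m, rfl⟩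
      · refine hmax.1.2.2 ?_
        rwa [← two_mul, zpow_mul, zpow_two, h2 x hx, one_zpow, mul_one]
      · refine hxK.2 ?_
        rw [zpow_add, zpow_mul, zpow_two, h2 x hx, one_zpow, one_mul, zpow_one, mul_inv_rev, hinv hx, mul_assoc,
          (hcm (inv_mem (hmax.1.2.1 hk)) x).eq, ← mul_assoc, h2 x hx, one_mul]
        exact inv_mem hk
    refine ⟨K, hn,
      { θ := QuotientGroup.lift K θ hmax.1.2.1
        z := QuotientGroup.mk z₀
        surj := fun y => (hs y).elim fun x hx => ⟨QuotientGroup.mk x, hx⟩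
        z_sq := by rw [← QuotientGroup.mk_mul, h2 z₀ hz₀, QuotientGroup.mk_one]
        z_ne := fun e => hmax.1.2.2 ((QuotientGroup.eq_one_iff _).1 e)
        ker := fun q => by
          obtain ⟨x, rfl⟩ := QuotientGroup.mk_surjective q
          constructor
          · intro hx
            rcases hcases x hx with h | h
            · exact Or.inl ((QuotientGroup.eq_one_iff _).2 h)
            · exact Or.inr (QuotientGroup.eq.2 h).symm
          · rintro (h | h) <;> rw [h]
            · exact map_one _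
            · exact hz₀
        central := fun q => by
          obtain ⟨x, rfl⟩ := QuotientGroup.mk_surjective q
          rw [← QuotientGroup.mk_mul, ← QuotientGroup.mk_mul, (hcm hz₀ x).eq] },
      hmax.1.1 (Subgroup.subset_closure (by simp)), hmax.1.1 (Subgroup.subset_closure (by simp)),
      fun x => rfl⟩
  -- lifts in the whole extension
  obtain ⟨τ, hτ, hτ'⟩ : ∃ g, emb hF 6 g = P.tau ∧ True := (exists_emb_eq hF _ P.det_tau).imp fun g h => ⟨h, trivial⟩
  obtain ⟨t, ht⟩ := hs (QuotientGroup.mk τ)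
  have hconj : ∀ n ∈ pts21, ∃ (c : C) (g : Cfsg.SU 6 F 2), θ c = QuotientGroup.mk g ∧
      emb hF 6 g * P.tau * (emb hF 6 g)⁻¹ = P.u ω n := by
    intro n hn
    obtain ⟨K, hK, D, -, -, hD⟩ := hquot 1 (one_mem _) 1 (one_mem _)
    have htD : D.L (QuotientGroup.mk t) P.tau := ⟨τ, hτ, (hD t).trans ht⟩
    obtain ⟨h1, h2, h3⟩ := pts21_ok n hn
    obtain ⟨x, ⟨q, rfl⟩, hx⟩ := D.exists_inT P hω htD h1 h2 h3
    obtain ⟨c, rfl⟩ := QuotientGroup.mk_surjective q
    obtain ⟨k, hk⟩ := D.exists_L (QuotientGroup.mk c)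
    obtain ⟨g, hg, hg'⟩ := id hk
    refine ⟨c, g, (hD c).symm.trans hg', hg.symm ▸ ?_⟩
    refine hx.eq_of_invol (hk.conj htD) (D.u_sq P hω h1) ?_
    rw [show k * P.tau * k⁻¹ * (k * P.tau * k⁻¹) = k * (P.tau * P.tau) * k⁻¹ by group, P.tau_sq, mul_one,
      mul_inv_cancel]
  choose c g hcg hgu using hconj
  let f : ℕ → C := fun n => if hn : n ∈ pts21 then c n hn * t * (c n hn)⁻¹ else 1
  have hf : ∀ (K : Subgroup C) [K.Normal] (D : Data hF (C ⧸ K)), (∀ x, D.θ (QuotientGroup.mk x) = θ x) →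
      D.Sel P ω (QuotientGroup.mk t) (fun n => QuotientGroup.mk (f n)) := by
    intro K _ D hD
    have htD : D.L (QuotientGroup.mk t) P.tau := ⟨τ, hτ, (hD t).trans ht⟩
    refine ⟨fun n hn => ⟨QuotientGroup.mk (c n hn), ?_⟩, fun n hn => ?_⟩
    · simp only [f, dif_pos hn, QuotientGroup.mk_mul, QuotientGroup.mk_inv]
    · have hL : D.L (QuotientGroup.mk (c n hn)) (emb hF 6 (g n hn)) := ⟨_, rfl, (hD _).trans (hcg n hn)⟩
      have := hL.conj htD
      rw [hgu] at this
      simpa only [f, dif_pos hn, QuotientGroup.mk_mul, QuotientGroup.mk_inv] using this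
  have hker : ∀ l : List ℕ, (∀ n ∈ l, n ∈ pts21) → l.foldr (· ^^^ ·) 0 = 0 → (l.map f).prod ∈ θ.ker := by
    intro l hl hx
    obtain ⟨K, hK, D, -, -, hD⟩ := hquot 1 (one_mem _) 1 (one_mem _)
    have hsel := hf K D hD
    have h0 : ∀ l : List ℕ, (∀ n ∈ l, n ∈ pts21) →
        D.L (QuotientGroup.mk (l.map f).prod) (P.u ω (l.foldr (· ^^^ ·) 0)) ∧ l.foldr (· ^^^ ·) 0 < 512 := by
      intro l hl
      induction l with
      | nil => exact ⟨by rw [List.foldr_nil, show P.u ω 0 = 1 from prodBits_zero _]; exact D.L_one, by norm_num⟩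
      | cons a l ih =>
        obtain ⟨i1, i2⟩ := ih fun n hn => hl n (List.mem_cons_of_mem _ hn)
        have ha := hl a List.mem_cons_self
        refine ⟨?_, Nat.xor_lt_two_pow (n := 9) (pts21_ok a ha).1 i2⟩
        rw [List.map_cons, List.prod_cons, QuotientGroup.mk_mul, List.foldr_cons,
          P.u_xor hω (pts21_ok a ha).1 i2]
        exact (hsel.lies a ha).mul i1
    obtain ⟨g₀, hg₀, hg₀'⟩ := (h0 l hl).1
    rw [hx, show P.u ω 0 = 1 from prodBits_zero _] at hg₀
    rw [MonoidHom.mem_ker, ← hD, hg₀', emb_injective hF 6 (hg₀.trans (map_one _).symm), QuotientGroup.mk_one]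
  obtain ⟨K, hK, D, hK₁, hK₂, hD⟩ := hquot _ (hker _ line_hex_mem.2.1 (by decide +kernel)) _
    (hker _ line_hex_mem.2.2 (by decide +kernel))

  have hmap : ∀ l : List ℕ, (l.map f).prod ∈ K →
      (l.map fun n => (QuotientGroup.mk (f n) : C ⧸ K)).prod = 1 := fun l hl => by
    rw [show (l.map fun n => (QuotientGroup.mk (f n) : C ⧸ K)) = (l.map f).map (QuotientGroup.mk' K) by
      rw [List.map_map]; rfl, ← map_list_prod]
    exact (QuotientGroup.eq_one_iff _).2 hl
  refine D.hexad_ne ?_ hω ⟨τ, hτ, (hD t).trans ht⟩ (hf K D hD) (hmap _ hK₁) (hmap _ hK₂)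
  refine ⟨?_⟩
  rw [_root_.commutator_def, ← Subgroup.map_top_of_surjective (QuotientGroup.mk' K)
    (QuotientGroup.mk'_surjective K), ← Subgroup.map_commutator, ← _root_.commutator_def, hC.commutator_eq_top]

end CfsgLib.U6Cover
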