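import Mathlib
import Cfsg.Prelude.Def_Transfer

/-!
An orbit of automorphisms of an elementary abelian group of order `2 ^ 10` has size dividing `|GL(10, 2)|`.
-/

set_option autoImplicit false

namespace CfsgLib.U6Cover

theorem card_mulAut_pow {n : ℕ} {A : Type*} [Group A] (hc : ∀ a b : A, a * b = b * a) (hsq : ∀ a : A, a * a = 1)
    (hA : Nat.card A = 2 ^ n) : Nat.card (MulAut A) = ∏ i : Fin n, (2 ^ n - 2 ^ (i : ℕ)) := by
  let : CommGroup A := { (inferInstance : Group A) with mul_comm := hc }
  let : Module (ZMod 2) (Additive A) := AddCommGroup.zmodModule fun x => by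
    rw [two_nsmul]
    exact congrArg Additive.ofMul (hsq x.toMul)
  have : Finite A := Nat.finite_of_card_ne_zero (by rw [hA]; positivity)
  have hr : Module.finrank (ZMod 2) (Additive A) = n := by
    have h := Module.natCard_eq_pow_finrank (K := ZMod 2) (V := Additive A)
    rw [Nat.card_congr (Additive.toMul : Additive A ≃ A), hA, Nat.card_zmod] at h
    exact (Nat.pow_right_injective le_rfl h).symm
  let b := (Module.finBasisOfFinrankEq (ZMod 2) (Additive A) hr).equivFun
  have e1 : Nat.card (MulAut A) = Nat.card (Additive A ≃ₗ[ZMod 2] Additive A) :=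
    Nat.card_congr
      { toFun := fun f => (MulEquiv.toAdditive f).toLinearEquiv fun c x => by
          exact ZMod.map_smul (MulEquiv.toAdditive f).toAddMonoidHom c x
        invFun := fun f => MulEquiv.toAdditive.symm f.toAddEquiv
        left_inv := fun f => rfl
        right_inv := fun f => rfl }
  have e2 : Nat.card (Additive A ≃ₗ[ZMod 2] Additive A) =
      Nat.card ((Fin n → ZMod 2) ≃ₗ[ZMod 2] (Fin n → ZMod 2)) :=
    Nat.card_congr
      { toFun := fun f => b.symm.trans (f.trans b)
        invFun := fun f => b.trans (f.trans b.symm)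
        left_inv := fun f => LinearEquiv.ext fun x => by simp
        right_inv := fun f => LinearEquiv.ext fun x => by simp }
  rw [e1, e2, ← Nat.card_congr (LinearMap.GeneralLinearGroup.generalLinearEquiv (ZMod 2) (Fin n → ZMod 2)).toEquiv,
    ← Nat.card_congr (Matrix.GeneralLinearGroup.toLin (n := Fin n) (R := ZMod 2)).toEquiv,
    Matrix.card_GL_field n, ZMod.card]

theorem card_mulAut {A : Type*} [Group A] (hc : ∀ a b : A, a * b = b * a) (hsq : ∀ a : A, a * a = 1)
    (hA : Nat.card A = 2 ^ 10) : Nat.card (MulAut A) = 366440137299948128422802227200 := by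
  rw [card_mulAut_pow hc hsq hA]
  norm_num [Fin.prod_univ_succ]

/-- The orbit of an element of an elementary abelian subgroup under its normaliser. -/
theorem ncard_orbit_dvd_pow {n : ℕ} {G : Type*} [Group G] [Finite G] (A : Subgroup G)
    (hA : Cfsg.IsElementaryAbelian 2 A) (hcard : Nat.card A = 2 ^ n) {d : G} (hd : d ∈ A) :
    Set.ncard {x : G | ∃ m ∈ Subgroup.normalizer (A : Set G), x = m * d * m⁻¹} ∣
      ∏ i : Fin n, (2 ^ n - 2 ^ (i : ℕ)) := by
  obtain ⟨⟨⟨hc⟩⟩, hp⟩ := hA
  rw [← card_mulAut_pow hc (fun a => Subtype.ext (by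
    have := hp a.1 a.2
    rwa [pow_two] at this)) hcard]
  let R : Subgroup (MulAut A) := (Subgroup.normalizerMonoidHom A).range
  have hset : {x : G | ∃ m ∈ Subgroup.normalizer (A : Set G), x = m * d * m⁻¹} =
      Subtype.val '' (MulAction.orbit R (⟨d, hd⟩ : A)) := by
    ext x
    constructor
    · rintro ⟨n, hn, rfl⟩
      exact ⟨_, ⟨⟨_, ⟨⟨n, hn⟩, rfl⟩⟩, rfl⟩, rfl⟩
    · rintro ⟨_, ⟨⟨_, ⟨n, rfl⟩⟩, rfl⟩, rfl⟩
      exact ⟨n.1, n.2, rfl⟩
  rw [hset, Set.ncard_image_of_injective _ Subtype.val_injective, ← Nat.card_coe_set_eq,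
    Nat.card_congr (MulAction.orbitEquivQuotientStabilizer R (⟨d, hd⟩ : A)), ← Subgroup.index_eq_card]
  exact (Subgroup.index_dvd_card _).trans (Subgroup.card_subgroup_dvd_card R)

theorem ncard_orbit_dvd {G : Type*} [Group G] [Finite G] (A : Subgroup G)
    (hA : Cfsg.IsElementaryAbelian 2 A) (hcard : Nat.card A = 2 ^ 10) {d : G} (hd : d ∈ A) :
    Set.ncard {x : G | ∃ n ∈ Subgroup.normalizer (A : Set G), x = n * d * n⁻¹} ∣
      366440137299948128422802227200 := by
  have h := ncard_orbit_dvd_pow A hA hcard hd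
  norm_num [Fin.prod_univ_succ] at h
  exact h

end CfsgLib.U6Cover
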