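import Cfsg.Agent.Lib.U6Cover.Unique
import Mathlib.GroupTheory.Transfer

/-!
The double cover has no conjugation invariant splitting of its subgroups of order `2 ^ 10` over the centre:
otherwise a Sylow subgroup would split over the centre.
-/

set_option autoImplicit false
set_option linter.unusedSectionVars false

namespace CfsgLib.U6Cover

variable {F : Type*} [Field F] [Fintype F] {hF : Fintype.card F = 2 ^ 2} {C : Type*} [Group C] [Finite C]

/-- The elements of one of the subgroups with a property. -/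
def Data.sub (D : Data hF C) (p : C → Prop) (h1 : p 1)
    (hmul : ∀ Q, ∀ x ∈ D.A Q, ∀ y ∈ D.A Q, p x → p y → p (x * y)) (Q : Fr hF) : Subgroup C where
  carrier := {c | c ∈ D.A Q ∧ p c}
  one_mem' := ⟨one_mem _, h1⟩
  mul_mem' {a b} := fun ⟨ha, ha'⟩ ⟨hb, hb'⟩ => ⟨mul_mem ha hb, hmul Q a ha b hb ha' hb'⟩
  inv_mem' {a} := fun ⟨ha, ha'⟩ => ⟨inv_mem ha, by
    have := (D.isElementary Q).2 a ha
    rw [pow_two] at this
    rwa [inv_eq_of_mul_eq_one_left this]⟩

/-- A perfect group has no subgroup of odd index with a homomorphism to a commutative group nontrivial on a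
central involution. -/
theorem no_transfer {C M : Type*} [Group C] [Finite C] [CommGroup M] (hC : Group.IsPerfect C) (S : Subgroup C)
    (hodd : Odd S.index) (φ : S →* M) {z : C} (hz : ∀ x, z * x = x * z) (hz2 : z * z = 1) (hzS : z ∈ S)
    (hφ : φ ⟨z, hzS⟩ ≠ 1) : False := by
  have key : ∀ (k : ℕ) (g₀ : C), g₀⁻¹ * z ^ k * g₀ ∈ S → g₀⁻¹ * z ^ k * g₀ = z ^ k := fun k g₀ _ => by
    rw [mul_assoc, ((show Commute z g₀ from hz g₀).pow_left k).eq, inv_mul_cancel_left]
  have h1 := MonoidHom.transfer_eq_pow φ z key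
  have h2 : MonoidHom.transfer φ z = 1 := by
    have hle : commutator C ≤ (MonoidHom.transfer φ).ker := Abelianization.commutator_subset_ker _
    rw [hC.commutator_eq_top] at hle
    exact hle (Subgroup.mem_top z)
  rw [h2] at h1
  apply hφ
  obtain ⟨m, hm⟩ := hodd
  have e : z ^ S.index = z := by rw [hm, pow_succ, pow_mul, pow_two, hz2, one_pow, one_mul]
  rw [h1]
  exact congrArg φ (Subtype.ext e.symm)

theorem Data.no_split (D : Data hF C) (hC : Group.IsPerfect C) (P : Fr hF) {ω : F}
    (hω : ω ^ 2 + ω + 1 = 0) (p : C → Prop) (h1 : p 1) (hz : ¬ p D.z)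
    (hconj : ∀ c x, p x → p (c * x * c⁻¹))
    (hmul : ∀ Q, ∀ x ∈ D.A Q, ∀ y ∈ D.A Q, p x → p y → p (x * y))
    (hor' : ∀ Q, ∀ x ∈ D.A Q, p x ∨ p (x * D.z)) : False := by
  classical
  let H1 := D.sub p h1 hmul P
  let T2 := D.sub p h1 hmul P.P2 ⊓ D.B2 P ω hω
  let T3 := D.sub p h1 hmul P.P3 ⊓ D.B3 P ω hω
  have hnotz : ∀ Q, D.z ∉ D.sub p h1 hmul Q := fun Q hz' => hz hz'.2
  have hor : ∀ (Q : Fr hF) (x : C), x ∈ D.A Q → x ∈ D.sub p h1 hmul Q ∨ x * D.z ∈ D.sub p h1 hmul Q :=
    fun Q x hx => (hor' Q x hx).imp (fun h => ⟨hx, h⟩) (fun h => ⟨mul_mem hx (D.z_mem Q), h⟩)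
  have hinv : ∀ Q, Subgroup.normalizer (D.A Q : Set C) ≤ Subgroup.normalizer (D.sub p h1 hmul Q : Set C) := by
    intro Q c hc
    refine Subgroup.mem_normalizer_iff.2 fun x => ?_
    constructor
    · rintro ⟨hx, hx0⟩
      exact ⟨(Subgroup.mem_normalizer_iff.1 hc x).1 hx, hconj c x hx0⟩
    · rintro ⟨hx, hx0⟩
      have h := hconj c⁻¹ _ hx0
      rw [show c⁻¹ * (c * x * c⁻¹) * c⁻¹⁻¹ = x by group] at h
      exact ⟨(Subgroup.mem_normalizer_iff.1 hc x).2 hx, h⟩
  have hN1 : T2 ⊔ T3 ≤ Subgroup.normalizer (H1 : Set C) :=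
    sup_le (inf_le_right.trans ((D.B2_le P hω).2.trans (hinv P)))
      (inf_le_right.trans ((D.B3_le P hω).2.trans (hinv P)))
  have hN2 : T2 ≤ Subgroup.normalizer (T3 : Set C) := fun c hc => by
    have h1' := hinv P.P3 (D.B2_normalizes P hω hc.2).1
    have h2 := D.B2_le_normalizer_B3 P hω hc.2
    exact Subgroup.mem_normalizer_iff.2 fun x => and_congr (Subgroup.mem_normalizer_iff.1 h1' x)
      (Subgroup.mem_normalizer_iff.1 h2 x)
  let K := H1 ⊔ (T3 ⊔ T2)
  have hzK : D.z ∉ K := by
    intro hz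
    obtain ⟨x, hx, y, hy, exy⟩ := decomp_sup H1 (T3 ⊔ T2) (by rw [sup_comm]; exact hN1) hz
    obtain ⟨t3, ht3, t2, ht2, rfl⟩ := decomp_sup T3 T2 hN2 hy
    have ht3' : t2⁻¹ * t3 * t2 ∈ T3 := (Subgroup.mem_normalizer_iff''.1 (hN2 ht2) t3).1 ht3
    obtain ⟨n, hn, pn, hLn⟩ := ht2.2
    obtain ⟨m, hm, pm, hLm⟩ := ht3'.2
    have h1' : D.L (1 : C) (P.P2.u ω 0) := by
      rw [show P.P2.u ω 0 = 1 from prodBits_zero _]; exact D.L_one
    have h2' : D.L D.z (P.P3.u ω 0) := by
      rw [show P.P3.u ω 0 = 1 from prodBits_zero _]; exact D.L_z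
    obtain ⟨rfl, rfl⟩ := D.prod_unique P hω hx.1 hn hm (by norm_num : 0 < 512) (by norm_num : 0 < 512) pn pm
      mask_zero.1 mask_zero.2 hLn hLm h1' h2' (by rw [one_mul, exy]; group)
    have e2' : t2 = 1 := by
      rcases h1'.eq_or hLn with e | e
      · exact e
      · rw [one_mul] at e; exact absurd (e ▸ ht2.1) (hnotz _)
    have e3' : t2⁻¹ * t3 * t2 = 1 := by
      have hL0 : D.L (1 : C) (P.P3.u ω 0) := by
        rw [show P.P3.u ω 0 = 1 from prodBits_zero _]; exact D.L_one
      rcases hL0.eq_or hLm with e | e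
      · exact e
      · rw [one_mul] at e; exact absurd (e ▸ ht3'.1) (hnotz _)
    rw [e2', inv_one, one_mul, mul_one] at e3'
    rw [e2', e3', one_mul, mul_one] at exy
    exact hnotz P (exy ▸ hx)
  let S := D.S0 P ω hω
  have hKS : ∀ x ∈ S, x ∈ K ∨ x * D.z ∈ K := by
    have hc := D.central
    let R : Subgroup C :=
      { carrier := {x | x ∈ K ∨ x * D.z ∈ K}
        one_mem' := Or.inl (one_mem _)
        mul_mem' := by
          rintro a b (ha | ha) (hb | hb)
          · exact Or.inl (mul_mem ha hb)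
          · exact Or.inr (by rw [mul_assoc]; exact mul_mem ha hb)
          · exact Or.inr (by rw [mul_assoc, ← hc b, ← mul_assoc]; exact mul_mem ha hb)
          · refine Or.inl ?_
            have := mul_mem ha hb
            rwa [show a * D.z * (b * D.z) = a * (D.z * b) * D.z by group, hc b,
              show a * (b * D.z) * D.z = a * b * (D.z * D.z) by group, D.z_sq, mul_one] at this
        inv_mem' := by
          rintro a (ha | ha)
          · exact Or.inl (inv_mem ha)
          · refine Or.inr ?_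
            have := inv_mem ha
            rwa [mul_inv_rev, inv_eq_of_mul_eq_one_left D.z_sq, hc] at this }
    have hR : S ≤ R := by
      refine sup_le (fun x hx => ?_) (sup_le (fun x hx => ?_) (fun x hx => ?_))
      · exact (hor P x hx).imp (fun h => Subgroup.mem_sup_left h) (fun h => Subgroup.mem_sup_left h)
      · rcases hor P.P3 x ((D.B3_le P hω).1 hx) with h | h
        · exact Or.inl (Subgroup.mem_sup_right (Subgroup.mem_sup_left ⟨h, hx⟩))
        · refine Or.inr (Subgroup.mem_sup_right (Subgroup.mem_sup_left ⟨h, ?_⟩))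
          obtain ⟨n, hn, pn, hL⟩ := hx
          exact ⟨n, hn, pn, hL.mul_z⟩
      · rcases hor P.P2 x ((D.B2_le P hω).1 hx) with h | h
        · exact Or.inl (Subgroup.mem_sup_right (Subgroup.mem_sup_right ⟨h, hx⟩))
        · refine Or.inr (Subgroup.mem_sup_right (Subgroup.mem_sup_right ⟨h, ?_⟩))
          obtain ⟨n, hn, pn, hL⟩ := hx
          exact ⟨n, hn, pn, hL.mul_z⟩
    exact fun x hx => hR hx
  let φ : S →* ℤˣ :=
    { toFun := fun x => if (x : C) ∈ K then 1 else -1
      map_one' := if_pos (one_mem K)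
      map_mul' := fun x y => by
        have hc := D.central
        by_cases hx : (x : C) ∈ K
        · rw [if_pos hx, one_mul]
          exact if_congr (K.mul_mem_cancel_left hx) rfl rfl
        · by_cases hy : (y : C) ∈ K
          · rw [if_pos hy, mul_one]
            exact if_congr (K.mul_mem_cancel_right hy) rfl rfl
          · rw [if_neg hx, if_neg hy, if_pos]
            · norm_num
            · have := mul_mem ((hKS x x.2).resolve_left hx) ((hKS y y.2).resolve_left hy)
              rwa [show (x : C) * D.z * ((y : C) * D.z) = (x : C) * (D.z * (y : C)) * D.z by group,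
                hc, show (x : C) * ((y : C) * D.z) * D.z = (x : C) * (y : C) * (D.z * D.z) by group,
                D.z_sq, mul_one] at this }
  obtain ⟨-, -, hodd⟩ := D.exists_sylow P hω
  refine no_transfer hC S hodd φ D.central D.z_sq (Subgroup.mem_sup_left (D.z_mem P)) ?_
  show (if D.z ∈ K then (1 : ℤˣ) else -1) ≠ 1
  rw [if_neg hzK]
  decide

end CfsgLib.U6Cover
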