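import Cfsg.Agent.Lib.U6Cover.Count
import Cfsg.Agent.Lib.U6Cover.Split

/-!
The case of one conjugate over each coordinate is impossible: a Sylow subgroup would split over the centre.
-/

set_option autoImplicit false
set_option linter.unusedSectionVars false

namespace CfsgLib.U6Cover

variable {F : Type*} [Field F] [Fintype F] {hF : Fintype.card F = 2 ^ 2} {G : Type*} [Group G] [Finite G]

theorem term_le {ι : Type*} [Fintype ι] (f : ι → ℕ) (p : ι) : f p ≤ ∑ q, f q :=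
  Finset.single_le_sum (fun q _ => Nat.zero_le _) (Finset.mem_univ p)

theorem Ctx.one_spec (T : Ctx hF G) (P : Fr hF) {ω : F} (hω : ω ^ 2 + ω + 1 = 0)
    (h : ∀ n < 512, T.cnt P ω n = 1) :
    (∀ x ∈ T.AG P, T.chi x + T.chi (x * T.d) = 1) ∧
      ∀ x ∈ T.AG P, ∀ y ∈ T.AG P, T.chi x = 0 → T.chi y = 0 → T.chi (x * y) = 0 := by
  obtain ⟨h1, -, h3⟩ := T.elv_spec P hω
  have e1 : ∀ x ∈ T.AG P, T.chi x + T.chi (x * T.d) = 1 := by
    intro x hx
    obtain ⟨⟨n, b⟩, rfl⟩ := h3 x hx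
    have hn := h n n.2
    unfold Ctx.cnt at hn
    cases b
    · rw [T.elv_false]; exact hn
    · rw [T.elv_true, mul_assoc, T.d_sq, mul_one, add_comm]; exact hn
  refine ⟨e1, fun x hx y hy hx0 hy0 => ?_⟩
  have hx1 := e1 x hx
  have hy1 := e1 y hy
  rw [hx0, zero_add] at hx1
  rw [hy0, zero_add] at hy1
  have hxd := mul_mem hx (T.d_mem P)
  have hyd := mul_mem hy (T.d_mem P)
  have hn3 : T.n3 P ω (y * T.d) = 0 := by
    rw [T.n3_eq P hω hyd (T.chi_eq_one.1 hy1), T.n3_d]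
    rw [Finset.sum_eq_zero, mul_zero]
    intro n hn
    rw [h n (Finset.mem_range.1 hn), if_neg (by norm_num)]
  obtain ⟨p, hp⟩ := h3 _ hxd
  have hterm : T.chi (T.elv P ω p) * T.chi (T.elv P ω p * (y * T.d)) = 0 := by
    refine Nat.le_zero.1 (hn3 ▸ ?_)
    exact term_le (fun q => T.chi (T.elv P ω q) * T.chi (T.elv P ω q * (y * T.d))) p
  rw [hp, hx1, one_mul, show x * T.d * (y * T.d) = x * y by
    rw [show x * T.d * (y * T.d) = x * (T.d * y) * T.d by group, (T.AG_comm P (T.d_mem P) hy).eq,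
      show x * (y * T.d) * T.d = x * y * (T.d * T.d) by group, T.d_sq, mul_one]] at hterm
  exact hterm

theorem Ctx.not_one (T : Ctx hF G) (P : Fr hF) {ω : F} (hω : ω ^ 2 + ω + 1 = 0)
    (h : ∀ n < 512, T.cnt P ω n = 1) : False := by
  obtain ⟨e1, e2⟩ := T.one_spec P hω h
  have key : ∀ Q : Fr hF, (∀ x ∈ T.D.A Q, T.chi x + T.chi ((x : G) * T.d) = 1) ∧
      ∀ x ∈ T.D.A Q, ∀ y ∈ T.D.A Q, T.chi x = 0 → T.chi y = 0 → T.chi ((x : G) * y) = 0 := by
    intro Q
    obtain ⟨c, hc⟩ := T.D.exists_conj P (T.D.A Q) (T.D.isElementary Q) (le_of_eq (T.D.card_A Q).symm)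
    have hm : ∀ x ∈ T.D.A Q, (c : G)⁻¹ * x * c ∈ T.AG P := fun x hx => by
      rw [hc, mem_conjSub] at hx
      exact ⟨_, hx, rfl⟩
    have hchi : ∀ x : G, T.chi ((c : G)⁻¹ * x * c) = T.chi x := fun x => by
      have := T.chi_conj (c : G)⁻¹ x
      rwa [inv_inv] at this
    have hcd := Subgroup.mem_centralizer_singleton_iff.1 c.2
    refine ⟨fun x hx => ?_, fun x hx y hy hx0 hy0 => ?_⟩
    · have := e1 _ (hm x hx)
      rwa [hchi, show (c : G)⁻¹ * x * c * T.d = (c : G)⁻¹ * ((x : G) * T.d) * c by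
        rw [mul_assoc, hcd]; group, hchi] at this
    · have := e2 _ (hm x hx) _ (hm y hy) (by rw [hchi]; exact hx0) (by rw [hchi]; exact hy0)
      rwa [show (c : G)⁻¹ * x * c * ((c : G)⁻¹ * y * c) = (c : G)⁻¹ * ((x : G) * y) * c by group, hchi] at this
  refine T.D.no_split T.perfect P hω (fun c => T.chi (c : G) = 0) T.chi_one ?_ ?_ (fun Q => (key Q).2) ?_
  · show T.chi (T.D.z : G) ≠ 0
    rw [T.hz, T.chi_d]
    exact one_ne_zero
  · intro c x hx
    exact (T.chi_conj (c : G) (x : G)).trans hx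
  · intro Q x hx
    have := (key Q).1 x hx
    show T.chi (x : G) = 0 ∨ T.chi ((x * T.D.z : _) : G) = 0
    rw [Subgroup.coe_mul, T.hz]
    omega

end CfsgLib.U6Cover
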