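import Cfsg.Agent.Lib.U6Cover.Sylow

/-!
A subgroup of the double cover containing `A` and the squares of the elements stabilising the first vector of a
frame contains the Sylow 2-subgroup.
-/

set_option autoImplicit false
set_option linter.unusedSectionVars false

namespace CfsgLib.U6Cover

open CfsgLib.Classical.Herm HermSpace CfsgLib.UnitaryTransv

attribute [-simp] stdHerm_h

theorem order_three {F M : Type*} [Field F] [AddCommGroup M] [Module F M] (h2 : (2 : F) = 0) (g : M →ₗ[F] M)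
    (v : M) (e : g (g v) = (1 : F) • g v + v) : g (g (g v)) = v := by
  rw [one_smul] at e
  rw [e, map_add, e]
  linear_combination (norm := module) congrArg (fun t : F => t • g v) h2

theorem order_five {F M : Type*} [Field F] [AddCommGroup M] [Module F M] (h2 : (2 : F) = 0) {ω : F}
    (hω : ω ^ 2 + ω + 1 = 0) (g : M →ₗ[F] M) (v : M) (e : g (g v) = ω • g v + v) :
    g (g (g (g (g v)))) = v := by
  have hw : ω ^ 2 + 1 = ω := by linear_combination hω - ω * h2
  have e3 : g (g (g v)) = ω • g v + ω • v := by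
    rw [e, map_add, map_smul, e]
    linear_combination (norm := module) congrArg (fun t : F => t • g v) hw
  have e4 : g (g (g (g v))) = g v + ω • v := by
    rw [e3, map_add, map_smul, map_smul, e]
    linear_combination (norm := module) congrArg (fun t : F => t • g v) hω - congrArg (fun t : F => t • g v) h2
  rw [e4, map_add, map_smul, e]
  linear_combination (norm := module) congrArg (fun t : F => (t * ω) • g v) h2

variable {F : Type*} [Field F] [Fintype F] {hF : Fintype.card F = 2 ^ 2} {C : Type*} [Group C] [Finite C]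

/-- Elements acting alike on the first triple differ by an element of `A`. -/
theorem Data.mem_of_alike (D : Data hF C) (P : Fr hF) {R : Subgroup C} (hA : D.A P ≤ R) {c c' : C}
    {g g' : Unit' (stdHerm hF 6)} (h : D.L c g) (h' : D.L c' g') (he : ∀ i, g.1 (P.e i) = g'.1 (P.e i))
    (hc : c ∈ R) : c' ∈ R := by
  have hm : c⁻¹ * c' ∈ D.A P := ⟨g⁻¹ * g', fun i => by
    rw [CfsgLib.Classical.Herm.mul_apply, ← he i, inv_apply_self], h.inv.mul h'⟩
  have := mul_mem hc (hA hm)
  rwa [mul_inv_cancel_left] at this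

theorem Data.S0_le_of (D : Data hF C) (P : Fr hF) {ω : F} (hω : ω ^ 2 + ω + 1 = 0) (R : Subgroup C)
    (hA : D.A P ≤ R)
    (hsq : ∀ c g, D.L c g → (∀ i, P.InW (g.1 (P.e i))) → g.1 (P.e 0) = P.e 0 → c * c ∈ R) :
    D.S0 P ω hω ≤ R := by
  have h2 : (2 : F) = 0 := two_eq_zero hF
  let p12 : F → Unit' (stdHerm hF 6) := P.gr 1 2 (by decide)
  let p21 : F → Unit' (stdHerm hF 6) := P.gr 2 1 (by decide)
  let p01 : F → Unit' (stdHerm hF 6) := P.gr 0 1 (by decide)
  let p02 : F → Unit' (stdHerm hF 6) := P.gr 0 2 (by decide)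
  have a12 : ∀ c, (p12 c).1 (P.e 0) = P.e 0 ∧ (p12 c).1 (P.e 1) = P.e 1 ∧
      (p12 c).1 (P.e 2) = P.e 2 + c • P.e 1 := fun c => by simp [p12, P.gr_e]
  have a21 : ∀ c, (p21 c).1 (P.e 0) = P.e 0 ∧ (p21 c).1 (P.e 1) = P.e 1 + c • P.e 2 ∧
      (p21 c).1 (P.e 2) = P.e 2 := fun c => by simp [p21, P.gr_e]
  have a01 : ∀ c, (p01 c).1 (P.e 0) = P.e 0 ∧ (p01 c).1 (P.e 1) = P.e 1 + c • P.e 0 ∧
      (p01 c).1 (P.e 2) = P.e 2 := fun c => by simp [p01, P.gr_e]
  have a02 : ∀ c, (p02 c).1 (P.e 0) = P.e 0 ∧ (p02 c).1 (P.e 1) = P.e 1 ∧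
      (p02 c).1 (P.e 2) = P.e 2 + c • P.e 0 := fun c => by simp [p02, P.gr_e]
  have lift : ∀ i j hij c, D.L (D.s (P.gr i j hij c)) (P.gr i j hij c) := fun i j hij c =>
    D.L_s (P.det_gr i j hij c)
  have inW : ∀ (g : Unit' (stdHerm hF 6)), (∀ i, ∃ a b c : F, g.1 (P.e i) = a • P.e 0 + b • P.e 1 + c • P.e 2) →
      ∀ i, P.InW (g.1 (P.e i)) := fun g hg i j => by
    obtain ⟨a, b, c, e⟩ := hg i
    rw [e]
    simp [HermSpace.add_left, HermSpace.smul_left, P.ee]
  -- the elements of order three or five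
  set x := fun s => D.s (p12 s) with hx
  set y := fun u => D.s (p21 u) with hy
  have hxy : ∀ s u, D.L (x s * y u) (p12 s * p21 u) := fun s u => (lift _ _ _ _).mul (lift _ _ _ _)
  have hg0 : ∀ s u, (p12 s * p21 u).1 (P.e 0) = P.e 0 := fun s u => by
    simp [CfsgLib.Classical.Herm.mul_apply, (a12 s).1, (a21 u).1]
  have hg1 : ∀ s u, (p12 s * p21 u).1 (P.e 1) = (1 + u * s) • P.e 1 + u • P.e 2 := fun s u => by
    simp [CfsgLib.Classical.Herm.mul_apply, (a21 u).2.1, (a12 s).2.1, (a12 s).2.2, map_add, map_smul]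
    module
  have hg2 : ∀ s u, (p12 s * p21 u).1 (P.e 2) = s • P.e 1 + P.e 2 := fun s u => by
    simp [CfsgLib.Classical.Herm.mul_apply, (a21 u).2.2, (a12 s).2.2]
    module
  have hxyR : ∀ s u, (x s * y u) * (x s * y u) ∈ R := fun s u =>
    hsq _ _ (hxy s u) (inW _ fun i => by
      fin_cases i
      · exact ⟨1, 0, 0, by show (p12 s * p21 u).1 (P.e 0) = _; rw [hg0]; module⟩
      · exact ⟨0, 1 + u * s, u, by show (p12 s * p21 u).1 (P.e 1) = _; rw [hg1]; module⟩
      · exact ⟨0, s, 1, by show (p12 s * p21 u).1 (P.e 2) = _; rw [hg2]; module⟩) (hg0 s u)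
  have hrec : ∀ s u i, i = (1 : Fin 3) ∨ i = 2 → (p12 s * p21 u).1 ((p12 s * p21 u).1 (P.e i)) =
      (s * u) • (p12 s * p21 u).1 (P.e i) + P.e i := by
    rintro s u i (rfl | rfl)
    · rw [hg1, map_add, map_smul, map_smul, hg1, hg2]
      match_scalars <;> ring_nf <;> first | linear_combination (u * s) * h2 | simp [h2]
    · rw [hg2, map_add, map_smul, hg1, hg2]
      match_scalars <;> ring_nf <;> simp [h2]
  have hodd : ∀ s u, s * u = 1 ∨ s * u = ω → x s * y u ∈ R := by
    intro s u hsu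
    set g := p12 s * p21 u with hgdef
    set r := x s * y u with hrdef
    rcases hsu with h | h
    · have hfix : ∀ i, (g * g * g).1 (P.e i) = P.e i := by
        intro i
        simp only [CfsgLib.Classical.Herm.mul_apply]
        by_cases hi : i = 0
        · subst hi; rw [hg0, hg0, hg0]
        have e := hrec s u i (by omega)
        rw [h] at e
        exact order_three h2 g.1.toLinearMap _ e
      have h3 : r * r * r ∈ R := D.mem_of_alike P hA D.L_one (((hxy s u).mul (hxy s u)).mul (hxy s u))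
        (fun i => by rw [one_apply, hfix]) (one_mem R)
      have := mul_mem (inv_mem (hxyR s u)) h3
      rwa [inv_mul_cancel_left] at this
    · have hfix : ∀ i, (g * g * g * g * g).1 (P.e i) = P.e i := by
        intro i
        simp only [CfsgLib.Classical.Herm.mul_apply]
        by_cases hi : i = 0
        · subst hi; rw [hg0, hg0, hg0, hg0, hg0]
        have e := hrec s u i (by omega)
        rw [h] at e
        exact order_five h2 hω g.1.toLinearMap _ e
      have h5 : r * r * r * r * r ∈ R := D.mem_of_alike P hA D.L_one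
        (((((hxy s u).mul (hxy s u)).mul (hxy s u)).mul (hxy s u)).mul (hxy s u))
        (fun i => by rw [one_apply, hfix]) (one_mem R)
      have := mul_mem (inv_mem (hxyR s u)) (mul_mem (inv_mem (hxyR s u)) h5)
      rwa [show r * r * r * r * r = (r * r) * ((r * r) * r) by group, inv_mul_cancel_left,
        inv_mul_cancel_left] at this
  have hw : ω ^ 3 = 1 := by linear_combination (ω - 1) * hω
  have hdiff : ∀ s s' u, (s * u = 1 ∨ s * u = ω) → (s' * u = 1 ∨ s' * u = ω) → ∀ t, t = s + s' → x t ∈ R := by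
    intro s s' u hs hs' t ht
    have := mul_mem (hodd s u hs) (inv_mem (hodd s' u hs'))
    rw [mul_inv_rev, show x s * y u * ((y u)⁻¹ * (x s')⁻¹) = x s * (x s')⁻¹ by group] at this
    refine D.mem_of_alike P hA ((lift _ _ _ _).mul (lift _ _ _ _).inv) (lift 1 2 (by decide) t) ?_ this
    have e' : ∀ i, ((p12 s')⁻¹).1 (P.e i) = (p12 s').1 (P.e i) := fun i => by
      have : (p12 s').1 ((p12 s').1 (P.e i)) = P.e i := by
        obtain ⟨e0, e1, e2⟩ := a12 s'
        fin_cases i
        · show (p12 s').1 ((p12 s').1 (P.e 0)) = _; rw [e0, e0]; rfl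
        · show (p12 s').1 ((p12 s').1 (P.e 1)) = _; rw [e1, e1]; rfl
        · show (p12 s').1 ((p12 s').1 (P.e 2)) = P.e 2
          rw [e2, map_add, map_smul, e1, e2]
          match_scalars <;> ring_nf <;> simp [h2]
      conv_lhs => rw [← this, inv_apply_self]
    intro i
    show (p12 s * (p12 s')⁻¹).1 (P.e i) = (p12 t).1 (P.e i)
    rw [CfsgLib.Classical.Herm.mul_apply, e']
    obtain ⟨b0, b1, b2⟩ := a12 s'
    obtain ⟨c0, c1, c2⟩ := a12 s
    obtain ⟨d0, d1, d2⟩ := a12 t
    fin_cases i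
    · show (p12 s).1 ((p12 s').1 (P.e 0)) = (p12 t).1 (P.e 0); rw [b0, c0, d0]
    · show (p12 s).1 ((p12 s').1 (P.e 1)) = (p12 t).1 (P.e 1); rw [b1, c1, d1]
    · show (p12 s).1 ((p12 s').1 (P.e 2)) = (p12 t).1 (P.e 2)
      rw [b2, map_add, map_smul, c1, c2, d2, ht]
      module
  have hω1 : x ω ∈ R := hdiff (ω ^ 2) 1 ω (Or.inl (by linear_combination hw)) (Or.inr (one_mul ω)) ω
    (by linear_combination -hω + ω * h2)
  have hω2 : x (ω ^ 2) ∈ R := hdiff 1 ω 1 (Or.inl (one_mul 1)) (Or.inr (mul_one ω)) (ω ^ 2)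
    (by linear_combination hω - (ω + 1) * h2)
  have hx12 : ∀ c, x c ∈ R := by
    intro c
    have hadd : ∀ a b, x a ∈ R → x b ∈ R → x (a + b) ∈ R := by
      intro a b ha hb
      refine D.mem_of_alike P hA ((lift _ _ _ _).mul (lift _ _ _ _)) (lift 1 2 (by decide) (a + b)) ?_ (mul_mem ha hb)
      intro i
      show (p12 a * p12 b).1 (P.e i) = (p12 (a + b)).1 (P.e i)
      rw [CfsgLib.Classical.Herm.mul_apply]
      obtain ⟨b0, b1, b2⟩ := a12 b
      obtain ⟨c0, c1, c2⟩ := a12 a
      obtain ⟨d0, d1, d2⟩ := a12 (a + b)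
      fin_cases i
      · show (p12 a).1 ((p12 b).1 (P.e 0)) = (p12 (a + b)).1 (P.e 0); rw [b0, c0, d0]
      · show (p12 a).1 ((p12 b).1 (P.e 1)) = (p12 (a + b)).1 (P.e 1); rw [b1, c1, d1]
      · show (p12 a).1 ((p12 b).1 (P.e 2)) = (p12 (a + b)).1 (P.e 2)
        rw [b2, map_add, map_smul, c1, c2, d2]
        module
    obtain ⟨n, hn, rfl⟩ := iota_surj hF hω c
    interval_cases n
    · have := hadd _ _ hω1 hω1
      rwa [show ω + ω = iota ω 0 by simp [iota]; linear_combination ω * h2] at this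
    · have := hadd _ _ hω1 hω2
      rwa [show ω + ω ^ 2 = iota ω 1 by simp [iota]; linear_combination hω - h2] at this
    · simpa [iota] using hω1
    · have : iota ω 3 = ω ^ 2 := by simp [iota]
      rw [this]; exact hω2
  have hp01x : ∀ c, D.s (p02 c) ∈ R ∧ D.s (p01 c) ∈ R := by
    have h02 : ∀ c, D.s (p02 c) ∈ R := by
      intro c
      refine D.mem_of_alike P hA (((lift 0 1 (by decide) c).mul (lift 1 2 (by decide) 1)).mul
        ((lift 0 1 (by decide) c).mul (lift 1 2 (by decide) 1))) (lift 0 2 (by decide) c) ?_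
        (hsq _ _ ((lift 0 1 (by decide) c).mul (lift 1 2 (by decide) 1)) (inW _ ?_) ?_)
      · intro i
        show (p01 c * p12 1 * (p01 c * p12 1)).1 (P.e i) = (p02 c).1 (P.e i)
        obtain ⟨b0, b1, b2⟩ := a01 c
        obtain ⟨c0, c1, c2⟩ := a12 1
        obtain ⟨d0, d1, d2⟩ := a02 c
        simp only [CfsgLib.Classical.Herm.mul_apply]
        fin_cases i
        · simp [b0, c0, d0]
        · simp [map_add, map_smul, b0, b1, c0, c1, d1]
          match_scalars <;> ring_nf <;> simp [h2]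
        · simp [map_add, map_smul, b0, b1, b2, c0, c1, c2, d2]
          match_scalars <;> ring_nf <;> first | exact h2 | linear_combination c * h2
      · intro i
        show ∃ a b d, (p01 c * p12 1).1 (P.e i) = _
        obtain ⟨b0, b1, b2⟩ := a01 c
        obtain ⟨c0, c1, c2⟩ := a12 1
        simp only [CfsgLib.Classical.Herm.mul_apply]
        fin_cases i
        · exact ⟨1, 0, 0, by simp [b0, c0]⟩
        · exact ⟨c, 1, 0, by simp [b1, c1]; module⟩
        · exact ⟨c, 1, 1, by simp [map_add, b1, b2, c2]; module⟩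
      · show (p01 c * p12 1).1 (P.e 0) = _
        simp [CfsgLib.Classical.Herm.mul_apply, (a01 c).1, (a12 1).1]
    refine fun c => ⟨h02 c, D.mem_of_alike P hA (((lift 0 2 (by decide) c).mul (lift 2 1 (by decide) 1)).mul
      ((lift 0 2 (by decide) c).mul (lift 2 1 (by decide) 1))) (lift 0 1 (by decide) c) ?_
      (hsq _ _ ((lift 0 2 (by decide) c).mul (lift 2 1 (by decide) 1)) (inW _ ?_) ?_)⟩
    · intro i
      show (p02 c * p21 1 * (p02 c * p21 1)).1 (P.e i) = (p01 c).1 (P.e i)
      obtain ⟨b0, b1, b2⟩ := a02 c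
      obtain ⟨c0, c1, c2⟩ := a21 1
      obtain ⟨d0, d1, d2⟩ := a01 c
      simp only [CfsgLib.Classical.Herm.mul_apply]
      fin_cases i
      · simp [b0, c0, d0]
      · simp [map_add, map_smul, b0, b1, b2, c0, c1, c2, d1]
        match_scalars <;> ring_nf <;> first | exact h2 | linear_combination c * h2
      · simp [map_add, map_smul, b0, b2, c0, c2, d2]
        match_scalars <;> ring_nf <;> simp [h2]
    · intro i
      show ∃ a b d, (p02 c * p21 1).1 (P.e i) = _
      obtain ⟨b0, b1, b2⟩ := a02 c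
      obtain ⟨c0, c1, c2⟩ := a21 1
      simp only [CfsgLib.Classical.Herm.mul_apply]
      fin_cases i
      · exact ⟨1, 0, 0, by simp [b0, c0]⟩
      · exact ⟨c, 1, 1, by simp [map_add, b1, b2, c1]; module⟩
      · exact ⟨c, 0, 1, by simp [b2, c2]; module⟩
    · show (p02 c * p21 1).1 (P.e 0) = _
      simp [CfsgLib.Classical.Herm.mul_apply, (a02 c).1, (a21 1).1]
  refine sup_le hA (sup_le (fun c hc => ?_) (fun c hc => ?_))
  · obtain ⟨n, hn, hm, hL⟩ := hc
    obtain ⟨h0, h1, h2'⟩ := P.u3_apply hω hn hm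
    set p := iota ω (ent4 (lin baseMats n) 0 2)
    set q := iota ω (ent4 (lin baseMats n) 1 2)
    refine D.mem_of_alike P hA ((lift 1 2 (by decide) q).mul (lift 0 2 (by decide) p)) hL ?_
      (mul_mem (hx12 q) (hp01x p).1)
    intro i
    show (p12 q * p02 p).1 (P.e i) = _
    rw [CfsgLib.Classical.Herm.mul_apply]
    obtain ⟨b0, b1, b2⟩ := a12 q
    obtain ⟨c0, c1, c2⟩ := a02 p
    fin_cases i
    · simp [b0, c0, h0]
    · simp [b1, c1, h1]
    · simp [map_add, map_smul, b0, b2, c2, h2', p, q]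
      module
  · obtain ⟨n, hn, hm, hL⟩ := hc
    obtain ⟨h0, h1, h2', -⟩ := P.u2_apply hω hn hm
    refine D.mem_of_alike P hA (lift 0 1 (by decide) (iota ω (ent4 (lin baseMats n) 0 1))) hL ?_ (hp01x _).2
    intro i
    obtain ⟨b0, b1, b2⟩ := a01 (iota ω (ent4 (lin baseMats n) 0 1))
    fin_cases i
    · exact b0.trans h0.symm
    · exact b1.trans h1.symm
    · exact b2.trans h2'.symm

end CfsgLib.U6Cover
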