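import Cfsg.Agent.Lib.U6Cover.Central
import Cfsg.Agent.Lib.U6Cover.Roots
import Cfsg.Agent.Lib.U6Cover.Split
import Cfsg.Agent.Lib.U6Cover.CaseOne

/-!
If exactly one element over each element of `A` is a conjugate of the involution, the others form an invariant
complement, which either splits a double cover of `PSU(6, 2)` or a Sylow 2-subgroup of the cover, impossibly.
-/

set_option autoImplicit false
set_option linter.unusedSectionVars false

namespace CfsgLib.U6Cover

open CfsgLib.Classical.Herm HermSpace CfsgLib.UnitaryTransv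

attribute [-simp] stdHerm_h

/-- Each coordinate vector as a sum of two differences under generators. -/
def diffCert : List ((ℕ × ℕ) × (ℕ × ℕ)) :=
  [((0, 0), (0, 18)), ((0, 0), (2, 260)), ((0, 0), (5, 258)), ((0, 2), (2, 260)), ((0, 2), (2, 356)),
    ((0, 18), (5, 264)), ((0, 18), (5, 272)), ((2, 4), (5, 258)), ((4, 80), (5, 258))]

theorem diffCert_ok : ∀ i < 9,
    (diffCert.getD i ((0, 0), (0, 0))).1.1 < 6 ∧ (diffCert.getD i ((0, 0), (0, 0))).2.1 < 6 ∧
      (((diffCert.getD i ((0, 0), (0, 0))).1.2 ^^^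
          genAct (diffCert.getD i ((0, 0), (0, 0))).1.1 (diffCert.getD i ((0, 0), (0, 0))).1.2) ^^^
        ((diffCert.getD i ((0, 0), (0, 0))).2.2 ^^^
          genAct (diffCert.getD i ((0, 0), (0, 0))).2.1 (diffCert.getD i ((0, 0), (0, 0))).2.2)) = 2 ^ i := by
  decide +kernel

theorem lower_ok : (below 512 fun n => Nat.beq n 0 ||
    (List.range 9).any fun i => Nat.blt (n ^^^ 2 ^ i) n) = true := by decide +kernel

/-- Membership of a product when one of each element and its translate lies in a subgroup. -/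
theorem mem_mul_iff {C : Type*} [Group C] {z : C} (hz2 : z * z = 1) (hc : ∀ x, z * x = x * z) {K : Subgroup C}
    (hzK : z ∉ K) {a b : C} (ha : a ∈ K ∨ a * z ∈ K) (hb : b ∈ K ∨ b * z ∈ K) :
    a * b ∈ K ↔ (a ∈ K ↔ b ∈ K) := by
  have e : a * z * (b * z) = a * b := by
    rw [show a * z * (b * z) = a * (z * b) * z by group, hc b, show a * (b * z) * z = a * b * (z * z) by group,
      hz2, mul_one]
  by_cases h1 : a ∈ K
  · simp only [h1, true_iff]
    exact K.mul_mem_cancel_left h1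
  · by_cases h2 : b ∈ K
    · simp only [h2, iff_true]
      exact K.mul_mem_cancel_right h2
    · simp only [h1, h2, iff_true]
      rw [← e]
      exact mul_mem (ha.resolve_left h1) (hb.resolve_left h2)

variable {F : Type*} [Field F] [Fintype F] {hF : Fintype.card F = 2 ^ 2} {Q C G : Type*} [Group Q] [Finite Q]
  [Group C] [Finite C] [Group G] [Finite G]

/-- A Sylow subgroup meets the centraliser in the given one. -/
theorem Ctx.sylow_inter (T : Ctx hF Q) (P : Fr hF) {ω : F} (hω : ω ^ 2 + ω + 1 = 0) (S : Sylow 2 Q)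
    (hS : T.S0G P hω ≤ S) {s : Q} (hs : s ∈ S) (hsd : Commute s T.d) : s ∈ T.S0G P hω := by
  have : Fact (Nat.Prime 2) := ⟨Nat.prime_two⟩
  obtain ⟨S₀, hS₀, -⟩ := T.D.exists_sylow P hω
  have hR : IsPGroup 2 ((S : Subgroup Q).subgroupOf (Subgroup.centralizer ({T.d} : Set Q))) :=
    S.isPGroup'.comap_of_injective _ Subtype.val_injective
  have heq := S₀.is_maximal' hR (by rw [hS₀]; exact fun c hc => hS ⟨c, hc, rfl⟩)
  exact ⟨⟨s, Subgroup.mem_centralizer_singleton_iff.2 hsd.eq⟩, by rw [← hS₀, ← heq]; exact hs, rfl⟩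

variable (W : Dbl hF Q C G)

theorem Dbl.not_111 (P : Fr hF) {ω : F} (hω : ω ^ 2 + ω + 1 = 0) (hv : W.num P ω = (1, 1, 1, 1)) : False := by
  classical
  -- the complement is a subgroup, in every frame
  have hone : ∀ a ∈ W.B P, W.chi (W.ι a) + W.chi (W.ι (a * W.z)) = 1 := by
    intro a ha
    obtain ⟨k, hk, hok⟩ := W.T.exists_rep P hω (x := W.π a) ha
    have h := (W.vals_chi P ω).orb hω hk hok
    rw [W.cntF_π, hv] at h
    interval_cases k <;> simpa [pick] using h
  have hfree : ∀ a ∈ W.B P, ∀ b ∈ W.B P, W.chi (W.ι a) = 0 → W.chi (W.ι b) = 0 → W.chi (W.ι (a * b)) = 0 := by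
    intro a ha b hb ha0 hb0
    have h0 : W.r2 P ω (W.ι W.z) = 0 := by
      have hz := W.r2_z P hω
      have hsum := W.sum_chi P hω
      have e : conv4 (1, 1, 1, 1) (1, 1, 1, 1) = (1024, 1024, 1024, 1024) := by decide +kernel
      rw [hv, e] at hz
      rw [hv] at hsum
      simp only at hz hsum
      omega
    have hb1 : W.chi (W.ι (b * W.z)) = 1 := by have := hone b hb; omega
    have ha1 : W.chi (W.ι (a * W.z)) = 1 := by have := hone a ha; omega
    have hbz : W.ι (b * W.z) ∈ W.BG P := ⟨_, mul_mem hb (W.z_mem P), rfl⟩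
    have h2 := W.const_of_inv P (W.r2_inv P hω) hbz (W.chi_eq_one.1 hb1)
    rw [h0, Dbl.r2, Dbl.cv] at h2
    obtain ⟨p, hp⟩ := (W.el2_spec P hω).2.2 _ (mul_mem ha (W.z_mem P))
    have h3 := Nat.le_zero.1
      ((term_le (fun q => W.chi (W.ι (W.el2 P ω q)) * W.chi (W.ι (W.el2 P ω q) * W.ι (b * W.z))) p).trans_eq h2)
    have e : a * W.z * (b * W.z) = a * b := by
      rw [show a * W.z * (b * W.z) = a * (W.z * b) * W.z by group, W.central b,
        show a * (b * W.z) * W.z = a * b * (W.z * W.z) by group, W.z_sq, mul_one]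
    rw [hp, ← map_mul, e, ha1, one_mul] at h3
    exact h3
  have hgen : ∀ R : Fr hF, (∀ a ∈ W.B R, W.chi (W.ι a) = 0 ∨ W.chi (W.ι (a * W.z)) = 0) ∧
      ∀ a ∈ W.B R, ∀ b ∈ W.B R, W.chi (W.ι a) = 0 → W.chi (W.ι b) = 0 → W.chi (W.ι (a * b)) = 0 := by
    intro R
    obtain ⟨c, hc⟩ := W.exists_conj_B P (E := W.B R) (W.B_elem R) (le_of_eq (W.card_B R).symm)
    have hchi : ∀ a, W.chi (W.ι (c⁻¹ * a * c)) = W.chi (W.ι a) := fun a => by
      rw [map_mul, map_mul, map_inv]
      simpa using W.chi_conj (W.ι c)⁻¹ (W.ι a)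
    refine ⟨fun a ha => ?_, fun a ha b hb ha0 hb0 => ?_⟩
    · rw [hc, mem_conjSub] at ha
      have h := hone _ ha
      have e : c⁻¹ * a * c * W.z = c⁻¹ * (a * W.z) * c := by
        rw [mul_assoc _ c, ← W.central c]; group
      rw [e, hchi, hchi] at h
      omega
    · rw [hc, mem_conjSub] at ha hb
      have h := hfree _ ha _ hb (by rw [hchi]; exact ha0) (by rw [hchi]; exact hb0)
      rwa [show c⁻¹ * a * c * (c⁻¹ * b * c) = c⁻¹ * (a * b) * c by group, hchi] at h
  have hinvol : ∀ {R : Fr hF} {a}, a ∈ W.B R → a⁻¹ = a := fun ha => inv_eq_of_mul_eq_one_left (W.B_sq _ ha)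
  let H : Subgroup C :=
    { carrier := {a | a ∈ W.B P ∧ W.chi (W.ι a) = 0}
      one_mem' := ⟨one_mem _, by rw [map_one]; exact W.chi_one⟩
      mul_mem' := fun ⟨h1, h2⟩ ⟨h3, h4⟩ => ⟨mul_mem h1 h3, hfree _ h1 _ h3 h2 h4⟩
      inv_mem' := fun {a} ⟨h1, h2⟩ => by rw [hinvol h1]; exact ⟨h1, h2⟩ }
  have hzchi : W.chi (W.ι W.z) = 1 := W.chi_eq_one.2 (IsConj.refl _)
  have hzH : W.z ∉ H := fun h => by have := h.2; omega
  have hHor : ∀ a ∈ W.B P, a ∈ H ∨ a * W.z ∈ H := fun a ha =>
    ((hgen P).1 a ha).imp (fun h => ⟨ha, h⟩) (fun h => ⟨mul_mem ha (W.z_mem P), h⟩)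
  -- the element of the complement over the involution
  obtain ⟨w, hwπ, hw0⟩ : ∃ w, W.π w = W.T.d ∧ w ∈ H := by
    have hs : W.s W.T.d ∈ W.B P := show W.π _ ∈ W.T.AG P by rw [W.π_s]; exact W.T.d_mem P
    rcases hHor _ hs with h | h
    · exact ⟨_, W.π_s _, h⟩
    · exact ⟨_, by rw [map_mul, W.π_s, W.πz, mul_one], h⟩
  have hw2 : w * w = 1 := W.B_sq P hw0.1
  have hwc : ∀ a, Commute (W.π a) W.T.d → Commute w a := by
    intro a ha
    rcases W.eq_or (x := w) (y := W.s W.T.d) (by rw [W.π_s, hwπ]) with e | e <;> rw [e]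
    · exact (W.central_lift ha).symm
    · exact (W.central_lift ha).symm.mul_left (W.central a)
  set H0 := (Subgroup.centralizer ({W.T.d} : Set Q)).comap W.π
  have hH0 : ∀ a, a ∈ H0 ↔ Commute (W.π a) W.T.d := fun a => Subgroup.mem_centralizer_singleton_iff
  have hzH0 : W.z ∈ H0 := (hH0 _).2 (by rw [W.πz]; exact Commute.one_left _)
  have hwH0 : w ∈ H0 := (hH0 _).2 (by rw [hwπ])
  let ρ : H0 →* ↥(Subgroup.centralizer ({W.T.d} : Set Q)) :=
    { toFun := fun y => ⟨W.π y.1, y.2⟩
      map_one' := Subtype.ext (map_one W.π)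
      map_mul' := fun a b => Subtype.ext (map_mul W.π _ _) }
  have hρ : Function.Surjective ρ := fun c => by
    obtain ⟨y, hy⟩ := W.surj c.1
    exact ⟨⟨y, show W.π y ∈ _ from hy ▸ c.2⟩, Subtype.ext hy⟩
  let z0 : H0 := ⟨W.z, hzH0⟩
  let w0 : H0 := ⟨w, hwH0⟩
  have hwpow : ∀ y : H0, y ∈ Subgroup.zpowers w0 ↔ y = 1 ∨ y = w0 := fun y => by
    have hw02 : w0 * w0 = 1 := Subtype.ext hw2
    constructor
    · intro hy
      obtain ⟨j, rfl⟩ := Subgroup.mem_zpowers_iff.1 hy
      rcases Int.even_or_odd j with ⟨i, rfl⟩ | ⟨i, rfl⟩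
      · left; rw [zpow_add, ← (Commute.refl w0).mul_zpow, hw02, one_zpow]
      · right; rw [zpow_add, zpow_one, two_mul, zpow_add, ← (Commute.refl w0).mul_zpow, hw02, one_zpow, one_mul]
    · rintro (rfl | rfl)
      · exact one_mem _
      · exact Subgroup.mem_zpowers _
  set K0 : Subgroup H0 := commutator H0 ⊔ Subgroup.zpowers w0
  have hK0or : ∀ y : H0, y ∈ K0 ∨ y * z0 ∈ K0 := by
    intro y
    have hmap : (commutator H0).map ρ = ⊤ := by
      rw [commutator_def, Subgroup.map_commutator, ← MonoidHom.range_eq_map, MonoidHom.range_eq_top.2 hρ,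
        ← commutator_def, W.T.perfect.commutator_eq_top]
    obtain ⟨b, hb, hby⟩ : ρ y ∈ (commutator H0).map ρ := by rw [hmap]; trivial
    rcases W.eq_or (x := y.1) (y := b.1) (congrArg Subtype.val hby).symm with e | e
    · refine Or.inl ?_
      rw [show y = b from Subtype.ext e]
      exact Subgroup.mem_sup_left hb
    · refine Or.inr ?_
      have : y * z0 = b := Subtype.ext (by
        show y.1 * W.z = b.1
        rw [e, mul_assoc, W.z_sq, mul_one])
      rw [this]
      exact Subgroup.mem_sup_left hb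
  by_cases hz0 : z0 ∈ K0
  · -- a double cover of `PSU(6, 2)` with an invariant splitting
    have hK0 : ∀ y : H0, y ∈ K0 := fun y => (hK0or y).elim id fun h => by
      have := mul_mem h hz0
      rwa [mul_assoc, show z0 * z0 = 1 from Subtype.ext W.z_sq, mul_one] at this
    have hN : (Subgroup.zpowers w0).Normal := ⟨fun n hn g => by
      rcases (hwpow n).1 hn with rfl | rfl
      · simp
      · rw [show g * w0 * g⁻¹ = w0 from Subtype.ext (by
          show g.1 * w * g.1⁻¹ = w
          rw [← (hwc g.1 ((hH0 _).1 g.2)).eq, mul_inv_cancel_right])]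
        exact Subgroup.mem_zpowers _⟩
    have hker : ∀ n ∈ Subgroup.zpowers w0, (W.T.D.θ.comp ρ) n = 1 := fun n hn => by
      rcases (hwpow n).1 hn with rfl | rfl
      · exact map_one _
      · exact (W.T.D.ker _).2 (Or.inr (Subtype.ext (by show W.π w = _; rw [hwπ, W.T.hz])))
    let D' : Data hF (H0 ⧸ Subgroup.zpowers w0) :=
      { θ := QuotientGroup.lift _ (W.T.D.θ.comp ρ) hker
        z := QuotientGroup.mk z0
        surj := fun q => by
          obtain ⟨c, rfl⟩ := W.T.D.surj q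
          obtain ⟨y, rfl⟩ := hρ c
          exact ⟨QuotientGroup.mk y, rfl⟩
        z_sq := by rw [← QuotientGroup.mk_mul, show z0 * z0 = 1 from Subtype.ext W.z_sq, QuotientGroup.mk_one]
        z_ne := fun h => by
          rcases (hwpow z0).1 ((QuotientGroup.eq_one_iff _).1 h) with e | e
          · exact W.z_ne (congrArg Subtype.val e)
          · exact W.T.d_ne (by rw [← hwπ, show w = W.z from (congrArg Subtype.val e).symm, W.πz])
        ker := fun c => by
          induction c using QuotientGroup.induction_on with | _ y => ?_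
          constructor
          · intro h
            have hy : W.π y.1 = 1 ∨ W.π y.1 = W.T.d := by
              rcases (W.T.D.ker (ρ y)).1 h with e | e
              · exact Or.inl (congrArg Subtype.val e)
              · exact Or.inr ((congrArg Subtype.val e).trans W.T.hz)
            rcases hy with e | e
            · rcases (W.ker y.1).1 e with r | r
              · exact Or.inl (by rw [show y = 1 from Subtype.ext r]; rfl)
              · exact Or.inr (by rw [show y = z0 from Subtype.ext r])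
            · rcases W.eq_or (x := y.1) (y := w) (e.trans hwπ.symm) with r | r
              · exact Or.inl ((QuotientGroup.eq_one_iff _).2 ((hwpow y).2 (Or.inr (Subtype.ext r))))
              · refine Or.inr (QuotientGroup.eq.2 ((hwpow _).2 (Or.inr ?_)))
                apply Subtype.ext
                show y.1⁻¹ * W.z = w
                rw [r, mul_inv_rev, inv_eq_of_mul_eq_one_left W.z_sq, inv_eq_of_mul_eq_one_left hw2,
                  mul_assoc, ← W.central w, ← mul_assoc, W.z_sq, one_mul]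
          · rintro (h | h) <;> rw [h]
            · exact map_one _
            · exact (W.T.D.ker (ρ z0)).2 (Or.inl (Subtype.ext W.πz))
        central := fun q => by
          induction q using QuotientGroup.induction_on with | _ y => ?_
          rw [← QuotientGroup.mk_mul, ← QuotientGroup.mk_mul, show z0 * y = y * z0 from Subtype.ext (W.central y.1)] }
    have hperf : Group.IsPerfect (H0 ⧸ Subgroup.zpowers w0) := ⟨by
      refine eq_top_iff.2 fun q _ => ?_
      induction q using QuotientGroup.induction_on with | _ y => ?_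
      obtain ⟨a, ha, b, hb, e⟩ := decomp_sup (commutator H0) (Subgroup.zpowers w0)
        (fun n _ => by rw [Subgroup.normalizer_eq_top]; trivial) (hK0 y)
      have hb1 : (QuotientGroup.mk b : H0 ⧸ Subgroup.zpowers w0) = 1 := (QuotientGroup.eq_one_iff _).2 hb
      rw [e, QuotientGroup.mk_mul, hb1, mul_one]
      have hmap : (commutator H0).map (QuotientGroup.mk' (Subgroup.zpowers w0)) ≤
          commutator (H0 ⧸ Subgroup.zpowers w0) := by
        rw [commutator_def, Subgroup.map_commutator]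
        exact Subgroup.commutator_mono le_top le_top
      exact hmap ⟨a, ha, rfl⟩⟩
    have hA : ∀ (R : Fr hF) (y : H0), (QuotientGroup.mk y : H0 ⧸ Subgroup.zpowers w0) ∈ D'.A R → y.1 ∈ W.B R := by
      rintro R y ⟨k, hk, g, hg, hg'⟩
      exact ⟨ρ y, ⟨k, hk, g, hg, hg'⟩, rfl⟩
    refine D'.no_split hperf P hω (fun q => ∃ y : H0, QuotientGroup.mk y = q ∧ W.chi (W.ι y.1) = 0)
      ⟨1, rfl, by simp [W.chi_one]⟩ ?_ ?_ ?_ ?_
    · rintro ⟨y, hy, h0⟩
      have hmem : y⁻¹ * z0 ∈ Subgroup.zpowers w0 := QuotientGroup.eq.1 hy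
      rcases (hwpow _).1 hmem with e | e
      · rw [inv_mul_eq_one.1 e] at h0
        exact absurd h0 (by rw [hzchi]; exact one_ne_zero)
      · have hy' : y.1 = w * W.z := by
          have e' : y.1⁻¹ * W.z = w := congrArg Subtype.val e
          rw [inv_mul_eq_iff_eq_mul] at e'
          calc y.1 = y.1 * w * w := by rw [mul_assoc, hw2, mul_one]
            _ = W.z * w := by rw [← e']
            _ = w * W.z := W.central w
        rw [hy'] at h0
        exact hzH ((H.mul_mem_cancel_left hw0).1 ⟨mul_mem hw0.1 (W.z_mem P), h0⟩)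
    · rintro c q ⟨y, rfl, h0⟩
      induction c using QuotientGroup.induction_on with | _ x => ?_
      refine ⟨x * y * x⁻¹, rfl, ?_⟩
      show W.chi (W.ι (x.1 * y.1 * x.1⁻¹)) = 0
      rw [map_mul, map_mul, map_inv, W.chi_conj]
      exact h0
    · rintro R a ha b hb ⟨x, rfl, hx⟩ ⟨y, rfl, hy⟩
      exact ⟨x * y, rfl, (hgen R).2 _ (hA R x ha) _ (hA R y hb) hx hy⟩
    · intro R q hq
      induction q using QuotientGroup.induction_on with | _ y => ?_
      rcases (hgen R).1 _ (hA R y hq) with h | h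
      · exact Or.inl ⟨y, rfl, h⟩
      · exact Or.inr ⟨y * z0, rfl, h⟩
  -- the derived subgroup of the preimage of the centraliser
  set Kd := K0.map H0.subtype
  have hKdle : ∀ a ∈ Kd, a ∈ H0 := by rintro _ ⟨y, -, rfl⟩; exact y.2
  have hKd : ∀ y : H0, y.1 ∈ Kd ↔ y ∈ K0 := fun y =>
    ⟨fun ⟨x, hx, e⟩ => by rwa [← show x = y from Subtype.ext e], fun h => ⟨y, h, rfl⟩⟩
  have hzKd : W.z ∉ Kd := fun h => hz0 ((hKd z0).1 h)
  have hwKd : w ∈ Kd := (hKd w0).2 (Subgroup.mem_sup_right (Subgroup.mem_zpowers _))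
  have hKdor : ∀ a ∈ H0, a ∈ Kd ∨ a * W.z ∈ Kd := fun a ha =>
    (hK0or ⟨a, ha⟩).imp (fun h => (hKd _).2 h) (fun h => (hKd (⟨a, ha⟩ * z0)).2 h)
  have hcommK : ∀ a ∈ H0, ∀ b ∈ H0, a * b * a⁻¹ * b⁻¹ ∈ Kd := fun a ha b hb => by
    refine (hKd (⟨a, ha⟩ * ⟨b, hb⟩ * ⟨a, ha⟩⁻¹ * ⟨b, hb⟩⁻¹)).2 (Subgroup.mem_sup_left ?_)
    rw [commutator_def]
    exact Subgroup.commutator_mem_commutator (Subgroup.mem_top _) (Subgroup.mem_top _)
  have hKnorm : ∀ a ∈ H0, ∀ b ∈ Kd, a * b * a⁻¹ ∈ Kd := fun a ha b hb => by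
    have := mul_mem (hcommK a ha b (hKdle b hb)) hb
    rwa [inv_mul_cancel_right] at this
  have hBH0 : ∀ a ∈ W.B P, a ∈ H0 := fun a ha => (hH0 a).2 (W.T.AG_comm P ha (W.T.d_mem P))
  -- it agrees with the complement on the subgroup of order `2 ^ 11`
  let good : Subgroup Q :=
    { carrier := {q | q ∈ W.T.AG P ∧ ∀ a, W.π a = q → (a ∈ Kd ↔ a ∈ H)}
      one_mem' := ⟨one_mem _, fun a ha => by
        rcases (W.ker a).1 ha with rfl | rfl
        · exact iff_of_true (one_mem _) (one_mem _)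
        · exact iff_of_false hzKd hzH⟩
      mul_mem' := by
        rintro p q ⟨hp, hp'⟩ ⟨hq, hq'⟩
        refine ⟨mul_mem hp hq, fun a ha => ?_⟩
        obtain ⟨x, rfl⟩ := W.surj p
        obtain ⟨y, rfl⟩ := W.surj q
        have hxB : x ∈ W.B P := hp
        have hyB : y ∈ W.B P := hq
        have hxz := W.B P |>.mul_mem hxB (W.z_mem P)
        have key : ∀ x ∈ W.B P, ∀ y ∈ W.B P, (x ∈ Kd ↔ x ∈ H) → (y ∈ Kd ↔ y ∈ H) →
            (x * y ∈ Kd ↔ x * y ∈ H) := fun x hx y hy h1 h2 => by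
          rw [mem_mul_iff W.z_sq W.central hzKd (hKdor x (hBH0 x hx)) (hKdor y (hBH0 y hy)),
            mem_mul_iff W.z_sq W.central hzH (hHor x hx) (hHor y hy), h1, h2]
        rcases W.eq_or (x := a) (y := x * y) (by rw [ha, map_mul]) with rfl | rfl
        · exact key x hxB y hyB (hp' x rfl) (hq' y rfl)
        · rw [mul_assoc]
          exact key x hxB (y * W.z) (mul_mem hyB (W.z_mem P)) (hp' x rfl)
            (hq' _ (by rw [map_mul, W.πz, mul_one]))
      inv_mem' := by
        rintro p ⟨hp, hp'⟩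
        have : p⁻¹ = p := inv_eq_of_mul_eq_one_left (by rw [← pow_two]; exact (W.T.AG_elem P).2 p hp)
        rw [this]; exact ⟨hp, hp'⟩ }
  have hgood_of : ∀ a ∈ W.B P, (a ∈ Kd ↔ a ∈ H) → W.π a ∈ good := fun a ha h => by
    refine ⟨ha, fun b hb => ?_⟩
    rcases W.eq_or hb with rfl | rfl
    · exact h
    · rw [mem_mul_iff W.z_sq W.central hzKd (hKdor a (hBH0 a ha)) (Or.inr (by rw [W.z_sq]; exact one_mem _)),
        mem_mul_iff W.z_sq W.central hzH (hHor a ha) (Or.inr (by rw [W.z_sq]; exact one_mem _)), h]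
      simp [hzKd, hzH]
  have hdgood : W.T.d ∈ good := hwπ ▸ hgood_of w hw0.1 (iff_of_true hwKd hw0)
  have hstep : ∀ g < 6, ∀ n, W.T.av P ω (n ^^^ genAct g n) ∈ good := by
    intro g hg n
    obtain ⟨c, hc, hcd, hco⟩ := W.T.over_gen P hω hg
    obtain ⟨ĉ, rfl⟩ := W.surj c
    obtain ⟨a, ha⟩ := W.surj (W.T.av P ω n)
    have haB : a ∈ W.B P := show W.π a ∈ W.T.AG P from ha ▸ W.T.av_mem P hω n
    have hcaB : ĉ * a * ĉ⁻¹ ∈ W.B P := show W.π _ ∈ W.T.AG P by
      rw [map_mul, map_mul, map_inv]; exact (Subgroup.mem_normalizer_iff.1 hc _).1 haB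
    have hH : ĉ * a * ĉ⁻¹ * a⁻¹ ∈ H := by
      have key : ∀ a, a ∈ H → ĉ * a * ĉ⁻¹ ∈ W.B P → ĉ * a * ĉ⁻¹ * a⁻¹ ∈ H := fun a ha h =>
        mul_mem ⟨h, by rw [map_mul, map_mul, map_inv, W.chi_conj]; exact ha.2⟩ (inv_mem ha)
      rcases hHor a haB with h | h
      · exact key a h hcaB
      · have e2 : ĉ * (a * W.z) * ĉ⁻¹ = ĉ * a * ĉ⁻¹ * W.z := by
          rw [← mul_assoc, mul_assoc (ĉ * a), W.central, ← mul_assoc]
        have := key _ h (by rw [e2]; exact mul_mem hcaB (W.z_mem P))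
        rwa [e2, mul_inv_rev, inv_eq_of_mul_eq_one_left W.z_sq, ← mul_assoc, mul_assoc (ĉ * a * ĉ⁻¹) W.z W.z,
          W.z_sq, mul_one] at this
    have hm := hgood_of _ hH.1
      (iff_of_true (hcommK ĉ ((hH0 _).2 hcd) a (hBH0 a haB)) hH)
    have h1 := hco n _ (Or.inl rfl)
    rw [← ha, ← map_inv, ← map_mul, ← map_mul] at h1
    have ha' : W.π a⁻¹ = W.π a := by rw [inv_eq_of_mul_eq_one_left (W.B_sq P haB)]
    have h2 : W.T.Over P ω (genAct g n ^^^ n) (W.π (ĉ * a * ĉ⁻¹ * a⁻¹)) := by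
      rw [map_mul _ _ a⁻¹, ha']
      exact h1.mul (show W.T.Over P ω n (W.π a) from Or.inl ha)
    rw [Nat.xor_comm]
    rcases h2 with e | e
    · exact e ▸ hm
    · have h3 := mul_mem hm hdgood
      rwa [e, mul_assoc, W.T.d_sq, mul_one] at h3
  have hpow : ∀ i < 9, W.T.av P ω (2 ^ i) ∈ good := fun i hi => by
    obtain ⟨h1, h2, h3⟩ := diffCert_ok i hi
    rw [← h3, W.T.av_xor]
    exact mul_mem (hstep _ h1 _) (hstep _ h2 _)
  have hall : ∀ n < 512, W.T.av P ω n ∈ good := by
    intro n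
    induction n using Nat.strong_induction_on with
    | _ n ih =>
      intro hn
      by_cases hn0 : n = 0
      · rw [hn0, W.T.av_zero]; exact one_mem _
      have h := below_spec lower_ok hn
      simp only [Bool.or_eq_true, List.any_eq_true, List.mem_range, Nat.blt_eq] at h
      rcases h with h | ⟨i, hi, h⟩
      · exact absurd (Nat.eq_of_beq_eq_true h) hn0
      · have := mul_mem (ih _ h (h.trans hn)) (hpow i hi)
        rwa [← W.T.av_xor, Nat.xor_assoc, Nat.xor_self, Nat.xor_zero] at this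
  have hagree : ∀ a ∈ W.B P, (a ∈ Kd ↔ a ∈ H) := by
    intro a ha
    obtain ⟨n, hn, ho⟩ := W.T.exists_over P hω (x := W.π a) ha
    have hmem : W.π a ∈ good := by
      rcases ho with e | e <;> rw [e]
      · exact hall n hn
      · exact mul_mem (hall n hn) hdgood
    exact hmem.2 a rfl
  -- agreement with its conjugate on a Sylow subgroup of the centraliser
  obtain ⟨K⟩ := W.nonempty_swap P hω
  set t := K.t
  have hM0 : ∀ g, Commute (W.π g) (W.T.pt P ω 1) → t⁻¹ * g * t ∈ H0 := fun g hg => by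
    rw [hH0, map_mul, map_mul, map_inv]
    show _ = _
    calc (W.π t)⁻¹ * W.π g * W.π t * W.T.d
        = (W.π t)⁻¹ * (W.π g * (W.π t * W.T.d * (W.π t)⁻¹)) * W.π t := by group
      _ = (W.π t)⁻¹ * ((W.π t * W.T.d * (W.π t)⁻¹) * W.π g) * W.π t := by rw [K.htd, hg.eq]
      _ = _ := by group
  let R0 : Subgroup C :=
    { carrier := {g | g ∈ H0 ∧ Commute (W.π g) (W.T.pt P ω 1) ∧ (g ∈ Kd ↔ t⁻¹ * g * t ∈ Kd)}
      one_mem' := ⟨one_mem _, by rw [map_one]; exact Commute.one_left _, by simp⟩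
      mul_mem' := by
        rintro a b ⟨ha, ha', hia⟩ ⟨hb, hb', hib⟩
        refine ⟨mul_mem ha hb, by rw [map_mul]; exact ha'.mul_left hb', ?_⟩
        rw [show t⁻¹ * (a * b) * t = t⁻¹ * a * t * (t⁻¹ * b * t) by group,
          mem_mul_iff W.z_sq W.central hzKd (hKdor a ha) (hKdor b hb),
          mem_mul_iff W.z_sq W.central hzKd (hKdor _ (hM0 a ha')) (hKdor _ (hM0 b hb')), hia, hib]
      inv_mem' := by
        rintro a ⟨ha, ha', hia⟩
        refine ⟨inv_mem ha, by rw [map_inv]; exact ha'.inv_left, ?_⟩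
        rw [show t⁻¹ * a⁻¹ * t = (t⁻¹ * a * t)⁻¹ by group, inv_mem_iff, inv_mem_iff]
        exact hia }
  have htN : W.π t ∈ W.T.N P := K.hSN ((K.hR t).1 K.ht)
  obtain ⟨hp1, -⟩ := W.T.pt_conj P hω (n := 1) (by decide)
  have hBR0 : W.B P ≤ R0 := fun a ha => by
    have ht' : t⁻¹ * a * t ∈ W.B P := show W.π _ ∈ W.T.AG P by
      rw [map_mul, map_mul, map_inv]; exact (Subgroup.mem_normalizer_iff''.1 htN _).1 ha
    refine ⟨hBH0 a ha, W.T.AG_comm P ha hp1, ?_⟩
    rw [hagree a ha, hagree _ ht']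
    have hchi : W.chi (W.ι (t⁻¹ * a * t)) = W.chi (W.ι a) := by
      rw [map_mul, map_mul, map_inv]
      simpa using W.chi_conj (W.ι t)⁻¹ (W.ι a)
    exact ⟨fun h => ⟨ht', hchi.trans h.2⟩, fun h => ⟨ha, hchi.symm.trans h.2⟩⟩
  have hsqK : ∀ a ∈ H0, a * a ∈ Kd := fun a ha =>
    (mem_mul_iff W.z_sq W.central hzKd (hKdor a ha) (hKdor a ha)).2 Iff.rfl
  have hS0 : ∀ g, W.π g ∈ W.T.S0G P hω → g ∈ R0 := by
    have hle : W.T.D.S0 P ω hω ≤ (R0.map W.π).comap (Subgroup.centralizer ({W.T.d} : Set Q)).subtype := by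
      refine W.T.D.S0_le_of P hω _ (fun c hc => ?_) fun c g hL hW h0 => ?_
      · obtain ⟨y, hy⟩ := W.surj (c : Q)
        exact ⟨y, hBR0 (show W.π y ∈ W.T.AG P from hy ▸ ⟨c, hc, rfl⟩), hy⟩
      · obtain ⟨y, hy⟩ := W.surj (c : Q)
        have hyH : y ∈ H0 := show W.π y ∈ _ from hy ▸ c.2
        have hcN : (c : Q) ∈ W.T.N P := W.T.coe_mem_N P (W.T.D.conj_mem P hL hW)
        have hfix : Commute (c : Q) (W.T.pt P ω 1) := by
          have hu : P.u ω 1 = P.tvv ω 1 := by
            simp [Fr.u, baseVecs, prodBits, Nat.beq]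
          have hv1 : g.1 (P.vec ω 1) = P.vec ω 1 := by rw [← (P.e_eq_vec ω).1, h0]
          have hconj : g * P.u ω 1 * g⁻¹ = P.u ω 1 := by
            rw [hu, Fr.tvv, tv_conj hF g]
            congr 1
          have h1 := hL.conj (W.T.D.L_au P ω 1)
          rw [hconj] at h1
          have hd : Commute (c : Q) W.T.d := Subgroup.mem_centralizer_singleton_iff.1 c.2
          have hoc : W.T.Over P ω 1 ((c : Q) * W.T.av P ω 1 * (c : Q)⁻¹) := by
            rcases (W.T.D.L_au P ω 1).eq_or h1 with e | e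
            · exact Or.inl (congrArg Subtype.val e)
            · refine Or.inr ((congrArg Subtype.val e).trans ?_)
              show (W.T.D.au P ω 1 : Q) * (W.T.D.z : Q) = _
              rw [W.T.hz]; rfl
          have hop : W.T.Over P ω 1 ((c : Q) * W.T.pt P ω 1 * (c : Q)⁻¹) := by
            rcases W.T.pt_over P (ω := ω) 1 with e | e <;> rw [e]
            · exact hoc
            · have := hoc.mul (m := 0) (y := W.T.d) (Or.inr (by rw [W.T.av_zero, one_mul]))
              rw [Nat.xor_zero] at this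
              rwa [show (c : Q) * (W.T.av P ω 1 * W.T.d) * (c : Q)⁻¹ = (c : Q) * W.T.av P ω 1 * (c : Q)⁻¹ * W.T.d by
                rw [← mul_assoc, mul_assoc _ W.T.d, ← hd.inv_left.eq, ← mul_assoc]]
          have hconj' : IsConj W.T.d ((c : Q) * W.T.pt P ω 1 * (c : Q)⁻¹) :=
            (W.T.pt_conj P hω (n := 1) (by decide)).2.trans (isConj_iff.2 ⟨_, rfl⟩)
          exact mul_inv_eq_iff_eq_mul.1 ((W.T.conj_iff P hω (by norm_num) hop).1 hconj').2
        refine ⟨y * y, ⟨mul_mem hyH hyH, by rw [map_mul, hy]; exact hfix.mul_left hfix, ?_⟩, ?_⟩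
        · refine iff_of_true (hsqK y hyH) ?_
          rw [show t⁻¹ * (y * y) * t = t⁻¹ * y * t * (t⁻¹ * y * t) by group]
          exact hsqK _ (hM0 y (hy ▸ hfix))
        · show W.π (y * y) = ((c * c : _) : Q)
          rw [map_mul, hy]; rfl
    intro g hg
    obtain ⟨c, hc, hce⟩ := hg
    obtain ⟨y, hy, hye⟩ := hle hc
    rcases W.eq_or (x := g) (y := y) (hce.symm.trans hye.symm) with rfl | rfl
    · exact hy
    · exact mul_mem hy (hBR0 (W.z_mem P))
  -- a homomorphism of the Sylow subgroup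
  let L : Subgroup K.R :=
    { carrier := {g | (g : C) ∈ Kd}
      one_mem' := show ((1 : K.R) : C) ∈ Kd from one_mem Kd
      mul_mem' := fun {x y} h h' => show ((x * y : K.R) : C) ∈ Kd from
        mul_mem (show (x : C) ∈ Kd from h) (show (y : C) ∈ Kd from h')
      inv_mem' := fun {x} h => show ((x⁻¹ : K.R) : C) ∈ Kd from inv_mem (show (x : C) ∈ Kd from h) }
  have hfixS : ∀ g : K.R, (g : C) ∈ H0 → (g : C) ∈ R0 := fun g hg =>
    hS0 _ (W.T.sylow_inter P hω K.S K.hS0 ((K.hR _).1 g.2) ((hH0 _).1 hg))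
  let tR : K.R := ⟨t, K.ht⟩
  let zR : K.R := ⟨W.z, K.B_le (W.z_mem P)⟩
  have hout : ∀ s : K.R, (s : C) ∉ H0 → t⁻¹ * (s : C) ∈ H0 := by
    intro s hs
    rcases K.swap s s.2 with ⟨e, -⟩ | ⟨e, -⟩
    · exfalso
      apply hs
      rw [hH0]
      have := congrArg W.π e
      rw [map_mul, map_mul, map_inv, W.π_s] at this
      exact mul_inv_eq_iff_eq_mul.1 this
    · rw [hH0, map_mul, map_inv]
      have h1 := congrArg W.π e
      rw [map_mul, map_mul, map_mul, map_mul, map_inv, map_inv, W.π_s] at h1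
      show _ = _
      calc (W.π t)⁻¹ * W.π (s : C) * W.T.d
          = (W.π t)⁻¹ * (W.π (s : C) * W.T.d * (W.π (s : C))⁻¹) * W.π (s : C) := by group
        _ = W.T.d * ((W.π t)⁻¹ * W.π (s : C)) := by rw [h1]; simp only [t]; group
  have hLn : L.Normal := ⟨fun g (hg : (g : C) ∈ Kd) s => by
    show ((s : C) * g * (s : C)⁻¹) ∈ Kd
    by_cases hs : (s : C) ∈ H0
    · exact hKnorm _ hs _ hg
    · have h1 := hout s hs
      set g' : K.R := (tR⁻¹ * s) * g * (tR⁻¹ * s)⁻¹
      have hg' : (g' : C) ∈ Kd := hKnorm _ h1 _ hg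
      have e : (s : C) * g * (s : C)⁻¹ = t * (g' : C) * t⁻¹ := by simp [g', tR, mul_assoc]
      rw [e]
      have hg'' : ((tR * g' * tR⁻¹ : K.R) : C) ∈ H0 := by
        rw [hH0]
        show Commute (W.π (t * (g' : C) * t⁻¹)) W.T.d
        have h2 := (hfixS g' (hKdle _ hg')).2.1
        rw [map_mul, map_mul, map_inv]
        show _ = _
        have h3 : (W.π t)⁻¹ * W.T.d * W.π t = W.T.pt P ω 1 := by
          conv_lhs => rw [← K.htp]
          simp only [t]
          group
        calc W.π t * W.π (g' : C) * (W.π t)⁻¹ * W.T.d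
            = W.π t * (W.π (g' : C) * ((W.π t)⁻¹ * W.T.d * W.π t)) * (W.π t)⁻¹ := by group
          _ = W.π t * (((W.π t)⁻¹ * W.T.d * W.π t) * W.π (g' : C)) * (W.π t)⁻¹ := by rw [h3, h2.eq]
          _ = _ := by group
      have h4 := (hfixS _ hg'').2.2
      refine h4.2 ?_
      show t⁻¹ * (t * (g' : C) * t⁻¹) * t ∈ Kd
      rw [show t⁻¹ * (t * (g' : C) * t⁻¹) * t = (g' : C) by group]
      exact hg'⟩
  have hrep : ∀ q : K.R ⧸ L, q = 1 ∨ q = QuotientGroup.mk zR ∨ q = QuotientGroup.mk tR ∨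
      q = QuotientGroup.mk tR * QuotientGroup.mk zR := by
    intro q
    induction q using QuotientGroup.induction_on with | _ s => ?_
    have key : ∀ s : K.R, (s : C) ∈ H0 → (QuotientGroup.mk s : K.R ⧸ L) = 1 ∨
        (QuotientGroup.mk s : K.R ⧸ L) = QuotientGroup.mk zR := fun s hs => by
      rcases hKdor _ hs with h | h
      · exact Or.inl ((QuotientGroup.eq_one_iff _).2 h)
      · refine Or.inr (QuotientGroup.eq.2 ?_)
        show ((s : C)⁻¹ * W.z) ∈ Kd
        have := inv_mem h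
        rwa [mul_inv_rev, inv_eq_of_mul_eq_one_left W.z_sq, W.central] at this
    by_cases hs : (s : C) ∈ H0
    · rcases key s hs with e | e
      · exact Or.inl e
      · exact Or.inr (Or.inl e)
    · have e0 : (QuotientGroup.mk s : K.R ⧸ L) = QuotientGroup.mk tR * QuotientGroup.mk (tR⁻¹ * s) := by
        rw [← QuotientGroup.mk_mul, mul_inv_cancel_left]
      rcases key (tR⁻¹ * s) (hout s hs) with e | e <;> rw [e] at e0
      · exact Or.inr (Or.inr (Or.inl (by rw [e0, mul_one])))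
      · exact Or.inr (Or.inr (Or.inr e0))
  have hzt : Commute (QuotientGroup.mk zR : K.R ⧸ L) (QuotientGroup.mk tR) := by
    show _ * _ = _ * _
    rw [← QuotientGroup.mk_mul, ← QuotientGroup.mk_mul, show zR * tR = tR * zR from Subtype.ext (W.central t)]
  let : CommGroup (K.R ⧸ L) :=
    { (inferInstance : Group (K.R ⧸ L)) with
      mul_comm := fun a b => by
        show Commute a b
        rcases hrep a with rfl | rfl | rfl | rfl <;> rcases hrep b with rfl | rfl | rfl | rfl <;>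
          first
            | exact Commute.one_left _
            | exact Commute.one_right _
            | exact Commute.refl _
            | exact hzt
            | exact hzt.symm
            | exact (Commute.refl _).mul_right hzt.symm
            | exact (hzt.mul_right (Commute.refl _))
            | exact ((Commute.refl _).mul_right hzt.symm).symm
            | exact (hzt.mul_right (Commute.refl _)).symm }
  have : Fact (Nat.Prime 2) := ⟨Nat.prime_two⟩
  refine no_transfer W.perfect (K.R : Subgroup C)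
    (Nat.odd_iff.2 (Nat.two_dvd_ne_zero.1 K.R.not_dvd_index)) (QuotientGroup.mk' L) W.central W.z_sq
    (K.B_le (W.z_mem P)) ?_
  intro h
  exact hzKd (show (⟨W.z, K.B_le (W.z_mem P)⟩ : K.R) ∈ L from (QuotientGroup.eq_one_iff _).1 h)

end CfsgLib.U6Cover
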