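import Cfsg.Agent.Lib.U6Cover.Code
import Mathlib.Algebra.Group.Commute.Basic
import Mathlib.Tactic

/-!
Products of commuting involutions indexed by binary digits, and linearity of the coded maps.
-/

set_option autoImplicit false

namespace CfsgLib.U6Cover

/-- The product of the elements of a list selected by the binary digits of a number. -/
def prodBits {M : Type*} [MulOneClass M] : List M → ℕ → M
  | [], _ => 1
  | t :: l, n => (bif Nat.beq (n % 2) 1 then t else 1) * prodBits l (n / 2)

theorem prodBits_map {M N : Type*} [MulOneClass M] [MulOneClass N] (f : M →* N) (l : List M) (n : ℕ) :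
    f (prodBits l n) = prodBits (l.map f) n := by
  induction l generalizing n with
  | nil => simp [prodBits]
  | cons t l ih =>
    simp only [prodBits, List.map_cons, map_mul, ih]
    cases Nat.beq (n % 2) 1 <;> simp

theorem prodBits_mem {M : Type*} [MulOneClass M] (S : Submonoid M) (l : List M) (h : ∀ t ∈ l, t ∈ S)
    (n : ℕ) : prodBits l n ∈ S := by
  induction l generalizing n with
  | nil => exact S.one_mem
  | cons t l ih =>
    refine S.mul_mem ?_ (ih (fun s hs => h s (List.mem_cons_of_mem _ hs)) _)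
    cases Nat.beq (n % 2) 1
    · exact S.one_mem
    · exact h t List.mem_cons_self

theorem beq_mod_two (n : ℕ) : Nat.beq (n % 2) 1 = n.testBit 0 := by
  rw [Nat.testBit_zero]
  rcases Nat.mod_two_eq_zero_or_one n with h | h <;> rw [h] <;> rfl

theorem div_two_xor (a b : ℕ) : (a ^^^ b) / 2 = a / 2 ^^^ b / 2 := by
  refine Nat.eq_of_testBit_eq fun i => ?_
  rw [Nat.testBit_xor, Nat.testBit_div_two, Nat.testBit_div_two, Nat.testBit_div_two, Nat.testBit_xor]

theorem prodBits_zero {M : Type*} [MulOneClass M] (l : List M) : prodBits l 0 = 1 := by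
  induction l with
  | nil => rfl
  | cons t l ih =>
    rw [prodBits, show Nat.beq (0 % 2) 1 = false from rfl, cond_false, one_mul]
    exact ih

theorem prodBits_xor {M : Type*} [Monoid M] (l : List M) (hsq : ∀ t ∈ l, t * t = 1)
    (hc : ∀ t ∈ l, ∀ s ∈ l, Commute t s) (a b : ℕ) :
    prodBits l (a ^^^ b) = prodBits l a * prodBits l b := by
  induction l generalizing a b with
  | nil => simp [prodBits]
  | cons t l ih =>
    have hl := ih (fun s hs => hsq s (List.mem_cons_of_mem _ hs))
      (fun s hs r hr => hc s (List.mem_cons_of_mem _ hs) r (List.mem_cons_of_mem _ hr))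
    have ht : ∀ m, Commute t (prodBits l m) := fun m =>
      (Submonoid.mem_centralizer_iff.1 (prodBits_mem (Submonoid.centralizer {t}) l
        (fun s hs => Submonoid.mem_centralizer_iff.2 fun x hx => by
          rw [Set.mem_singleton_iff.1 hx]
          exact hc t List.mem_cons_self s (List.mem_cons_of_mem _ hs)) m) t rfl)
    simp only [prodBits, beq_mod_two, Nat.testBit_xor, div_two_xor, hl]
    cases a.testBit 0 <;> cases b.testBit 0 <;>
      simp only [bne_self_eq_false, cond_true, cond_false, one_mul, Bool.false_bne, Bool.bne_false,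
        mul_assoc]
    · rw [← mul_assoc, (ht (a / 2)).eq, mul_assoc]
    · rw [← mul_assoc (prodBits l (a / 2)) t, ← (ht (a / 2)).eq, mul_assoc, ← mul_assoc t t,
        hsq t List.mem_cons_self, one_mul]

theorem lin_xor (l : List ℕ) (a b : ℕ) : lin l (a ^^^ b) = lin l a ^^^ lin l b := by
  induction l generalizing a b with
  | nil => simp [lin]
  | cons t l ih =>
    simp only [lin, beq_mod_two, Nat.testBit_xor, div_two_xor, ih]
    cases a.testBit 0 <;> cases b.testBit 0 <;>
      simp only [bne_self_eq_false, cond_true, cond_false, Bool.false_bne, Bool.bne_false,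
        Nat.zero_xor]
    · ac_rfl
    · ac_rfl
    · rw [show t ^^^ lin l (a / 2) ^^^ (t ^^^ lin l (b / 2)) = (t ^^^ t) ^^^ (lin l (a / 2) ^^^ lin l (b / 2)) by ac_rfl,
        Nat.xor_self, Nat.zero_xor]

theorem lin_zero (l : List ℕ) : lin l 0 = 0 := by
  induction l with
  | nil => rfl
  | cons t l ih =>
    rw [lin, show Nat.beq (0 % 2) 1 = false from rfl, cond_false, Nat.zero_xor]
    exact ih

theorem lin_lin (l L : List ℕ) (n : ℕ) : lin l (lin L n) = lin (L.map (lin l)) n := by
  induction L generalizing n with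
  | nil => exact lin_zero l
  | cons t L ih =>
    simp only [lin, List.map_cons, lin_xor, ih]
    cases Nat.beq (n % 2) 1
    · simp [lin_zero]
    · simp

theorem lin_lt (l : List ℕ) (h : ∀ t ∈ l, t < 512) (n : ℕ) : lin l n < 512 := by
  induction l generalizing n with
  | nil => simp [lin]
  | cons t l ih =>
    refine Nat.xor_lt_two_pow (n := 9) ?_ (ih (fun s hs => h s (List.mem_cons_of_mem _ hs)) _)
    cases Nat.beq (n % 2) 1
    · simp
    · exact h t List.mem_cons_self

theorem ent4_lt {c : ℕ} (hc : c < 512) {i j : ℕ} (hi : i < 3) (hj : j < 3) :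
    ent4 c i j < 4 ∧ ent4 c j i = conj4 (ent4 c i j) := by
  have h := below_spec (below_spec (below_spec ent_ok hc) hi) hj
  simp only [Bool.and_eq_true, Nat.blt_eq] at h
  exact ⟨h.1, Nat.eq_of_beq_eq_true h.2⟩

theorem conj4_xor (a b : ℕ) (ha : a < 4) (hb : b < 4) : conj4 (a ^^^ b) = conj4 a ^^^ conj4 b := by
  interval_cases a <;> interval_cases b <;> decide +kernel

theorem comp4_lt (v i : ℕ) : comp4 v i < 4 := by
  have : comp4 v i ≤ 3 := Nat.and_le_right
  omega

theorem ent4_xor (a b : ℕ) {i j : ℕ} (hi : i < 3) (hj : j < 3) :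
    ent4 (a ^^^ b) i j = ent4 a i j ^^^ ent4 b i j := by
  have h : ∀ m k : ℕ, (a ^^^ b) >>> m &&& k = (a >>> m &&& k) ^^^ (b >>> m &&& k) := fun m k => by
    rw [Nat.shiftRight_xor_distrib, Nat.and_xor_distrib_right]
  have hlt : ∀ c m, c >>> m &&& 3 < 4 := fun c m => by
    have : c >>> m &&& 3 ≤ 3 := Nat.and_le_right
    omega
  interval_cases i <;> interval_cases j <;>
    simp only [ent4, h, Nat.and_xor_distrib_right] <;> exact conj4_xor _ _ (hlt _ _) (hlt _ _)

theorem ent4_zero (i j : ℕ) (hi : i < 3) (hj : j < 3) : ent4 0 i j = 0 := by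
  interval_cases i <;> interval_cases j <;> decide +kernel

theorem code_spec {v : ℕ} (hv : v < 64) :
    outer4 v < 512 ∧ code4 v < 512 ∧
      ∀ i j : ℕ, i < 3 → j < 3 → ent4 (outer4 v) i j = mul4 (comp4 v i) (conj4 (comp4 v j)) := by
  have h := below_spec code_ok hv
  simp only [Bool.and_eq_true, Nat.blt_eq] at h
  exact ⟨h.1.1, h.1.2, fun i j hi hj => Nat.eq_of_beq_eq_true (below_spec (below_spec h.2 hi) hj)⟩

theorem coord_spec {n : ℕ} (hn : n < 512) :
    lin baseMats (lin coordTab n) = n ∧ lin coordTab (lin baseMats n) = n ∧ lin baseMats n < 512 ∧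
      lin coordTab n < 512 := by
  have h := below_spec coord_ok hn
  simp only [Bool.and_eq_true, Nat.blt_eq] at h
  exact ⟨Nat.eq_of_beq_eq_true h.1.1.1, Nat.eq_of_beq_eq_true h.1.1.2, h.1.2, h.2⟩

theorem baseMats_eq : baseMats = baseVecs.map outer4 := by decide +kernel

theorem baseVecs_lt : ∀ v ∈ baseVecs, v < 64 := by decide +kernel

theorem code4_lt_of {ws : List ℕ} (h : ∀ w ∈ ws, w < 64) (n : ℕ) : lin (ws.map code4) n < 512 :=
  lin_lt _ (fun t ht => by
    obtain ⟨w, hw, rfl⟩ := List.mem_map.1 ht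
    exact (code_spec (h w hw)).2.1) n

theorem lin_outer {ws : List ℕ} (h : ∀ w ∈ ws, w < 64) (n : ℕ) :
    lin baseMats (lin (ws.map code4) n) = lin (ws.map outer4) n := by
  rw [lin_lin, List.map_map]
  congr 1
  exact List.map_congr_left fun w hw => (coord_spec (code_spec (h w hw)).1).1

theorem ent_det {c : ℕ} (hc : c < 512) :
    c = ent4 c 0 0 ||| (ent4 c 1 1 <<< 1) ||| (ent4 c 2 2 <<< 2) ||| (ent4 c 0 1 <<< 3) |||
      (ent4 c 0 2 <<< 5) ||| (ent4 c 1 2 <<< 7) := by
  have h : (below 512 fun c => Nat.beq c (ent4 c 0 0 ||| (ent4 c 1 1 <<< 1) ||| (ent4 c 2 2 <<< 2) |||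
      (ent4 c 0 1 <<< 3) ||| (ent4 c 0 2 <<< 5) ||| (ent4 c 1 2 <<< 7))) = true := by decide +kernel
  exact Nat.eq_of_beq_eq_true (below_spec h hc)

theorem exists_code (a b c p q r : ℕ) (ha : a < 2) (hb : b < 2) (hc : c < 2) (hp : p < 4) (hq : q < 4)
    (hr : r < 4) : ∃ m < 512, ent4 m 0 0 = a ∧ ent4 m 1 1 = b ∧ ent4 m 2 2 = c ∧ ent4 m 0 1 = p ∧
      ent4 m 0 2 = q ∧ ent4 m 1 2 = r := by
  have h : (below 2 fun a => below 2 fun b => below 2 fun c => below 4 fun p => below 4 fun q =>
      below 4 fun r =>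
      let m := a ||| (b <<< 1) ||| (c <<< 2) ||| (p <<< 3) ||| (q <<< 5) ||| (r <<< 7)
      Nat.blt m 512 && Nat.beq (ent4 m 0 0) a && Nat.beq (ent4 m 1 1) b && Nat.beq (ent4 m 2 2) c &&
        Nat.beq (ent4 m 0 1) p && Nat.beq (ent4 m 0 2) q && Nat.beq (ent4 m 1 2) r) = true := by
    decide +kernel
  have h' := below_spec (below_spec (below_spec (below_spec (below_spec (below_spec h ha) hb) hc) hp) hq) hr
  simp only [Bool.and_eq_true, Nat.blt_eq] at h'
  obtain ⟨⟨⟨⟨⟨⟨h0, h1⟩, h2⟩, h3⟩, h4⟩, h5⟩, h6⟩ := h'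
  exact ⟨_, h0, Nat.eq_of_beq_eq_true h1, Nat.eq_of_beq_eq_true h2, Nat.eq_of_beq_eq_true h3,
    Nat.eq_of_beq_eq_true h4, Nat.eq_of_beq_eq_true h5, Nat.eq_of_beq_eq_true h6⟩

end CfsgLib.U6Cover
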