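import Cfsg.Agent.Lib.U6Cover.Span

/-!
A frame adapted to an involution preserving the span of the first triple, and the matrices of the involutions
commuting with it.
-/

set_option autoImplicit false

namespace CfsgLib.U6Cover

open Module CfsgLib.Classical.Herm HermSpace CfsgLib.UnitaryTransv

attribute [-simp] stdHerm_h

variable {F : Type*} [Field F] [Fintype F] {hF : Fintype.card F = 2 ^ 2}

theorem exists_adapted (P : Fr hF) {k : Unit' (stdHerm hF 6)} (hk : k * k = 1)
    (hW : ∀ i, P.InW (k.1 (P.e i))) (hne : k ∉ P.U) :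
    ∃ P' : Fr hF, P'.U = P.U ∧ (∀ i, P.InW (P'.e i)) ∧ k.1 (P'.e 0) = P'.e 0 ∧
      k.1 (P'.e 1) = P'.e 1 ∧ k.1 (P'.e 2) = P'.e 2 + P'.e 0 := by
  let H := stdHerm hF 6
  obtain ⟨i₀, hi₀⟩ : ∃ i, k.1 (P.e i) ≠ P.e i := by
    by_contra! h
    exact hne h
  let M : Submodule F (Fin 6 → F) := Submodule.span F (Set.range P.e)
  have hM : ∀ x ∈ M, P.InW x := fun x hx => by
    intro i
    induction hx using Submodule.span_induction with
    | mem y hy => obtain ⟨j, rfl⟩ := hy; exact P.inW_e j i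
    | zero => exact H.zero_left _
    | add y z _ _ h1 h2 => rw [HermSpace.add_left, h1, h2, add_zero]
    | smul a y _ h1 => rw [HermSpace.smul_left, h1, mul_zero]
  have hM' : ∀ x, P.InW x → x ∈ M := fun x hx => by
    rw [P.eq_sum_of_inW hx]
    exact sum_mem fun i _ => Submodule.smul_mem _ _ (Submodule.subset_span ⟨i, rfl⟩)
  have hli : LinearIndependent F P.e := by
    rw [Fintype.linearIndependent_iff]
    intro g hg i
    have := congrArg (fun x => H.h x (P.f i)) hg
    simpa [h_sum_left, HermSpace.smul_left, P.ef, H.zero_left, Finset.sum_ite_eq', Finset.mem_univ, H] using this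
  have hdim : finrank F M = 3 := by
    rw [finrank_span_eq_card hli, Fintype.card_fin]
  let N : (Fin 6 → F) →ₗ[F] (Fin 6 → F) := (k.1 : (Fin 6 → F) →ₗ[F] (Fin 6 → F)) + LinearMap.id
  have hN : ∀ x, N x = k.1 x + x := fun x => rfl
  have hkk : ∀ x, k.1 (k.1 x) = x := fun x => by
    rw [← CfsgLib.Classical.Herm.mul_apply, hk, one_apply]
  have hNN : ∀ x, N (N x) = 0 := fun x => by
    rw [hN, hN, map_add, hkk, add_comm x, smul_add_self_zero hF]
  have hNM : ∀ x ∈ M, N x ∈ M := fun x hx => by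
    induction hx using Submodule.span_induction with
    | mem y hy =>
      obtain ⟨j, rfl⟩ := hy
      rw [hN]
      exact add_mem (hM' _ (hW j)) (Submodule.subset_span ⟨j, rfl⟩)
    | zero => rw [map_zero]; exact zero_mem _
    | add y z _ _ h1 h2 => rw [map_add]; exact add_mem h1 h2
    | smul a y _ h1 => rw [map_smul]; exact Submodule.smul_mem _ _ h1
  set e₀ := N (P.e i₀) with he₀
  have he₀0 : e₀ ≠ 0 := fun h => hi₀ (by
    rw [he₀, hN] at h
    exact (eq_neg_of_add_eq_zero_left h).trans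
      (neg_eq_of_add_eq_zero_left (smul_add_self_zero hF (P.e i₀))))
  obtain ⟨y, hyM, hy0, hy⟩ : ∃ y ∈ M, N y = 0 ∧ y ∉ Submodule.span F {e₀} := by
    by_contra! hcon
    let φ : M →ₗ[F] M := N.restrict hNM
    have h1 := LinearMap.finrank_range_add_finrank_ker φ
    have h2 : LinearMap.range φ ≤ LinearMap.ker φ := by
      rintro _ ⟨x, rfl⟩
      exact LinearMap.mem_ker.2 (Subtype.ext (hNN x.1))
    have h3 := Submodule.finrank_mono h2
    have h4 : finrank F (LinearMap.ker φ) ≤ 1 := by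
      rw [← Submodule.finrank_map_subtype_eq M (LinearMap.ker φ)]
      refine le_trans (Submodule.finrank_mono ?_) ((finrank_span_singleton he₀0).le)
      rintro _ ⟨x, hx, rfl⟩
      exact hcon x.1 x.2 (congrArg Subtype.val (LinearMap.mem_ker.1 hx))
    omega
  let e' : Fin 3 → (Fin 6 → F) := ![e₀, y, P.e i₀]
  have he' : ∀ i, P.InW (e' i) := by
    intro i
    fin_cases i
    · exact hM _ (hNM _ (Submodule.subset_span ⟨i₀, rfl⟩))
    · exact hM _ hyM
    · exact P.inW_e i₀
  have hli' : LinearIndependent F e' := by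
    rw [Fintype.linearIndependent_iff]
    intro g hg
    rw [Fin.sum_univ_three] at hg
    simp only [e', Matrix.cons_val_zero, Matrix.cons_val_one, Matrix.cons_val] at hg
    have h2 : g 2 = 0 := by
      have := congrArg N hg
      simp only [map_add, map_smul, map_zero, hy0, smul_zero, add_zero, he₀, hNN, zero_add] at this
      exact (smul_eq_zero.1 this).resolve_right he₀0
    rw [h2, zero_smul, add_zero] at hg
    have h1 : g 1 = 0 := by
      by_contra hne1
      refine hy ?_
      have : y = (-(g 1)⁻¹ * g 0) • e₀ := by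
        rw [← smul_right_inj hne1, smul_smul, eq_neg_of_add_eq_zero_right hg, ← neg_smul]
        congr 1
        field_simp
      rw [this]
      exact Submodule.smul_mem _ _ (Submodule.mem_span_singleton_self _)
    rw [h1, zero_smul, add_zero] at hg
    have h0 := (smul_eq_zero.1 hg).resolve_right he₀0
    intro i
    fin_cases i <;> assumption
  obtain ⟨P', hP'⟩ := exists_frame hF e' hli' (fun i j => by
    rw [P.eq_sum_of_inW (he' i), h_sum_left]
    refine Finset.sum_eq_zero fun l _ => ?_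
    rw [HermSpace.smul_left, H.h_comm_zero (he' j l), mul_zero])
  have fix_of : ∀ x, N x = 0 → k.1 x = x := fun x hx => by
    rw [hN] at hx
    exact (eq_neg_of_add_eq_zero_left hx).trans (neg_eq_of_add_eq_zero_left (smul_add_self_zero hF x))
  refine ⟨P', Fr.U_eq_of_inW P P' (by rw [hP']; exact he'), by rw [hP']; exact he', ?_, ?_, ?_⟩ <;> rw [hP']
  · exact fix_of _ (hNN _)
  · exact fix_of _ hy0
  · show k.1 (P.e i₀) = P.e i₀ + e₀
    rw [he₀, hN, add_left_comm, smul_add_self_zero hF, add_zero]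

/-- The matrix of an involution commuting with a given transvection of the first triple. -/
theorem exists_tri (P : Fr hF) {ω : F} (hω : ω ^ 2 + ω + 1 = 0) {k₀ k : Unit' (stdHerm hF 6)}
    (h0 : k₀.1 (P.e 0) = P.e 0) (h1 : k₀.1 (P.e 1) = P.e 1) (h2 : k₀.1 (P.e 2) = P.e 2 + P.e 0)
    (hk : k * k = 1) (hc : Commute k₀ k) (hW : ∀ i, P.InW (k.1 (P.e i))) :
    ∃ a p q, a < 4 ∧ p < 4 ∧ q < 4 ∧ (a = 0 ∨ q = 0) ∧ k.1 (P.e 0) = P.e 0 ∧
      k.1 (P.e 1) = P.e 1 + iota ω a • P.e 0 ∧
      k.1 (P.e 2) = P.e 2 + iota ω p • P.e 0 + iota ω q • P.e 1 := by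
  let H := stdHerm hF 6
  have hx : ∀ x, P.InW x → x = H.h x (P.f 0) • P.e 0 + H.h x (P.f 1) • P.e 1 + H.h x (P.f 2) • P.e 2 :=
    fun x hx => by
      conv_lhs => rw [P.eq_sum_of_inW hx, Fin.sum_univ_three]
  have hk0x : ∀ x, P.InW x → k₀.1 x = x + H.h x (P.f 2) • P.e 0 := fun x hxW => by
    conv_lhs => rw [hx x hxW, map_add, map_add, map_smul, map_smul, map_smul, h0, h1, h2, smul_add,
      ← add_assoc]
    rw [← hx x hxW]
  have hcomm : ∀ x, k₀.1 (k.1 x) = k.1 (k₀.1 x) := fun x => by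
    rw [← CfsgLib.Classical.Herm.mul_apply, hc.eq, CfsgLib.Classical.Herm.mul_apply]
  have hkk : ∀ x, k.1 (k.1 x) = x := fun x => by
    rw [← CfsgLib.Classical.Herm.mul_apply, hk, one_apply]
  set s := H.h (k.1 (P.e 2)) (P.f 2) with hs
  have e0 : k.1 (P.e 0) = s • P.e 0 := by
    have := hcomm (P.e 2)
    rw [hk0x _ (hW 2), h2, map_add, add_right_inj] at this
    exact this.symm
  have hs1 : s = 1 := by
    have h := hkk (P.e 0)
    rw [e0, map_smul, e0, smul_smul] at h
    have h' := smul_left_injective F (P.e_ne_zero 0) (h.trans (one_smul F _).symm)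
    exact sub_eq_zero.1 (mul_self_eq_zero.1 (by linear_combination h' - (s - 1) * two_eq_zero hF))
  rw [hs1, one_smul] at e0
  have e1' : H.h (k.1 (P.e 1)) (P.f 2) = 0 := by
    have := hcomm (P.e 1)
    rw [hk0x _ (hW 1), h1, add_eq_left] at this
    exact (smul_eq_zero.1 this).resolve_right (P.e_ne_zero 0)
  have hb : H.h (k.1 (P.e 1)) (P.f 1) = 1 := by
    set b := H.h (k.1 (P.e 1)) (P.f 1)
    have h := hkk (P.e 1)
    have hk1 : k.1 (P.e 1) = H.h (k.1 (P.e 1)) (P.f 0) • P.e 0 + b • P.e 1 := by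
      conv_lhs => rw [hx _ (hW 1), e1', zero_smul, add_zero]
    rw [hk1, map_add, map_smul, map_smul, e0, hk1, smul_add, smul_smul, smul_smul] at h
    have h' := congrArg (fun x => H.h x (P.f 1)) h
    simp only [HermSpace.add_left, HermSpace.smul_left, P.ef, H, Fin.reduceEq, if_false, if_true, mul_zero,
      mul_one, zero_add] at h'
    exact sub_eq_zero.1 (mul_self_eq_zero.1 (by linear_combination h' - (b - 1) * two_eq_zero hF))
  obtain ⟨a, ha, ha'⟩ := iota_surj hF hω (H.h (k.1 (P.e 1)) (P.f 0))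
  obtain ⟨p, hp, hp'⟩ := iota_surj hF hω (H.h (k.1 (P.e 2)) (P.f 0))
  obtain ⟨q, hq, hq'⟩ := iota_surj hF hω (H.h (k.1 (P.e 2)) (P.f 1))
  have e1 : k.1 (P.e 1) = P.e 1 + iota ω a • P.e 0 := by
    conv_lhs => rw [hx _ (hW 1), e1', hb, zero_smul, add_zero, one_smul, ← ha', add_comm]
  have e2 : k.1 (P.e 2) = P.e 2 + iota ω p • P.e 0 + iota ω q • P.e 1 := by
    conv_lhs => rw [hx _ (hW 2), ← hs, hs1, one_smul, ← hp', ← hq']
    abel
  refine ⟨a, p, q, ha, hp, hq, ?_, e0, e1, e2⟩
  have h := hkk (P.e 2)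
  rw [e2, map_add, map_add, map_smul, map_smul, e0, e1, e2, smul_add, smul_smul] at h
  have hz : (iota ω q * iota ω a) • P.e 0 = 0 := by
    have d0 := smul_add_self_zero hF (iota ω p • P.e 0)
    have d1 := smul_add_self_zero hF (iota ω q • P.e 1)
    linear_combination (norm := module) h - d0 - d1
  rcases mul_eq_zero.1 ((smul_eq_zero.1 hz).resolve_right (P.e_ne_zero 0)) with hh | hh
  · exact Or.inr (iota_inj hF hω hq (by norm_num) (b := 0) hh)
  · exact Or.inl (iota_inj hF hω ha (by norm_num) (b := 0) hh)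

end CfsgLib.U6Cover
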