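import Cfsg.Agent.Lib.U6Cover.Cov
import Cfsg.Agent.Lib.U6Cover.TriBasis

/-!
The subgroup of order `2 ^ 10` is the only elementary abelian subgroup of that order in its normaliser.
-/

set_option autoImplicit false

namespace CfsgLib.U6Cover

open Module CfsgLib.Classical.Herm HermSpace CfsgLib.UnitaryTransv

attribute [-simp] stdHerm_h

/-- The action of a unitriangular matrix on the coordinates. -/
def triImgs (a p q : ℕ) : List ℕ := (baseVecs.map (tri4 a p q)).map code4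

/-- The coordinates fixed by every matrix of a list. -/
def fixTri (L : List (ℕ × ℕ × ℕ)) (n : ℕ) : Bool :=
  L.all fun t => Nat.beq (lin (triImgs t.1 t.2.1 t.2.2) n) n

theorem fix_one_ok : (Nat.blt (countBelow 512 (fixTri [(0, 1, 0)])) 33) = true := by decide +kernel

theorem fix_axis_ok :
    (Nat.blt (countBelow 512 (fixTri [(1, 0, 0), (2, 0, 0), (0, 1, 0), (0, 2, 0)])) 32) = true := by
  decide +kernel

theorem fix_centre_ok :
    (Nat.blt (countBelow 512 (fixTri [(0, 0, 1), (0, 0, 2), (0, 1, 0), (0, 2, 0)])) 32) = true := by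
  decide +kernel

theorem countBelow_eq (N : ℕ) (p : ℕ → Bool) : countBelow N p = ((Finset.range N).filter fun n => p n).card := by
  rw [countBelow, Finset.card_def, Finset.filter_val, Finset.range_val, Multiset.range, Multiset.filter_coe,
    Multiset.coe_card]
  simp

variable {F : Type*} [Field F] [Fintype F] {hF : Fintype.card F = 2 ^ 2} {C : Type*} [Group C] [Finite C]

theorem Data.card_inter_le (D : Data hF C) (P : Fr hF) {ω : F} (hω : ω ^ 2 + ω + 1 = 0) (E : Subgroup C)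
    (hE : ∀ x ∈ E, ∀ y ∈ E, Commute x y) (L : List (ℕ × ℕ × ℕ))
    (hL : ∀ t ∈ L, t.1 < 4 ∧ t.2.1 < 4 ∧ t.2.2 < 4 ∧ ∃ c ∈ E, ∃ g, D.L c g ∧ g.1 (P.e 0) = P.e 0 ∧
      g.1 (P.e 1) = P.e 1 + iota ω t.1 • P.e 0 ∧
      g.1 (P.e 2) = P.e 2 + iota ω t.2.1 • P.e 0 + iota ω t.2.2 • P.e 1) :
    Nat.card ↥(E ⊓ D.A P) ≤ 2 * countBelow 512 (fixTri L) := by
  obtain ⟨hmem, hinj, hsurj⟩ := D.el_bij P hω
  choose p hp using fun x : ↥(E ⊓ D.A P) => hsurj x.1 x.2.2
  have hfix : ∀ x, (p x).1.1 ∈ (Finset.range 512).filter fun n => fixTri L n := by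
    intro x
    refine Finset.mem_filter.2 ⟨Finset.mem_range.2 (p x).1.2, ?_⟩
    rw [fixTri, List.all_eq_true]
    intro t ht
    obtain ⟨ha, hb, hc, c, hcE, g, hg, h0, h1, h2⟩ := hL t ht
    obtain ⟨a, b, q⟩ := t
    have hv := P.vec_tri hω ha hb hc h0 h1 h2
    have hws : ∀ w ∈ baseVecs.map (tri4 a b q), w < 64 := fun w hw => by
      obtain ⟨v, -, rfl⟩ := List.mem_map.1 hw
      exact (hv v).2
    have h3 : D.L x.1 (P.u ω (p x).1) := by
      rw [← hp x]
      unfold Data.el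
      cases (p x).2
      · rw [cond_false, mul_one]; exact D.L_au P ω _
      · exact (D.L_au P ω _).mul_z
    have h4 := hg.conj h3
    rw [P.u_conj hω hws (by rw [List.map_map]; exact List.map_congr_left fun v _ => (hv v).1),
      (hE c hcE x.1 x.2.1).eq, mul_inv_cancel_right] at h4
    show Nat.beq (lin ((baseVecs.map (tri4 a b q)).map code4) (p x).1) (p x).1 = true
    rw [D.code_unique P hω (p x).1.2 (code4_lt_of hws _) h3 h4]
    exact Nat.beq_refl _
  have hle : Nat.card ↥(E ⊓ D.A P) ≤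
      Nat.card (↥((Finset.range 512).filter fun n => fixTri L n) × Bool) := by
    refine Nat.card_le_card_of_injective (fun x => (⟨_, hfix x⟩, (p x).2)) fun x y h => ?_
    simp only [Prod.mk.injEq, Subtype.mk.injEq] at h
    have : p x = p y := Prod.ext (Fin.ext h.1) h.2
    exact Subtype.ext (by rw [← hp x, ← hp y, this])
  rw [countBelow_eq]
  rw [Nat.card_prod, Nat.card_eq_finsetCard, Nat.card_eq_fintype_card (α := Bool), Fintype.card_bool] at hle
  omega

theorem Data.elem_le_aux (D : Data hF C) (P : Fr hF) {ω : F} (hω : ω ^ 2 + ω + 1 = 0) (E : Subgroup C)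
    (hE : Cfsg.IsElementaryAbelian 2 E) (hN : E ≤ Subgroup.normalizer (D.A P : Set C))
    {c₀ : C} (hc₀ : c₀ ∈ E) {k₀ : Unit' (stdHerm hF 6)} (hL₀ : D.L c₀ k₀) (hk₀ : k₀ * k₀ = 1)
    (h0 : k₀.1 (P.e 0) = P.e 0) (h1 : k₀.1 (P.e 1) = P.e 1) (h2 : k₀.1 (P.e 2) = P.e 2 + P.e 0) :
    Nat.card E < 2 ^ 10 := by
  classical
  have hcomm : ∀ x ∈ E, ∀ y ∈ E, Commute x y := fun x hx y hy => by
    obtain ⟨⟨hc⟩⟩ := hE.1
    exact congrArg Subtype.val (hc ⟨x, hx⟩ ⟨y, hy⟩)
  have hsq : ∀ x ∈ E, x * x = 1 := fun x hx => by rw [← pow_two]; exact hE.2 x hx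
  have key : ∀ c : E, ∃ k, ∃ a b q : ℕ, D.L c k ∧ k * k = 1 ∧ a < 4 ∧ b < 4 ∧ q < 4 ∧ (a = 0 ∨ q = 0) ∧
      k.1 (P.e 0) = P.e 0 ∧ k.1 (P.e 1) = P.e 1 + iota ω a • P.e 0 ∧
      k.1 (P.e 2) = P.e 2 + iota ω b • P.e 0 + iota ω q • P.e 1 := by
    rintro ⟨c, hc⟩
    obtain ⟨k, hk, hk2⟩ := D.exists_invol (hsq c hc)
    obtain ⟨a, b, q, h⟩ := exists_tri P hω h0 h1 h2 hk2
      (D.commute_invol hL₀ hk hk₀ hk2 (hcomm _ hc₀ _ hc)) (D.inW_of_mem P hk (hN hc))
    exact ⟨k, a, b, q, hk, hk2, h⟩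
  choose k a b q hk hk2 ha hb hq haq e0 e1 e2 using key
  have hfib : ∀ c c' : E, (a c, b c, q c) = (a c', b c', q c') → (c : C)⁻¹ * c' ∈ D.A P := by
    intro c c' h
    simp only [Prod.mk.injEq] at h
    refine ⟨(k c)⁻¹ * k c', fun i => ?_, (hk c).inv.mul (hk c')⟩
    rw [CfsgLib.Classical.Herm.mul_apply]
    have : (k c').1 (P.e i) = (k c).1 (P.e i) := by
      fin_cases i
      · exact (e0 c').trans (e0 c).symm
      · show (k c').1 (P.e 1) = (k c).1 (P.e 1)
        rw [e1, e1, h.1]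
      · show (k c').1 (P.e 2) = (k c).1 (P.e 2)
        rw [e2, e2, h.2.1, h.2.2]
    rw [this, inv_apply_self]
  cases nonempty_fintype C
  set T := Finset.univ.image fun c : E => (a c, b c, q c) with hT
  have hrep : ∀ t : ↥T, ∃ c : E, (a c, b c, q c) = t.1 := fun t => by
    obtain ⟨c, -, hc⟩ := Finset.mem_image.1 t.2
    exact ⟨c, hc⟩
  choose r hr using hrep
  have hcard : Nat.card E ≤ T.card * Nat.card ↥(E ⊓ D.A P) := by
    rw [← Nat.card_eq_finsetCard, ← Nat.card_prod]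
    let f : E → ↥T := fun c => ⟨_, Finset.mem_image_of_mem _ (Finset.mem_univ c)⟩
    refine Nat.card_le_card_of_injective (fun c : E => (f c,
      (⟨(r (f c) : C)⁻¹ * c, E.mul_mem (E.inv_mem (r (f c)).2) c.2, hfib _ _ (hr (f c))⟩ :
        ↥(E ⊓ D.A P)))) fun c c' h => ?_
    obtain ⟨h1', h2'⟩ := Prod.mk.inj h
    have h3 := congrArg Subtype.val h2'
    simp only [h1'] at h3
    exact Subtype.ext (mul_left_cancel h3)
  have hI : ∀ L : List (ℕ × ℕ × ℕ), (∀ t ∈ L, t ∈ T) →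
      Nat.card ↥(E ⊓ D.A P) ≤ 2 * countBelow 512 (fixTri L) := by
    intro L hL
    refine D.card_inter_le P hω E hcomm L fun t ht => ?_
    obtain ⟨c, -, rfl⟩ := Finset.mem_image.1 (hL t ht)
    exact ⟨ha c, hb c, hq c, c, c.2, k c, hk c, e0 c, e1 c, e2 c⟩
  have hc₀T : (0, 1, 0) ∈ T := by
    refine Finset.mem_image.2 ⟨⟨c₀, hc₀⟩, Finset.mem_univ _, ?_⟩
    set c : E := ⟨c₀, hc₀⟩
    have hkeq : k c = k₀ := hL₀.eq_of_invol (hk c) hk₀ (hk2 c)
    have f1 := e1 c
    have f2 := e2 c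
    rw [hkeq, h1] at f1
    rw [hkeq, h2] at f2
    have g1 : iota ω (a c) = 0 := by
      have := congrArg (fun x => (stdHerm hF 6).h x (P.f 0)) f1
      simpa [HermSpace.add_left, HermSpace.smul_left, P.ef] using this.symm
    have g2 : iota ω (b c) = 1 := by
      have := congrArg (fun x => (stdHerm hF 6).h x (P.f 0)) f2
      simpa [HermSpace.add_left, HermSpace.smul_left, P.ef] using this.symm
    have g3 : iota ω (q c) = 0 := by
      have := congrArg (fun x => (stdHerm hF 6).h x (P.f 1)) f2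
      simpa [HermSpace.add_left, HermSpace.smul_left, P.ef] using this.symm
    rw [iota_inj hF hω (ha c) (by norm_num) (b := 0) g1, iota_inj hF hω (hb c) (by norm_num) (b := 1) g2,
      iota_inj hF hω (hq c) (by norm_num) (b := 0) g3]
  have h32 : Nat.card ↥(E ⊓ D.A P) ≤ 64 := by
    have h := hI [(0, 1, 0)] (by simpa using hc₀T)
    have := Nat.blt_eq.mp fix_one_ok
    omega
  let R4 := Finset.range 4
  let S1 : Finset (ℕ × ℕ × ℕ) := R4 ×ˢ (R4 ×ˢ {0})
  let S2 : Finset (ℕ × ℕ × ℕ) := ({0} : Finset ℕ) ×ˢ (R4 ×ˢ R4)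
  have hT' : T ⊆ S1 ∨ T ⊆ S2 := by
    by_contra hcon
    rw [not_or, Finset.not_subset, Finset.not_subset] at hcon
    obtain ⟨⟨t, ht, ht1⟩, ⟨t', ht', ht'1⟩⟩ := hcon
    obtain ⟨c, -, rfl⟩ := Finset.mem_image.1 ht
    obtain ⟨c', -, rfl⟩ := Finset.mem_image.1 ht'
    simp only [S1, S2, R4, Finset.mem_product, Finset.mem_range, Finset.mem_singleton, ha, hb, hq,
      true_and, and_true] at ht1 ht'1
    have hcc := D.commute_invol (hk c) (hk c') (hk2 c) (hk2 c') (hcomm _ c.2 _ c'.2)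
    have qc : a c = 0 := (haq c).resolve_right ht1
    have qc' : q c' = 0 := (haq c').resolve_left ht'1
    have h := LinearEquiv.congr_fun (congrArg Subtype.val hcc.eq) (P.e 2)
    change ((k c) * (k c')).1 (P.e 2) = ((k c') * (k c)).1 (P.e 2) at h
    simp only [CfsgLib.Classical.Herm.mul_apply, e0, e1, e2, map_add, map_smul, qc', show iota ω 0 = 0 from rfl, zero_smul,
      add_zero] at h
    have hz : (iota ω (q c) * iota ω (a c')) • P.e 0 = 0 := by
      linear_combination (norm := module) -h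
    rcases mul_eq_zero.1 ((smul_eq_zero.1 hz).resolve_right (P.e_ne_zero 0)) with hh | hh
    · exact ht1 (iota_inj hF hω (hq c) (by norm_num) (b := 0) hh)
    · exact ht'1 (iota_inj hF hω (ha c') (by norm_num) (b := 0) hh)
  have hS : S1.card = 16 ∧ S2.card = 16 := by decide +kernel
  have hT16 : T.card ≤ 16 := by
    rcases hT' with h | h <;> have := Finset.card_le_card h <;> omega
  rcases Nat.lt_or_ge T.card 16 with h | h
  · calc Nat.card E ≤ T.card * Nat.card ↥(E ⊓ D.A P) := hcard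
      _ ≤ 15 * 64 := Nat.mul_le_mul (by omega) h32
      _ < 2 ^ 10 := by norm_num
  · have h31 : Nat.card ↥(E ⊓ D.A P) ≤ 62 := by
      rcases hT' with hs | hs
      · have e := Finset.eq_of_subset_of_card_le hs (by omega)
        have h := hI [(1, 0, 0), (2, 0, 0), (0, 1, 0), (0, 2, 0)] (by rw [e]; decide +kernel)
        have := Nat.blt_eq.mp fix_axis_ok
        omega
      · have e := Finset.eq_of_subset_of_card_le hs (by omega)
        have h := hI [(0, 0, 1), (0, 0, 2), (0, 1, 0), (0, 2, 0)] (by rw [e]; decide +kernel)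
        have := Nat.blt_eq.mp fix_centre_ok
        omega
    calc Nat.card E ≤ T.card * Nat.card ↥(E ⊓ D.A P) := hcard
      _ ≤ 16 * 62 := Nat.mul_le_mul hT16 h31
      _ < 2 ^ 10 := by norm_num

/-- An elementary abelian subgroup of order at least `2 ^ 10` normalising `A` is `A`. -/
theorem Data.elem_eq (D : Data hF C) (P : Fr hF) (E : Subgroup C)
    (hE : Cfsg.IsElementaryAbelian 2 E) (hN : E ≤ Subgroup.normalizer (D.A P : Set C))
    (hcard : 2 ^ 10 ≤ Nat.card E) : E = D.A P := by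
  by_cases hle : E ≤ D.A P
  · exact Subgroup.eq_of_le_of_card_ge hle (by rw [D.card_A]; exact hcard)
  obtain ⟨c, hc, hcA⟩ := SetLike.not_le_iff_exists.1 hle
  obtain ⟨k, hk, hk2⟩ := D.exists_invol (c := c) (by rw [← pow_two]; exact hE.2 c hc)
  obtain ⟨P', hU, -, h0, h1, h2⟩ := exists_adapted P hk2 (D.inW_of_mem P hk (hN hc))
    (fun hU => hcA ⟨k, hU, hk⟩)
  obtain ⟨ω, hω⟩ := exists_omega hF
  rw [← D.A_eq hU] at hN
  have := D.elem_le_aux P' hω E hE hN hc hk hk2 h0 h1 h2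
  omega

end CfsgLib.U6Cover
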