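import Cfsg.Agent.Lib.U6Cover.Count
import Mathlib.GroupTheory.Sylow

/-!
The case of two conjugates over each non-zero coordinate is impossible: two conjugate central involutions of a
Sylow subgroup of the group have different numbers of elements commuting modulo them.
-/

set_option autoImplicit false
set_option linter.unusedSectionVars false

namespace CfsgLib.U6Cover

open CfsgLib.Classical.Herm HermSpace CfsgLib.UnitaryTransv

attribute [-simp] stdHerm_h

/-- Six unitriangular matrices. -/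
def sixTri : List (ℕ × ℕ × ℕ) := [(1, 0, 0), (2, 0, 0), (0, 1, 0), (0, 2, 0), (0, 0, 1), (0, 0, 2)]

theorem fix_six : (below 512 fun n => !(fixTri sixTri n) || Nat.blt n 2) = true := by decide +kernel

theorem img_h : lin (triImgs 1 0 0) 2 = 8 ∧ 10 ^^^ lin (triImgs 2 0 0) 10 = 1 := by decide +kernel

theorem mask2_mem : (below 512 fun n => !(mask2 n) ||
    (Nat.beq n 0 || Nat.beq n 11 || Nat.beq n 24 || Nat.beq n 19)) = true := by decide +kernel

theorem mask_exists : ((mask2 11 && Nat.beq (ent4 (lin baseMats 11) 0 1) 1) &&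
    (mask2 24 && Nat.beq (ent4 (lin baseMats 24) 0 1) 2) &&
    below 4 (fun p => below 4 fun q => !(Nat.beq (countBelow 512 fun n =>
      mask3 n && Nat.beq (ent4 (lin baseMats n) 0 2) p && Nat.beq (ent4 (lin baseMats n) 1 2) q) 0))) = true := by
  decide +kernel

theorem code_h_P3 : ∀ i < 3, ent4 (lin baseMats 10) i 2 = 0 ∧ ent4 (lin baseMats 1) i 2 = 0 := by decide +kernel

variable {F : Type*} [Field F] [Fintype F] {hF : Fintype.card F = 2 ^ 2} {C : Type*} [Group C] [Finite C]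

/-- An element of the group with given code in a frame also lies over the third frame. -/
theorem Data.mem_A3 (D : Data hF C) (P : Fr hF) {ω : F} (hω : ω ^ 2 + ω + 1 = 0) {x : C} {n : ℕ}
    (hn : ∀ i < 3, ent4 (lin baseMats n) i 2 = 0) (h : D.L x (P.u ω n)) : x ∈ D.A P.P3 := by
  have hc := P.hasCode_u hω n
  refine ⟨_, fun i => ?_, h⟩
  fin_cases i
  · exact hc.mem_U 0
  · exact hc.mem_U 1
  · show (P.u ω n).1 (P.f 2) = P.f 2
    rw [hc.apply_f 2]
    simp [hn 0 (by norm_num), hn 1 (by norm_num), hn 2 (by norm_num), iota]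

theorem Data.A_commute (D : Data hF C) (Q : Fr hF) {a b : C} (ha : a ∈ D.A Q) (hb : b ∈ D.A Q) :
    Commute a b := by
  obtain ⟨⟨⟨hc⟩⟩, -⟩ := D.isElementary Q
  exact congrArg Subtype.val (hc ⟨a, ha⟩ ⟨b, hb⟩)

theorem Data.A_sq (D : Data hF C) (Q : Fr hF) {a : C} (ha : a ∈ D.A Q) : a * a = 1 := by
  rw [← pow_two]; exact (D.isElementary Q).2 a ha

/-- An element of the Sylow subgroup with given image. -/
theorem Data.exists_six (D : Data hF C) (P : Fr hF) {ω : F} (hω : ω ^ 2 + ω + 1 = 0) {t : ℕ × ℕ × ℕ}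
    (ht : t ∈ sixTri) :
    t.1 < 4 ∧ t.2.1 < 4 ∧ t.2.2 < 4 ∧ ∃ c ∈ D.S0 P ω hω, ∃ g, D.L c g ∧ g.1 (P.e 0) = P.e 0 ∧
      g.1 (P.e 1) = P.e 1 + iota ω t.1 • P.e 0 ∧
      g.1 (P.e 2) = P.e 2 + iota ω t.2.1 • P.e 0 + iota ω t.2.2 • P.e 1 := by
  have h := mask_exists
  simp only [Bool.and_eq_true] at h
  obtain ⟨⟨⟨m11, e11⟩, ⟨m24, e24⟩⟩, h3⟩ := h
  have two : ∀ (n a : ℕ), n < 512 → mask2 n = true → ent4 (lin baseMats n) 0 1 = a → a < 4 ∧
      ∃ c ∈ D.S0 P ω hω, ∃ g, D.L c g ∧ g.1 (P.e 0) = P.e 0 ∧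
        g.1 (P.e 1) = P.e 1 + iota ω a • P.e 0 ∧
        g.1 (P.e 2) = P.e 2 + iota ω 0 • P.e 0 + iota ω 0 • P.e 1 := by
    rintro n a hn hm rfl
    obtain ⟨p0, p1, p2, -⟩ := P.u2_apply hω hn hm
    refine ⟨(ent4_lt (coord_spec hn).2.2.1 (by norm_num) (by norm_num)).1, D.au P.P2 ω n,
      Subgroup.mem_sup_right (Subgroup.mem_sup_right ⟨n, hn, hm, D.L_au P.P2 ω n⟩), _, D.L_au P.P2 ω n,
      p0, p1, ?_⟩
    simp [p2, iota]
  have three : ∀ p q, p < 4 → q < 4 → ∃ c ∈ D.S0 P ω hω, ∃ g, D.L c g ∧ g.1 (P.e 0) = P.e 0 ∧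
        g.1 (P.e 1) = P.e 1 + iota ω 0 • P.e 0 ∧
        g.1 (P.e 2) = P.e 2 + iota ω p • P.e 0 + iota ω q • P.e 1 := by
    intro p q hp hq
    have hne := below_spec (below_spec h3 hp) hq
    have : ∃ n < 512, (mask3 n && Nat.beq (ent4 (lin baseMats n) 0 2) p &&
        Nat.beq (ent4 (lin baseMats n) 1 2) q) = true := by
      by_contra hcon
      rw [countBelow_eq, Finset.filter_false_of_mem (fun n hn e =>
        hcon ⟨n, Finset.mem_range.1 hn, e⟩), Finset.card_empty] at hne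
      exact absurd hne (by simp)
    obtain ⟨n, hn, e⟩ := this
    simp only [Bool.and_eq_true] at e
    obtain ⟨p0, p1, p2⟩ := P.u3_apply hω hn e.1.1
    refine ⟨D.au P.P3 ω n, Subgroup.mem_sup_right (Subgroup.mem_sup_left ⟨n, hn, e.1.1, D.L_au P.P3 ω n⟩),
      _, D.L_au P.P3 ω n, p0, ?_, ?_⟩
    · simp [p1, iota]
    · rw [p2, Nat.eq_of_beq_eq_true e.1.2, Nat.eq_of_beq_eq_true e.2]
  simp only [sixTri, List.mem_cons, List.not_mem_nil, or_false] at ht
  rcases ht with rfl | rfl | rfl | rfl | rfl | rfl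
  · exact ⟨by norm_num, by norm_num, by norm_num, (two 11 1 (by norm_num) m11 (Nat.eq_of_beq_eq_true e11)).2⟩
  · exact ⟨by norm_num, by norm_num, by norm_num, (two 24 2 (by norm_num) m24 (Nat.eq_of_beq_eq_true e24)).2⟩
  · exact ⟨by norm_num, by norm_num, by norm_num, three 1 0 (by norm_num) (by norm_num)⟩
  · exact ⟨by norm_num, by norm_num, by norm_num, three 2 0 (by norm_num) (by norm_num)⟩
  · exact ⟨by norm_num, by norm_num, by norm_num, three 0 1 (by norm_num) (by norm_num)⟩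
  · exact ⟨by norm_num, by norm_num, by norm_num, three 0 2 (by norm_num) (by norm_num)⟩

/-- At most four elements are central modulo the centre. -/
theorem Data.few_fixed (D : Data hF C) (P : Fr hF) {ω : F} (hω : ω ^ 2 + ω + 1 = 0) {a : C} (ha : a ∈ D.A P)
    (hfix : ∀ s ∈ D.S0 P ω hω, s * a * s⁻¹ = a ∨ s * a * s⁻¹ = a * D.z) :
    a = 1 ∨ a = D.z ∨ a = D.au P ω 1 ∨ a = D.au P ω 1 * D.z := by
  obtain ⟨n, hn, hL, hor⟩ := D.exists_code P hω ha
  have hn2 : n < 2 := by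
    have h := below_spec fix_six hn
    have hall : fixTri sixTri n = true := by
      rw [fixTri, List.all_eq_true]
      rintro ⟨x, y, q⟩ ht
      obtain ⟨hx, hy, hq, c, hc, g, hg, h0, h1, h2⟩ := D.exists_six P hω ht
      have hv := P.vec_tri hω hx hy hq h0 h1 h2
      have hws : ∀ w ∈ baseVecs.map (tri4 x y q), w < 64 := fun w hw => by
        obtain ⟨v, -, rfl⟩ := List.mem_map.1 hw
        exact (hv v).2
      have h4 := hg.conj hL
      rw [P.u_conj hω hws (by rw [List.map_map]; exact List.map_congr_left fun v _ => (hv v).1)] at h4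
      have h5 : D.L (c * a * c⁻¹) (P.u ω n) := by
        rcases hfix c hc with e | e <;> rw [e]
        · exact hL
        · exact hL.mul_z
      show Nat.beq (lin ((baseVecs.map (tri4 x y q)).map code4) n) n = true
      rw [D.code_unique P hω hn (code4_lt_of hws _) h5 h4]
      exact Nat.beq_refl _
    rw [hall, Bool.not_true, Bool.false_or] at h
    exact Nat.blt_eq.mp h
  interval_cases n
  · rw [D.au_zero, one_mul] at hor
    exact hor.elim Or.inl (fun h => Or.inr (Or.inl h))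
  · exact hor.elim (fun h => Or.inr (Or.inr (Or.inl h))) (fun h => Or.inr (Or.inr (Or.inr h)))

/-- A second central involution and an element with commutators in it. -/
theorem Data.exists_z0 (D : Data hF C) (P : Fr hF) {ω : F} (hω : ω ^ 2 + ω + 1 = 0) :
    ∃ h z0 : C, h ∈ D.A P ∧ z0 ∈ D.A P ∧ D.L h (P.u ω 10) ∧ D.L z0 (P.u ω 1) ∧
      ∀ s ∈ D.S0 P ω hω, (s * h * s⁻¹ = h ∨ s * h * s⁻¹ = h * z0) ∧ s * z0 * s⁻¹ = z0 := by
  have hm := mask_exists
  simp only [Bool.and_eq_true] at hm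
  obtain ⟨⟨⟨m11, e11⟩, ⟨m24, e24⟩⟩, -⟩ := hm
  set g1 := D.au P.P2 ω 11
  set gw := D.au P.P2 ω 24
  have hg1 : g1 ∈ D.B2 P ω hω := ⟨11, by norm_num, m11, D.L_au P.P2 ω 11⟩
  have hgw : gw ∈ D.B2 P ω hω := ⟨24, by norm_num, m24, D.L_au P.P2 ω 24⟩
  have g1sq : g1 * g1 = 1 := D.au_sq P.P2 ω 11
  have gwsq : gw * gw = 1 := D.au_sq P.P2 ω 24
  have g1inv : g1⁻¹ = g1 := inv_eq_of_mul_eq_one_left g1sq
  have gwinv : gw⁻¹ = gw := inv_eq_of_mul_eq_one_left gwsq
  have hN : ∀ {g : C}, g ∈ D.B2 P ω hω → ∀ x ∈ D.A P, g * x * g⁻¹ ∈ D.A P := fun hg x hx =>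
    (Subgroup.mem_normalizer_iff.1 ((D.B2_le P hω).2 hg) x).1 hx
  have code : ∀ (g : ℕ) (a : ℕ), g < 512 → mask2 g = true → ent4 (lin baseMats g) 0 1 = a → ∀ {x : C} (n : ℕ),
      D.L x (P.u ω n) →
      D.L (D.au P.P2 ω g * x * (D.au P.P2 ω g)⁻¹) (P.u ω (lin (triImgs a 0 0) n)) := by
    rintro g a hg hmask rfl x n hx
    obtain ⟨p0, p1, p2, -⟩ := P.u2_apply hω hg hmask
    have hv := P.vec_tri (g := P.P2.u ω g) hω
      (ent4_lt (coord_spec hg).2.2.1 (by norm_num : 0 < 3) (by norm_num : 1 < 3)).1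
      (show 0 < 4 by norm_num) (show 0 < 4 by norm_num) p0 p1 (by simp [p2, iota])
    have hws : ∀ w ∈ baseVecs.map (tri4 (ent4 (lin baseMats g) 0 1) 0 0), w < 64 := fun w hw => by
      obtain ⟨v, -, rfl⟩ := List.mem_map.1 hw
      exact (hv v).2
    have h4 := (D.L_au P.P2 ω g).conj hx
    rwa [P.u_conj hω hws (by rw [List.map_map]; exact List.map_congr_left fun v _ => (hv v).1)] at h4
  set a := D.au P ω 2
  have haA : a ∈ D.A P := D.au_mem P hω 2
  set s1 := g1 * a * g1⁻¹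
  set h := a * s1
  set z0 := h * (gw * h * gw⁻¹)
  have hs1 : s1 ∈ D.A P := hN hg1 a haA
  have hh : h ∈ D.A P := mul_mem haA hs1
  have hz0 : z0 ∈ D.A P := mul_mem hh (hN hgw h hh)
  have hLh : D.L h (P.u ω 10) := by
    have h1 := code 11 1 (by norm_num) m11 (Nat.eq_of_beq_eq_true e11) 2 (D.L_au P ω 2)
    rw [img_h.1] at h1
    have := (D.L_au P ω 2).mul h1
    rwa [← P.u_xor hω (by norm_num) (by norm_num)] at this
  have hLz : D.L z0 (P.u ω 1) := by
    have h1 := code 24 2 (by norm_num) m24 (Nat.eq_of_beq_eq_true e24) 10 hLh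
    have hlt : lin (triImgs 2 0 0) 10 < 512 := by decide +kernel
    have := hLh.mul h1
    rwa [← P.u_xor hω (by norm_num) hlt, img_h.2] at this
  have e1 : g1 * h * g1⁻¹ = h := by
    have : g1 * s1 * g1⁻¹ = a := by
      show g1 * (g1 * a * g1⁻¹) * g1⁻¹ = a
      rw [g1inv, show g1 * (g1 * a * g1) * g1 = (g1 * g1) * a * (g1 * g1) by group, g1sq, one_mul, mul_one]
    rw [show g1 * h * g1⁻¹ = (g1 * a * g1⁻¹) * (g1 * s1 * g1⁻¹) by show g1 * (a * s1) * g1⁻¹ = _; group, this]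
    exact (D.A_commute P hs1 haA).eq
  have ew : gw * h * gw⁻¹ = h * z0 := by
    show _ = h * (h * (gw * h * gw⁻¹))
    rw [← mul_assoc h h, D.A_sq P hh, one_mul]
  have ewz : gw * z0 * gw⁻¹ = z0 := by
    show gw * (h * (gw * h * gw⁻¹)) * gw⁻¹ = h * (gw * h * gw⁻¹)
    rw [show gw * (h * (gw * h * gw⁻¹)) * gw⁻¹ = (gw * h * gw⁻¹) * ((gw * gw) * h * (gw * gw)⁻¹) by group,
      gwsq, inv_one, one_mul, mul_one]
    exact (D.A_commute P (hN hgw h hh) hh).eq
  have hcomm : Commute g1 gw := D.A_commute P.P2 ((D.B2_le P hω).1 hg1) ((D.B2_le P hω).1 hgw)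
  have e1z : g1 * z0 * g1⁻¹ = z0 := by
    show g1 * (h * (gw * h * gw⁻¹)) * g1⁻¹ = h * (gw * h * gw⁻¹)
    rw [show g1 * (h * (gw * h * gw⁻¹)) * g1⁻¹ = (g1 * h * g1⁻¹) * ((g1 * gw) * h * (g1 * gw)⁻¹) by group,
      hcomm.eq, show gw * g1 * h * (gw * g1)⁻¹ = gw * (g1 * h * g1⁻¹) * gw⁻¹ by group, e1]
  have z0sq : z0 * z0 = 1 := D.A_sq P hz0
  let R : Subgroup C :=
    { carrier := {s | (s * h * s⁻¹ = h ∨ s * h * s⁻¹ = h * z0) ∧ s * z0 * s⁻¹ = z0}
      one_mem' := ⟨Or.inl (by group), by group⟩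
      mul_mem' := by
        rintro s t ⟨hs, hsz⟩ ⟨ht, htz⟩
        have e : ∀ y, s * t * y * (s * t)⁻¹ = s * (t * y * t⁻¹) * s⁻¹ := fun y => by group
        refine ⟨?_, by rw [e, htz, hsz]⟩
        rw [e]
        rcases ht with ht | ht <;> rw [ht]
        · exact hs
        · rw [show s * (h * z0) * s⁻¹ = (s * h * s⁻¹) * (s * z0 * s⁻¹) by group, hsz]
          rcases hs with hs | hs <;> rw [hs]
          · exact Or.inr rfl
          · exact Or.inl (by rw [mul_assoc, z0sq, mul_one])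
      inv_mem' := by
        rintro s ⟨hs, hsz⟩
        have hsz' : s⁻¹ * z0 * s⁻¹⁻¹ = z0 := by
          nth_rw 1 [← hsz]; group
        refine ⟨?_, hsz'⟩
        rcases hs with hs | hs
        · left; nth_rw 1 [← hs]; group
        · right
          have e : s⁻¹ * (s * h * s⁻¹) * s⁻¹⁻¹ = h := by group
          rw [hs, show s⁻¹ * (h * z0) * s⁻¹⁻¹ = (s⁻¹ * h * s⁻¹⁻¹) * (s⁻¹ * z0 * s⁻¹⁻¹) by group, hsz'] at e
          calc s⁻¹ * h * s⁻¹⁻¹ = s⁻¹ * h * s⁻¹⁻¹ * z0 * z0 := by rw [mul_assoc _ z0, z0sq, mul_one]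
            _ = _ := by rw [e] }
  refine ⟨h, z0, hh, hz0, hLh, hLz, fun s hs => ?_⟩
  have hfix : ∀ {s : C}, Commute s h → Commute s z0 → s ∈ R := fun c1 c2 =>
    ⟨Or.inl (by rw [c1.eq, mul_inv_cancel_right]), by rw [c2.eq, mul_inv_cancel_right]⟩
  have hg1R : g1 ∈ R := ⟨Or.inl e1, e1z⟩
  have hgwR : gw ∈ R := ⟨Or.inr ew, ewz⟩
  have hzR : D.z ∈ R := hfix (D.central h) (D.central z0)
  have hle : D.S0 P ω hω ≤ R := by
    refine sup_le (fun x hx => hfix (D.A_commute P hx hh) (D.A_commute P hx hz0)) (sup_le (fun x hx => ?_) ?_)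
    · have hx3 := (D.B3_le P hω).1 hx
      exact hfix (D.A_commute P.P3 hx3 (D.mem_A3 P hω (fun i hi => (code_h_P3 i hi).1) hLh))
        (D.A_commute P.P3 hx3 (D.mem_A3 P hω (fun i hi => (code_h_P3 i hi).2) hLz))
    · rintro x ⟨n, hn, pn, hL⟩
      have hau : D.au P.P2 ω n ∈ R := by
        have := below_spec mask2_mem hn
        rw [show mask2 n = true from pn, Bool.not_true, Bool.false_or] at this
        simp only [Bool.or_eq_true] at this
        rcases this with ((e | e) | e) | e <;> rw [Nat.eq_of_beq_eq_true e]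
        · rw [D.au_zero]; exact one_mem R
        · exact hg1R
        · exact hgwR
        · rw [show 19 = 11 ^^^ 24 by decide +kernel, D.au_xor]
          exact mul_mem hg1R hgwR
      rcases (D.L_au P.P2 ω n).eq_or hL with e | e <;> rw [e]
      · exact hau
      · exact mul_mem hau hzR
  exact hle hs

variable {G : Type*} [Group G] [Finite G]

theorem Ctx.not_two (T : Ctx hF G) (P : Fr hF) {ω : F} (hω : ω ^ 2 + ω + 1 = 0)
    (h : ∀ n < 512, n ≠ 0 → T.cnt P ω n = 2) : False := by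
  classical
  have hall : ∀ c ∈ T.D.A P, (c : G) ≠ 1 → IsConj T.d (c : G) := by
    intro c hc hne
    obtain ⟨-, -, h3⟩ := T.elv_spec P hω
    obtain ⟨⟨n, b⟩, hp⟩ := h3 _ ⟨c, hc, rfl⟩
    change T.elv P ω (n, b) = (c : G) at hp
    rw [← hp]
    by_cases hn0 : (n : ℕ) = 0
    · cases b
      · rw [T.elv_false, hn0, T.av_zero] at hp; exact absurd hp.symm hne
      · rw [T.elv_true, hn0, T.av_zero, one_mul]
    · have h2 := h n n.2 hn0
      unfold Ctx.cnt at h2
      have := T.chi_le (T.av P ω n); have := T.chi_le (T.av P ω n * T.d)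
      cases b
      · rw [T.elv_false]; exact T.chi_eq_one.1 (by omega)
      · rw [T.elv_true]; exact T.chi_eq_one.1 (by omega)
  let C := Subgroup.centralizer ({T.d} : Set G)
  obtain ⟨S, hS, -⟩ := T.D.exists_sylow P hω
  let S' : Subgroup G := (T.D.S0 P ω hω).map C.subtype
  have hS'p : IsPGroup 2 S' := (T.D.isPGroup_S0 P hω).map _
  obtain ⟨Q, hQ⟩ := hS'p.exists_le_sylow
  have : Fact (Nat.Prime 2) := ⟨Nat.prime_two⟩
  have hS'16 : 2 ^ 16 ≤ Nat.card S' := by
    rw [Subgroup.card_map_of_injective Subtype.val_injective]; exact T.D.card_S0 P hω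
  have : Nontrivial Q := (Subgroup.nontrivial_iff_ne_bot _).2 fun e => by
    have h1 := Subgroup.card_le_of_le hQ
    rw [e, Subgroup.card_bot] at h1
    omega
  obtain ⟨⟨w, hwc⟩, hw⟩ := exists_prime_orderOf_dvd_card' (G := Subgroup.center Q) 2
    (by
      have := Q.isPGroup'.center_nontrivial
      obtain ⟨k, hk, hcard⟩ := (Q.isPGroup'.to_subgroup (Subgroup.center Q)).nontrivial_iff_card.1 this
      rw [hcard]
      exact dvd_pow_self 2 (by omega))
  have hwQ : ∀ x ∈ Q, Commute (w : G) x := fun x hx =>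
    congrArg Subtype.val ((Subgroup.mem_center_iff.1 hwc ⟨x, hx⟩).symm)
  have hw2 : (w : G) * w = 1 := by
    have := pow_orderOf_eq_one (⟨w, hwc⟩ : Subgroup.center Q)
    rw [hw, pow_two] at this
    exact congrArg (fun x : Subgroup.center Q => ((x : Q) : G)) this
  have hw1 : (w : G) ≠ 1 := fun e => by
    have : (⟨w, hwc⟩ : Subgroup.center Q) = 1 := Subtype.ext (Subtype.ext e)
    rw [this, orderOf_one] at hw
    norm_num at hw
  have hS'Q : ∀ x ∈ T.D.S0 P ω hω, (x : G) ∈ Q := fun x hx => hQ ⟨x, hx, rfl⟩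
  have hAS : T.D.A P ≤ T.D.S0 P ω hω := le_sup_left
  have hdS : T.D.z ∈ T.D.S0 P ω hω := hAS (T.D.z_mem P)
  have hwd : Commute (w : G) T.d := by
    have := hwQ _ (hS'Q _ hdS)
    rwa [T.hz] at this
  let wc : C := ⟨(w : G), Subgroup.mem_centralizer_singleton_iff.2 hwd.eq⟩
  have hwA : wc ∈ T.D.A P := by
    have hsq : wc * wc = 1 := Subtype.ext hw2
    obtain ⟨k, hk, hk2⟩ := T.D.exists_invol hsq
    refine ⟨k, fun i => ?_, hk⟩
    obtain ⟨v, hv, hev⟩ := P.exists_vec hω (P.inW_e i)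
    obtain ⟨a, ha, -, hka⟩ : ∃ a, T.D.L a (P.tvv ω v) ∧ a * a = 1 ∧ Commute a wc := by
      refine ⟨_, T.D.L_s_tvv P ω v, T.D.sq_tv _ (T.D.L_s_tvv P ω v), ?_⟩
      have hmem : T.D.s (P.tvv ω v) ∈ T.D.A P :=
        ⟨_, (P.hasCode_tvv hω hv).mem_U, T.D.L_s_tvv P ω v⟩
      exact Subtype.ext ((hwQ _ (hS'Q _ (hAS hmem))).symm.eq)
    have hc := T.D.commute_invol ha hk (tv_sq hF _ _) hk2 hka
    have e := tv_conj hF k (P.vec ω v) (P.h_vec_vec ω v v)
    rw [show k * tv hF (P.vec ω v) (P.h_vec_vec ω v v) * k⁻¹ = tv hF (P.vec ω v) (P.h_vec_vec ω v v) by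
      rw [show tv hF (P.vec ω v) (P.h_vec_vec ω v v) = P.tvv ω v from rfl, hc.symm.eq, mul_inv_cancel_right]] at e
    have e' := LinearEquiv.congr_fun (congrArg Subtype.val e) (P.f i)
    rw [tv_apply, tv_apply, ← hev, P.fe, if_pos rfl, one_smul, add_right_inj] at e'
    set μ := (stdHerm hF 6).h (P.f i) (k.1 (P.e i))
    have hμ0 : μ ≠ 0 := fun h0 => P.e_ne_zero i (by rw [e', h0, zero_smul])
    have hk' : k.1 (P.e i) = μ⁻¹ • P.e i := by
      nth_rw 2 [e']
      rw [inv_smul_smul₀ hμ0]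
    have hkk : k.1 (k.1 (P.e i)) = P.e i := by
      rw [← CfsgLib.Classical.Herm.mul_apply, hk2, one_apply]
    rw [hk', map_smul, hk', smul_smul] at hkk
    have h1 := smul_left_injective F (P.e_ne_zero i) (hkk.trans (one_smul F _).symm)
    rw [hk', eq_one_of_scalar_sq (μ := μ⁻¹) hF (by rw [pow_two]; exact h1), one_smul]
  obtain ⟨g, hg⟩ := isConj_iff.1 (hall wc hwA hw1)
  change g * T.d * g⁻¹ = (w : G) at hg
  have hQle : conjSub g⁻¹ (Q : Subgroup G) ≤ C := fun x hx => by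
    rw [mem_conjSub, inv_inv] at hx
    have := (hwQ _ hx).eq
    rw [← hg] at this
    rw [Subgroup.mem_centralizer_singleton_iff]
    calc x * T.d = g⁻¹ * ((g * x * g⁻¹) * (g * T.d * g⁻¹)) * g := by group
      _ = g⁻¹ * ((g * T.d * g⁻¹) * (g * x * g⁻¹)) * g := by rw [this]
      _ = T.d * x := by group
  obtain ⟨hC, hodd⟩ := T.D.card_C
  have hQ16 : Nat.card Q ≤ 2 ^ 16 := by
    obtain ⟨k, hk⟩ := IsPGroup.iff_card.1 Q.isPGroup'
    have h1 : Nat.card Q ∣ 2 ^ 16 * 280665 := by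
      have hcm : Nat.card (conjSub g⁻¹ (Q : Subgroup G)) = Nat.card Q :=
        Subgroup.card_map_of_injective (MulAut.conj g⁻¹).injective
      rw [← hC, ← hcm]
      exact Subgroup.card_dvd_of_le hQle
    rw [hk] at h1 ⊢
    exact Nat.le_of_dvd (by norm_num) ((Nat.Coprime.dvd_of_dvd_mul_right (Nat.Coprime.pow_left _
      (Nat.prime_two.coprime_iff_not_dvd.2 hodd)) h1))
  have hQS : S' = (Q : Subgroup G) :=
    Subgroup.eq_of_le_of_card_ge hQ (by show Nat.card Q ≤ _; omega)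
  obtain ⟨hh, z0, hhA, hz0A, hLh, hLz, hR⟩ := T.D.exists_z0 P hω
  have hz0ne : z0 ≠ 1 ∧ z0 ≠ T.D.z := by
    have h0 : T.D.L (1 : C) (P.u ω 0) := by
      rw [show P.u ω 0 = 1 from prodBits_zero _]; exact T.D.L_one
    have hz : T.D.L T.D.z (P.u ω 0) := by
      rw [show P.u ω 0 = 1 from prodBits_zero _]; exact T.D.L_z
    constructor <;> intro e <;> subst e
    · exact absurd (T.D.code_unique P hω (by norm_num) (by norm_num) h0 hLz) (by norm_num)
    · exact absurd (T.D.code_unique P hω (by norm_num) (by norm_num) hz hLz) (by norm_num)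
  have hz0' : (z0 : G) ≠ 1 := fun e => hz0ne.1 (Subtype.ext e)
  obtain ⟨g0, hg0⟩ := isConj_iff.1 (hall z0 hz0A hz0')
  have hcent : ∀ y : C, (∀ s ∈ T.D.S0 P ω hω, s * y * s⁻¹ = y) →
      (y : G) ∈ Subgroup.centralizer ((Q : Subgroup G) : Set G) := by
    intro y hy
    rw [← hQS, Subgroup.mem_centralizer_iff]
    rintro _ ⟨s, hs, rfl⟩
    exact congrArg Subtype.val (mul_inv_eq_iff_eq_mul.1 (hy s hs))
  obtain ⟨x, hxN, hxe⟩ := Q.conj_eq_normalizer_conj_of_mem_centralizer T.d g0⁻¹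
    (by rw [← T.hz]; exact hcent _ fun s _ => by rw [← T.D.central s, mul_inv_cancel_right])
    (by rw [inv_inv, hg0]; exact hcent _ fun s hs => (hR s hs).2)
  rw [inv_inv, hg0] at hxe
  have hxS : ∀ y, y ∈ S' ↔ x⁻¹ * y * x ∈ S' := by
    rw [hQS]
    exact Subgroup.mem_normalizer_iff''.1 hxN
  -- pull `x` back to the level of the cover
  have hdx : x * (z0 : G) * x⁻¹ = T.d := by
    rw [hxe]; group
  have hS'C : ∀ y ∈ S', ∃ c ∈ T.D.S0 P ω hω, (c : G) = y := fun y hy => hy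
  have hxA : ∀ a : C, a ∈ T.D.A P → ∃ b ∈ T.D.A P, (b : G) = x * (a : G) * x⁻¹ := by
    intro a ha
    let E : Subgroup G := conjSub x (T.AG P)
    have hE : E ≤ S' := fun y hy => by
      rw [mem_conjSub] at hy
      obtain ⟨c, hc, hcy⟩ := hy
      have := (hxS y).2 (hcy ▸ ⟨c, hAS hc, rfl⟩)
      exact this
    let E' : Subgroup C := E.subgroupOf C
    have hEC : E ≤ C := fun y hy => by
      obtain ⟨c, -, rfl⟩ := hE hy
      exact c.2
    have hmap : E'.map C.subtype = E := by rw [Subgroup.subgroupOf_map_subtype, inf_eq_left.2 hEC]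
    have hle : E' ≤ T.D.S0 P ω hω := fun c hc => by
      obtain ⟨c', hc', he⟩ := hE (Subgroup.mem_subgroupOf.1 hc)
      rwa [← Subtype.ext he]
    have heq : E' = T.D.A P := T.D.elem_eq P E'
      (isElementary_of_map _ Subtype.val_injective (by rw [hmap]; exact isElementary_map _ (T.AG_elem P)))
      (hle.trans (T.D.S0_le_normalizer P hω))
      (by rw [Nat.card_congr (Subgroup.subgroupOfEquivOfLe hEC).toEquiv]
          rw [show Nat.card E = Nat.card (T.AG P) from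
            Subgroup.card_map_of_injective (MulAut.conj x).injective, T.card_AG])
    have hmem : x * (a : G) * x⁻¹ ∈ E := by
      rw [mem_conjSub, show x⁻¹ * (x * (a : G) * x⁻¹) * x = (a : G) by group]
      exact ⟨a, ha, rfl⟩
    rw [← hmap, heq] at hmem
    exact hmem
  choose f hfA hf using hxA
  have hfix : ∀ a : C, ∀ ha : a ∈ T.D.A P, (∀ s ∈ T.D.S0 P ω hω, s * a * s⁻¹ = a ∨ s * a * s⁻¹ = a * z0) →
      f a ha = 1 ∨ f a ha = T.D.z ∨ f a ha = T.D.au P ω 1 ∨ f a ha = T.D.au P ω 1 * T.D.z := by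
    intro a ha hfa
    refine T.D.few_fixed P hω (hfA a ha) fun s hs => ?_
    obtain ⟨s', hs', hs''⟩ := hS'C _ ((hxS (s : G)).1 ⟨s, hs, rfl⟩)
    have e : ∀ y : G, (s : G) * (x * y * x⁻¹) * (s : G)⁻¹ = x * ((s' : G) * y * (s' : G)⁻¹) * x⁻¹ := fun y => by
      rw [hs'']; group
    rcases hfa s' hs' with h1 | h1
    · left
      apply Subtype.ext
      show (s : G) * (f a ha : G) * (s : G)⁻¹ = (f a ha : G)
      rw [hf, e, show (s' : G) * (a : G) * (s' : G)⁻¹ = (a : G) from congrArg Subtype.val h1]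
    · right
      apply Subtype.ext
      show (s : G) * (f a ha : G) * (s : G)⁻¹ = (f a ha : G) * (T.D.z : G)
      rw [hf, e, show (s' : G) * (a : G) * (s' : G)⁻¹ = (a : G) * (z0 : G) from congrArg Subtype.val h1, T.hz,
        show x * ((a : G) * (z0 : G)) * x⁻¹ = x * (a : G) * x⁻¹ * (x * (z0 : G) * x⁻¹) by group, hdx]
  have hc1 : ∀ s ∈ T.D.S0 P ω hω, s * (1 : C) * s⁻¹ = 1 ∨ s * (1 : C) * s⁻¹ = 1 * z0 :=
    fun s _ => Or.inl (by group)
  have hcz : ∀ s ∈ T.D.S0 P ω hω, s * T.D.z * s⁻¹ = T.D.z ∨ s * T.D.z * s⁻¹ = T.D.z * z0 :=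
    fun s _ => Or.inl (by rw [← T.D.central s, mul_inv_cancel_right])
  have hcz0 : ∀ s ∈ T.D.S0 P ω hω, s * z0 * s⁻¹ = z0 ∨ s * z0 * s⁻¹ = z0 * z0 :=
    fun s hs => Or.inl (hR s hs).2
  have hczz : ∀ s ∈ T.D.S0 P ω hω, s * (z0 * T.D.z) * s⁻¹ = z0 * T.D.z ∨
      s * (z0 * T.D.z) * s⁻¹ = z0 * T.D.z * z0 := fun s hs => Or.inl (by
    rw [show s * (z0 * T.D.z) * s⁻¹ = (s * z0 * s⁻¹) * (s * T.D.z * s⁻¹) by group, (hR s hs).2,
      ← T.D.central s, mul_inv_cancel_right])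
  let five : List C := [1, T.D.z, z0, z0 * T.D.z, hh]
  have h5 : ∀ a ∈ five, ∃ ha : a ∈ T.D.A P,
      f a ha ∈ ({1, T.D.z, T.D.au P ω 1, T.D.au P ω 1 * T.D.z} : Finset C) := by
    intro a hmem
    simp only [five, List.mem_cons, List.not_mem_nil, or_false] at hmem
    simp only [Finset.mem_insert, Finset.mem_singleton]
    rcases hmem with rfl | rfl | rfl | rfl | rfl
    · exact ⟨one_mem _, hfix _ _ hc1⟩
    · exact ⟨T.D.z_mem P, hfix _ _ hcz⟩
    · exact ⟨hz0A, hfix _ _ hcz0⟩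
    · exact ⟨mul_mem hz0A (T.D.z_mem P), hfix _ _ hczz⟩
    · exact ⟨hhA, hfix _ _ fun s hs => (hR s hs).1⟩
  choose ha hfa using h5
  have hnd : five.Nodup := by
    obtain ⟨n1, n2⟩ := hz0ne
    have hzz1 : z0 * T.D.z ≠ 1 := fun e => n2 (by
      rw [mul_eq_one_iff_eq_inv.1 e, inv_eq_of_mul_eq_one_left T.D.z_sq])
    have hzzz : z0 * T.D.z ≠ T.D.z := fun e => n1 (mul_eq_right.1 e)
    have hzzz0 : z0 * T.D.z ≠ z0 := fun e => T.D.z_ne (mul_eq_left.1 e)
    have hh' : ∀ y : C, ∀ m < 512, T.D.L y (P.u ω m) → m ≠ 10 → y ≠ hh := fun y m hm hy hne e => by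
      subst e
      exact hne (T.D.code_unique P hω (by norm_num) hm hLh hy)
    have h0 : T.D.L (1 : C) (P.u ω 0) := by
      rw [show P.u ω 0 = 1 from prodBits_zero _]; exact T.D.L_one
    have hz : T.D.L T.D.z (P.u ω 0) := by
      rw [show P.u ω 0 = 1 from prodBits_zero _]; exact T.D.L_z
    simp only [five, List.nodup_cons, List.mem_cons, List.not_mem_nil, or_false, not_or, List.nodup_nil,
      and_true, not_false_eq_true]
    exact ⟨⟨T.D.z_ne.symm, n1.symm, hzz1.symm, hh' _ 0 (by norm_num) h0 (by norm_num)⟩,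
      ⟨n2.symm, hzzz.symm, hh' _ 0 (by norm_num) hz (by norm_num)⟩,
      ⟨hzzz0.symm, hh' _ 1 (by norm_num) hLz (by norm_num)⟩,
      hh' _ 1 (by norm_num) hLz.mul_z (by norm_num)⟩
  have hcard : five.toFinset.card ≤ ({1, T.D.z, T.D.au P ω 1, T.D.au P ω 1 * T.D.z} : Finset C).card := by
    refine Finset.card_le_card_of_injOn (fun a => if h : a ∈ five then f a (ha a h) else 1) ?_ ?_
    · intro a hm
      have hm' : a ∈ five := List.mem_toFinset.1 hm
      simp only [dif_pos hm']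
      exact hfa a hm'
    · intro a hm b hm' e
      have hma : a ∈ five := List.mem_toFinset.1 hm
      have hmb : b ∈ five := List.mem_toFinset.1 hm'
      simp only [dif_pos hma, dif_pos hmb] at e
      have e' := congrArg Subtype.val e
      rw [hf, hf] at e'
      exact Subtype.ext (mul_left_cancel (mul_right_cancel e'))
  rw [List.toFinset_card_of_nodup hnd] at hcard
  have := hcard.trans Finset.card_le_four
  simp [five] at this

end CfsgLib.U6Cover
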