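import Cfsg.Agent.Lib.U6Cover.Distribution
import Cfsg.Agent.Lib.U6Cover.CaseTwo

/-!
A Sylow 2-subgroup of the double cover has a central element over a product of two conjugates in `A`; that
element is not conjugate to the involution, so at most one element over each such product is a conjugate.
-/

set_option autoImplicit false
set_option linter.unusedSectionVars false

namespace CfsgLib.U6Cover

variable {F : Type*} [Field F] [Fintype F] {hF : Fintype.card F = 2 ^ 2} {Q : Type*} [Group Q] [Finite Q]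

variable (T : Ctx hF Q) (P : Fr hF) {ω : F}

/-- The Sylow 2-subgroup of the centraliser, in the group. -/
def Ctx.S0G (hω : ω ^ 2 + ω + 1 = 0) : Subgroup Q :=
  (T.D.S0 P ω hω).map (Subgroup.centralizer ({T.d} : Set Q)).subtype

theorem Ctx.AG_le_S0G (hω : ω ^ 2 + ω + 1 = 0) : T.AG P ≤ T.S0G P hω :=
  Subgroup.map_mono le_sup_left

theorem Ctx.S0G_le (hω : ω ^ 2 + ω + 1 = 0) :
    T.S0G P hω ≤ T.N P ∧ T.S0G P hω ≤ Subgroup.centralizer ({T.d} : Set Q) := by
  constructor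
  · rintro _ ⟨c, hc, rfl⟩
    exact T.coe_mem_N P (T.D.S0_le_normalizer P hω hc)
  · rintro _ ⟨c, -, rfl⟩
    exact c.2

/-- The points fixed by the Sylow subgroup of the centraliser. -/
theorem Ctx.fixed_points (hω : ω ^ 2 + ω + 1 = 0) {q : Q} (hq : q ∈ T.AG P)
    (hfix : ∀ s ∈ T.S0G P hω, Commute s q) :
    q = 1 ∨ q = T.d ∨ q = T.pt P ω 1 ∨ q = T.d * T.pt P ω 1 := by
  obtain ⟨a, ha, rfl⟩ := hq
  have h := T.D.few_fixed P hω ha fun s hs => Or.inl (Subtype.ext (by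
    show (s : Q) * (a : Q) * (s : Q)⁻¹ = a
    have := hfix s ⟨s, hs, rfl⟩
    exact mul_inv_eq_iff_eq_mul.2 this.eq))
  have hp : T.pt P ω 1 = T.av P ω 1 ∨ T.pt P ω 1 = T.av P ω 1 * T.d := T.pt_over P 1
  have hc : T.d * T.av P ω 1 = T.av P ω 1 * T.d := (T.av_comm P ω 1).eq.symm
  rcases h with rfl | rfl | rfl | rfl
  · exact Or.inl rfl
  · exact Or.inr (Or.inl T.hz)
  · rcases hp with e | e
    · exact Or.inr (Or.inr (Or.inl e.symm))
    · refine Or.inr (Or.inr (Or.inr ?_))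
      rw [e, ← mul_assoc, hc, mul_assoc, T.d_sq, mul_one]; rfl
  · have e' : (((T.D.au P ω 1 * T.D.z : _) : _) : Q) = T.av P ω 1 * T.d := by
      rw [Subgroup.coe_mul, T.hz]; rfl
    rcases hp with e | e
    · exact Or.inr (Or.inr (Or.inr (e'.trans (by rw [e, hc]))))
    · exact Or.inr (Or.inr (Or.inl (e'.trans e.symm)))

theorem Ctx.pt_one_fixed (hω : ω ^ 2 + ω + 1 = 0) {s : Q} (hs : s ∈ T.S0G P hω) : Commute s (T.pt P ω 1) := by
  obtain ⟨c, hc, rfl⟩ := hs
  obtain ⟨h, z0, -, -, -, hL, hfix⟩ := T.D.exists_z0 P hω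
  have h0 : Commute (c : Q) (z0 : Q) := mul_inv_eq_iff_eq_mul.1 (congrArg Subtype.val (hfix c hc).2)
  have hd : Commute (c : Q) T.d := Subgroup.mem_centralizer_singleton_iff.1 c.2
  have hav : Commute (c : Q) (T.av P ω 1) := by
    rcases hL.eq_or (T.D.L_au P ω 1) with e | e
    · rw [show T.av P ω 1 = (z0 : Q) from congrArg Subtype.val e]; exact h0
    · rw [show T.av P ω 1 = (z0 : Q) * T.d by
        refine (congrArg Subtype.val e).trans ?_
        rw [Subgroup.coe_mul, T.hz]]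
      exact h0.mul_right hd
  show Commute (c : Q) _
  rcases T.pt_over P (ω := ω) 1 with e | e <;> rw [e]
  · exact hav
  · exact hav.mul_right hd

/-- A Sylow 2-subgroup, with an element interchanging the two fixed points of the centraliser's. -/
theorem Ctx.exists_swap (hω : ω ^ 2 + ω + 1 = 0) :
    ∃ S : Sylow 2 Q, T.AG P ≤ S ∧ (S : Subgroup Q) ≤ T.N P ∧ T.S0G P hω ≤ S ∧ ∃ t ∈ S,
      t * T.d * t⁻¹ = T.pt P ω 1 ∧ t * T.pt P ω 1 * t⁻¹ = T.d ∧
      (∀ s ∈ S, Commute s T.d → Commute (t⁻¹ * s * t) T.d) ∧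
      ∀ s ∈ S, ¬ Commute s T.d → Commute (t⁻¹ * s) T.d ∧ Commute (s * t) T.d := by
  have : Fact (Nat.Prime 2) := ⟨Nat.prime_two⟩
  obtain ⟨S₀, hS₀, hodd⟩ := T.D.exists_sylow P hω
  have hp0 : IsPGroup 2 (T.S0G P hω) := by
    unfold Ctx.S0G; rw [← hS₀]; exact S₀.isPGroup'.map _
  obtain ⟨S, hS⟩ := hp0.exists_le_sylow
  have hAS : T.AG P ≤ S := (T.AG_le_S0G P hω).trans hS
  have hSN := T.sylow_le_normalizer P S hAS
  -- the stabiliser has index 22
  let : MulAction (T.N P) (T.X P) := MulAction.compHom (T.X P) (T.σ P)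
  let d0 : T.X P := ⟨T.d, T.d_mem P, IsConj.refl _⟩
  have : MulAction.IsPretransitive (T.N P) (T.X P) := ⟨fun x y => by
    obtain ⟨n, hn, e⟩ := T.transitive P x.1 x.2.1 y.1 y.2.1 x.2.2 y.2.2
    exact ⟨⟨n, hn⟩, Subtype.ext e⟩⟩
  set St := MulAction.stabilizer (T.N P) d0 with hSt
  have hstab : ∀ n : T.N P, n ∈ St ↔ Commute (n : Q) T.d := fun n => by
    rw [hSt, MulAction.mem_stabilizer_iff]
    exact ⟨fun h => mul_inv_eq_iff_eq_mul.1 (congrArg Subtype.val h),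
      fun h => Subtype.ext (show (n : Q) * T.d * (n : Q)⁻¹ = T.d by rw [h.eq, mul_inv_cancel_right])⟩
  have h22 : St.index = 22 := by
    rw [hSt, MulAction.index_stabilizer_of_transitive, Nat.card_eq_fintype_card, T.card_X]
  -- the elements of `S` centralising `d`
  set S' := (S : Subgroup Q).subgroupOf (T.N P)
  set R0 := (T.S0G P hω).subgroupOf (T.N P)
  have hSC : ∀ s ∈ S, Commute s T.d → s ∈ T.S0G P hω := by
    intro s hs hsd
    set R := (S : Subgroup Q).subgroupOf (Subgroup.centralizer ({T.d} : Set Q))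
    have hR : IsPGroup 2 R := S.isPGroup'.comap_of_injective _ Subtype.val_injective
    have heq : R = (S₀ : Subgroup _) := S₀.is_maximal' hR (by
      rw [hS₀]; exact fun c hc => hS ⟨c, hc, rfl⟩)
    exact ⟨⟨s, Subgroup.mem_centralizer_singleton_iff.2 hsd.eq⟩, by rw [← hS₀, ← heq]; exact hs, rfl⟩
  have hR0St : R0 ≤ St := fun n hn => (hstab n).2 (Subgroup.mem_centralizer_singleton_iff.1 ((T.S0G_le P hω).2 hn))
  obtain ⟨t, htS, ht⟩ : ∃ t ∈ S, ¬ Commute t T.d := by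
    by_contra! h
    have h1 : St.index ∣ S'.index := Subgroup.index_dvd_of_le fun n hn => (hstab n).2 (h n.1 hn)
    have h2 : S'.index ∣ (S : Subgroup Q).index := Subgroup.relIndex_dvd_index_of_le hSN
    rw [h22] at h1
    exact S.not_dvd_index ((dvd_trans (by norm_num) (h1.trans h2)))
  -- it has index two
  have hidx : R0.index ∣ 22 * (T.D.S0 P ω hω).index := by
    rw [← Subgroup.relIndex_mul_index hR0St, h22, mul_comm 22]
    refine Nat.mul_dvd_mul_right ?_ 22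
    let ψ : St →* Subgroup.centralizer ({T.d} : Set Q) :=
      { toFun := fun n => ⟨(n.1 : Q), Subgroup.mem_centralizer_singleton_iff.2 ((hstab n.1).1 n.2).eq⟩
        map_one' := rfl
        map_mul' := fun _ _ => rfl }
    have e : R0.subgroupOf St = ((T.D.S0 P ω hω).comap ψ) := by
      ext n
      constructor
      · rintro ⟨c, hc, e⟩
        show ψ n ∈ T.D.S0 P ω hω
        rwa [show ψ n = c from Subtype.ext e.symm]
      · intro h
        exact ⟨ψ n, h, rfl⟩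
    show (R0.subgroupOf St).index ∣ _
    rw [e, Subgroup.index_comap]
    have hA : T.D.S0 P ω hω ≤ ψ.range := fun c hc =>
      ⟨⟨⟨(c : Q), (T.S0G_le P hω).1 ⟨c, hc, rfl⟩⟩, hR0St (show _ ∈ T.S0G P hω from ⟨c, hc, rfl⟩)⟩, rfl⟩
    exact Subgroup.relIndex_dvd_index_of_le hA
  set U := (T.S0G P hω).subgroupOf (S : Subgroup Q)
  have hU2 : U.index = 2 := by
    have h1 : U.index ∣ R0.index := by
      show (T.S0G P hω).relIndex (S : Subgroup Q) ∣ (T.S0G P hω).relIndex (T.N P)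
      exact ⟨_, (Subgroup.relIndex_mul_relIndex _ _ _ hS hSN).symm⟩
    have hne : U.index ≠ 1 := fun h => ht (Subgroup.mem_centralizer_singleton_iff.1 ((T.S0G_le P hω).2
      (show t ∈ T.S0G P hω from
        (show (⟨t, htS⟩ : (S : Subgroup Q)) ∈ U by rw [Subgroup.index_eq_one.1 h]; trivial))))
    obtain ⟨k, hk⟩ := S.isPGroup'.index U
    have h3 := h1.trans hidx
    rw [hk] at h3 hne ⊢
    rcases Nat.lt_or_ge k 2 with hk2 | hk2
    · interval_cases k <;> simp_all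
    · exfalso
      obtain ⟨j, hj⟩ := Nat.exists_eq_add_of_le hk2
      obtain ⟨m, hm⟩ := hodd
      rw [hj, pow_add, hm] at h3
      have : 4 ∣ 22 * (2 * m + 1) := dvd_trans (Dvd.intro _ rfl) h3
      omega
  have hUd : ∀ s : (S : Subgroup Q), s ∈ U ↔ Commute (s : Q) T.d := fun s =>
    ⟨fun h => Subgroup.mem_centralizer_singleton_iff.1 ((T.S0G_le P hω).2 h), fun h => hSC s.1 s.2 h⟩
  let tS : (S : Subgroup Q) := ⟨t, htS⟩
  have htU : tS ∉ U := fun h => ht ((hUd tS).1 h)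
  have htiU : tS⁻¹ ∉ U := fun h => htU (by simpa using inv_mem h)
  have hout : ∀ s ∈ S, ¬ Commute s T.d → Commute (t⁻¹ * s) T.d ∧ Commute (s * t) T.d := fun s hs hsd => by
    have hsU : (⟨s, hs⟩ : (S : Subgroup Q)) ∉ U := fun h => hsd ((hUd _).1 h)
    exact ⟨(hUd (tS⁻¹ * ⟨s, hs⟩)).1 ((Subgroup.mul_mem_iff_of_index_two hU2).2 (iff_of_false htiU hsU)),
      (hUd (⟨s, hs⟩ * tS)).1 ((Subgroup.mul_mem_iff_of_index_two hU2).2 (iff_of_false hsU htU))⟩
  have hnorm : ∀ s ∈ S, Commute s T.d → Commute (t⁻¹ * s * t) T.d := by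
    intro s hs hsd
    have h1 : tS⁻¹ * ⟨s, hs⟩ ∉ U := fun h =>
      htiU (((Subgroup.mul_mem_iff_of_index_two hU2).1 h).2 ((hUd _).2 hsd))
    exact (hUd (tS⁻¹ * ⟨s, hs⟩ * tS)).1 ((Subgroup.mul_mem_iff_of_index_two hU2).2 (iff_of_false h1 htU))
  have htN : t ∈ T.N P := hSN htS
  have htd : t * T.d * t⁻¹ ∈ T.AG P := (Subgroup.mem_normalizer_iff.1 htN _).1 (T.d_mem P)
  have htp : t * T.d * t⁻¹ = T.pt P ω 1 := by
    have hfix : ∀ s ∈ T.S0G P hω, Commute s (t * T.d * t⁻¹) := fun s hs => by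
      have hsd : Commute s T.d := Subgroup.mem_centralizer_singleton_iff.1 ((T.S0G_le P hω).2 hs)
      have := hnorm s (hS hs) hsd
      show _ = _
      calc s * (t * T.d * t⁻¹) = t * ((t⁻¹ * s * t) * T.d) * t⁻¹ := by group
        _ = t * (T.d * (t⁻¹ * s * t)) * t⁻¹ := by rw [this.eq]
        _ = _ := by group
    have hconj : IsConj T.d (t * T.d * t⁻¹) := isConj_iff.2 ⟨t, rfl⟩
    rcases T.fixed_points P hω htd hfix with e | e | e | e
    · rw [e] at hconj; exact absurd (isConj_one_left.1 hconj) T.d_ne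
    · exact absurd (mul_inv_eq_iff_eq_mul.1 e) ht
    · exact e
    · exfalso
      have ho : T.Over P ω 1 (T.d * T.pt P ω 1) := by
        have := (T.pt_over P (ω := ω) 0).mul (T.pt_over P 1)
        rw [T.pt_zero] at this
        simpa using this
      rw [e] at hconj
      have h2 := ((T.conj_iff P hω (by norm_num) ho).1 hconj).2
      exact T.d_ne (mul_eq_right.1 h2)
  refine ⟨S, hAS, hSN, hS, t, htS, htp, ?_, hnorm, hout⟩
  have h2 : Commute (t * t) T.d := (hout t htS ht).2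
  calc t * T.pt P ω 1 * t⁻¹ = t * t * T.d * (t * t)⁻¹ := by rw [← htp]; group
    _ = T.d := by rw [h2.eq, mul_inv_cancel_right]

variable {C G : Type*} [Group C] [Finite C] [Group G] [Finite G] (W : Dbl hF Q C G)

/-- The chosen element over the involution is central in the preimage of its centraliser. -/
theorem Dbl.central_lift {a : C} (ha : Commute (W.π a) W.T.d) : Commute a (W.s W.T.d) := by
  set w := W.s W.T.d
  set H := (Subgroup.centralizer ({W.T.d} : Set Q)).comap W.π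
  have hmem : ∀ a ∈ H, a * w * a⁻¹ * w⁻¹ = 1 ∨ a * w * a⁻¹ * w⁻¹ = W.z := fun a ha => by
    refine (W.ker _).1 ?_
    rw [map_mul, map_mul, map_mul, map_inv, map_inv, W.π_s, Subgroup.mem_centralizer_singleton_iff.1 ha]
    group
  let ρ : H →* ↥(Subgroup.centralizer ({W.T.d} : Set Q)) :=
    { toFun := fun y => ⟨W.π y.1, y.2⟩
      map_one' := Subtype.ext (map_one W.π)
      map_mul' := fun a b => Subtype.ext (map_mul W.π _ _) }
  have hρ : Function.Surjective ρ := fun c => by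
    obtain ⟨y, hy⟩ := W.surj c.1
    exact ⟨⟨y, show W.π y ∈ _ from hy ▸ c.2⟩, Subtype.ext hy⟩
  have hc : ∀ a ∈ H, w * a * w⁻¹ = (a * w * a⁻¹ * w⁻¹)⁻¹ * a ∧
      ∀ y, (a * w * a⁻¹ * w⁻¹)⁻¹ * y = y * (a * w * a⁻¹ * w⁻¹)⁻¹ := fun a ha => by
    refine ⟨by group, fun y => ?_⟩
    rcases hmem a ha with e | e <;> rw [e]
    · simp
    · rw [inv_eq_of_mul_eq_one_left W.z_sq]; exact W.central y
  have hle : (commutator H).map H.subtype ≤ Subgroup.centralizer {w} := by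
    rw [Subgroup.map_le_iff_le_comap, commutator_def, Subgroup.commutator_le]
    intro x _ y _
    show _ ∈ Subgroup.centralizer {w}
    rw [Subgroup.mem_centralizer_singleton_iff, map_commutatorElement, commutatorElement_def]
    exact (commute_comm (hc x.1 x.2).1 (hc y.1 y.2).1 (hc x.1 x.2).2 (hc y.1 y.2).2).eq.symm
  have hmap : (commutator H).map ρ = ⊤ := by
    rw [commutator_def, Subgroup.map_commutator, ← MonoidHom.range_eq_map, MonoidHom.range_eq_top.2 hρ,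
      ← commutator_def, W.T.perfect.commutator_eq_top]
  obtain ⟨b, hb, hba⟩ : ρ ⟨a, Subgroup.mem_centralizer_singleton_iff.2 ha.eq⟩ ∈ (commutator H).map ρ := by
    rw [hmap]; trivial
  have hbw : Commute (b : C) w := Subgroup.mem_centralizer_singleton_iff.1 (hle ⟨b, hb, rfl⟩)
  rcases W.eq_or (x := a) (y := (b : C)) (congrArg Subtype.val hba).symm with rfl | rfl
  · exact hbw
  · exact hbw.mul_left (W.central w)

/-- A Sylow 2-subgroup of the cover with a central element over a product of two conjugates. -/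
structure Dbl.Swap (hω : ω ^ 2 + ω + 1 = 0) where
  /-- the Sylow subgroup of the quotient -/
  S : Sylow 2 Q
  /-- the Sylow subgroup of the cover -/
  R : Sylow 2 C
  hR : ∀ x, x ∈ R ↔ W.π x ∈ S
  hAS : W.T.AG P ≤ S
  hS0 : W.T.S0G P hω ≤ S
  hSN : (S : Subgroup Q) ≤ W.T.N P
  /-- the interchanging element -/
  t : C
  ht : t ∈ R
  htd : W.π t * W.T.d * (W.π t)⁻¹ = W.T.pt P ω 1
  htp : W.π t * W.T.pt P ω 1 * (W.π t)⁻¹ = W.T.d
  swap : ∀ s ∈ R,
    (s * W.s W.T.d * s⁻¹ = W.s W.T.d ∧ s * (t * W.s W.T.d * t⁻¹) * s⁻¹ = t * W.s W.T.d * t⁻¹) ∨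
      (s * W.s W.T.d * s⁻¹ = t * W.s W.T.d * t⁻¹ ∧ s * (t * W.s W.T.d * t⁻¹) * s⁻¹ = W.s W.T.d)

theorem Dbl.nonempty_swap (hω : ω ^ 2 + ω + 1 = 0) : Nonempty (W.Swap P hω) := by
  have : Fact (Nat.Prime 2) := ⟨Nat.prime_two⟩
  obtain ⟨S, hAS, hSN, hS0, t, htS, htd, htp, hnorm, hout⟩ := W.T.exists_swap P hω
  have hker : IsPGroup 2 W.π.ker := fun ⟨y, hy⟩ => ⟨1, Subtype.ext (by
    show y ^ (2 ^ 1) = 1
    rcases (W.ker y).1 hy with rfl | rfl
    · exact one_pow _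
    · rw [pow_one, pow_two, W.z_sq])⟩
  obtain ⟨R, hR⟩ := (S.isPGroup'.comap_of_ker_isPGroup W.π hker).exists_le_sylow
  have hRS : ∀ x, x ∈ R ↔ W.π x ∈ S := fun x => ⟨fun hx => by
    have := S.is_maximal' (R.isPGroup'.map W.π) fun q hq => by
      obtain ⟨y, rfl⟩ := W.surj q
      exact ⟨y, hR hq, rfl⟩
    rw [← SetLike.mem_coe, ← Sylow.coe_coe, ← this]
    exact ⟨x, hx, rfl⟩, fun hx => hR hx⟩
  obtain ⟨t', rfl⟩ := W.surj t
  refine ⟨⟨S, R, hRS, hAS, hS0, hSN, t', (hRS t').2 htS, htd, htp, fun s hs => ?_⟩⟩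
  have fix : ∀ a : C, Commute (W.π a) W.T.d → a * W.s W.T.d * a⁻¹ = W.s W.T.d := fun a ha => by
    rw [(W.central_lift ha).eq, mul_inv_cancel_right]
  have hsS := (hRS s).1 hs
  by_cases hc : Commute (W.π s) W.T.d
  · refine Or.inl ⟨fix s hc, ?_⟩
    have h := fix (t'⁻¹ * s * t') (by rw [map_mul, map_mul, map_inv]; exact hnorm _ hsS hc)
    calc s * (t' * W.s W.T.d * t'⁻¹) * s⁻¹
        = t' * ((t'⁻¹ * s * t') * W.s W.T.d * (t'⁻¹ * s * t')⁻¹) * t'⁻¹ := by group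
      _ = _ := by rw [h]
  · obtain ⟨h1, h2⟩ := hout _ hsS hc
    refine Or.inr ⟨?_, ?_⟩
    · have h := fix (t'⁻¹ * s) (by rw [map_mul, map_inv]; exact h1)
      calc s * W.s W.T.d * s⁻¹ = t' * ((t'⁻¹ * s) * W.s W.T.d * (t'⁻¹ * s)⁻¹) * t'⁻¹ := by group
        _ = _ := by rw [h]
    · have h := fix (s * t') (by rw [map_mul]; exact h2)
      calc s * (t' * W.s W.T.d * t'⁻¹) * s⁻¹ = (s * t') * W.s W.T.d * (s * t')⁻¹ := by group
        _ = _ := h

variable {W P}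

theorem Dbl.Swap.B_le {hω : ω ^ 2 + ω + 1 = 0} (K : W.Swap P hω) : W.B P ≤ K.R := fun _ hx =>
  (K.hR _).2 (K.hAS hx)

/-- The central element over a product of two conjugates. -/
noncomputable def Dbl.Swap.e {hω : ω ^ 2 + ω + 1 = 0} (K : W.Swap P hω) : C :=
  W.s W.T.d * (K.t * W.s W.T.d * K.t⁻¹)

theorem Dbl.Swap.π_p {hω : ω ^ 2 + ω + 1 = 0} (K : W.Swap P hω) :
    W.π (K.t * W.s W.T.d * K.t⁻¹) = W.T.pt P ω 1 := by
  rw [map_mul, map_mul, map_inv, W.π_s]; exact K.htd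

theorem Dbl.Swap.π_e {hω : ω ^ 2 + ω + 1 = 0} (K : W.Swap P hω) : W.π K.e = W.T.d * W.T.pt P ω 1 := by
  rw [Dbl.Swap.e, map_mul, W.π_s, K.π_p]

theorem Dbl.Swap.mem {hω : ω ^ 2 + ω + 1 = 0} (K : W.Swap P hω) :
    W.s W.T.d ∈ W.B P ∧ K.t * W.s W.T.d * K.t⁻¹ ∈ W.B P ∧ K.e ∈ W.B P := by
  have h1 : W.s W.T.d ∈ W.B P := show W.π _ ∈ W.T.AG P by rw [W.π_s]; exact W.T.d_mem P
  have h2 : K.t * W.s W.T.d * K.t⁻¹ ∈ W.B P := show W.π _ ∈ W.T.AG P by
    rw [K.π_p]; exact (W.T.pt_conj P hω (by decide)).1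
  exact ⟨h1, h2, mul_mem h1 h2⟩

theorem Dbl.Swap.e_comm {hω : ω ^ 2 + ω + 1 = 0} (K : W.Swap P hω) {s : C} (hs : s ∈ K.R) :
    s * K.e * s⁻¹ = K.e := by
  rw [show s * K.e * s⁻¹ = (s * W.s W.T.d * s⁻¹) * (s * (K.t * W.s W.T.d * K.t⁻¹) * s⁻¹) by
    unfold Dbl.Swap.e; group]
  rcases K.swap s hs with ⟨e1, e2⟩ | ⟨e1, e2⟩ <;> rw [e1, e2]
  · rfl
  · exact (W.B_comm P K.mem.2.1 K.mem.1).eq

/-- The central element is not a conjugate of the involution. -/
theorem Dbl.Swap.not_conj {hω : ω ^ 2 + ω + 1 = 0} (K : W.Swap P hω) :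
    ¬ IsConj (W.ι W.z) (W.ι K.e) := by
  classical
  intro hconj
  have : Fact (Nat.Prime 2) := ⟨Nat.prime_two⟩
  obtain ⟨g, hg⟩ := isConj_iff.1 hconj
  have hR : ∀ r ∈ K.R, Commute (g⁻¹ * W.ι r * g) (W.ι W.z) := fun r hr => by
    have h := mul_inv_eq_iff_eq_mul.1 (K.e_comm hr)
    have h' : W.ι r * (g * W.ι W.z * g⁻¹) = g * W.ι W.z * g⁻¹ * W.ι r := by
      rw [hg, ← map_mul, ← map_mul, h]
    show _ = _
    calc g⁻¹ * W.ι r * g * W.ι W.z = g⁻¹ * (W.ι r * (g * W.ι W.z * g⁻¹)) * g := by group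
      _ = g⁻¹ * (g * W.ι W.z * g⁻¹ * W.ι r) * g := by rw [h']
      _ = _ := by group
  set R' := (conjSub g⁻¹ ((K.R : Subgroup C).map W.ι)).comap W.ι
  have hmap : R'.map W.ι = conjSub g⁻¹ ((K.R : Subgroup C).map W.ι) := by
    refine le_antisymm (Subgroup.map_comap_le _ _) ?_
    rintro _ ⟨_, ⟨r, hr, rfl⟩, rfl⟩
    obtain ⟨c, hc⟩ := W.cen (g⁻¹ * W.ι r * g) (hR r hr)
    have e : (MulAut.conj g⁻¹).toMonoidHom (W.ι r) = W.ι c := by
      rw [hc]; show g⁻¹ * W.ι r * g⁻¹⁻¹ = _; rw [inv_inv]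
    exact ⟨c, ⟨_, ⟨r, hr, rfl⟩, e⟩, e.symm⟩
  have hR'p : IsPGroup 2 R' := ((K.R.isPGroup'.map W.ι).map _).comap_of_injective _ W.inj
  obtain ⟨R2, hR2⟩ := hR'p.exists_le_sylow
  have hcard : Nat.card R' = Nat.card K.R := by
    rw [← Subgroup.card_map_of_injective W.inj, hmap, conjSub,
      Subgroup.card_map_of_injective (MulAut.conj g⁻¹).injective, Subgroup.card_map_of_injective W.inj]
  have hR2eq : R' = R2 := Subgroup.eq_of_le_of_card_ge hR2 (by
    rw [hcard]; exact le_of_eq (R2.card_eq_multiplicity.trans K.R.card_eq_multiplicity.symm))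
  obtain ⟨c, hc⟩ := MulAction.exists_smul_eq C R2 K.R
  set k := W.ι c * g⁻¹ with hk
  -- `k` normalises the Sylow subgroup
  have hkR : ∀ r ∈ K.R, ∃ r' ∈ K.R, W.ι r' = k * W.ι r * k⁻¹ := by
    intro r hr
    obtain ⟨x, hx, hxe⟩ : g⁻¹ * W.ι r * g⁻¹⁻¹ ∈ R'.map W.ι := by
      rw [hmap]; exact ⟨_, ⟨r, hr, rfl⟩, rfl⟩
    refine ⟨c * x * c⁻¹, ?_, by rw [map_mul, map_mul, map_inv, hxe, hk]; group⟩
    rw [← hc]
    exact ⟨x, show x ∈ (R2 : Subgroup C) from hR2eq ▸ hx, rfl⟩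
  choose f hfR hfe using hkR
  have hfsurj : ∀ r' ∈ K.R, ∃ r hr, f r hr = r' := fun r' hr' => by
    let φ : K.R → K.R := fun r => ⟨f r.1 r.2, hfR r.1 r.2⟩
    have hinj : Function.Injective φ := fun a b e => by
      have := congrArg (fun u : K.R => W.ι u.1) e
      simp only [φ, hfe] at this
      exact Subtype.ext (W.inj (mul_left_cancel (mul_right_cancel this)))
    obtain ⟨r, hr⟩ := Finite.surjective_of_injective hinj ⟨r', hr'⟩
    exact ⟨r.1, r.2, congrArg Subtype.val hr⟩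
  have hkB : ∀ a ∈ W.B P, ∃ a' ∈ W.B P, W.ι a' = k * W.ι a * k⁻¹ := by
    intro a ha
    set E := (conjSub k (W.BG P)).comap W.ι
    have hE : E.map W.ι = conjSub k (W.BG P) := by
      refine le_antisymm (Subgroup.map_comap_le _ _) ?_
      rintro _ ⟨_, ⟨b, hb, rfl⟩, rfl⟩
      exact ⟨f b (K.B_le hb), ⟨_, ⟨b, hb, rfl⟩, (hfe b _).symm⟩, hfe b _⟩
    have hEB : E = W.B P := W.unique_in P K.R.isPGroup' K.B_le
      (isElementary_of_map _ W.inj (by rw [hE]; exact isElementary_map _ (W.BG_elem P)))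
      (fun x hx => by
        obtain ⟨_, ⟨b, hb, rfl⟩, e⟩ := hx
        rw [← W.inj ((hfe b (K.B_le hb)).trans e)]
        exact hfR b _)
      (by rw [← Subgroup.card_map_of_injective W.inj, hE, conjSub,
        Subgroup.card_map_of_injective (MulAut.conj k).injective, W.card_BG])
    have : k * W.ι a * k⁻¹ ∈ E.map W.ι := by rw [hE]; exact ⟨_, ⟨a, ha, rfl⟩, rfl⟩
    obtain ⟨a', ha', e⟩ := this
    exact ⟨a', hEB ▸ ha', e⟩
  choose h hhB hhe using hkB
  have hke : k * W.ι K.e * k⁻¹ = W.ι W.z := by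
    rw [hk, ← hg]
    calc W.ι c * g⁻¹ * (g * W.ι W.z * g⁻¹) * (W.ι c * g⁻¹)⁻¹ = W.ι c * W.ι W.z * (W.ι c)⁻¹ := by group
      _ = W.ι W.z := by rw [(W.cen_comm rfl).eq, mul_inv_cancel_right]
  -- the elements with commutators in `{1, e}` go to those with commutators in `{1, z}`
  have hfix : ∀ a, ∀ ha : a ∈ W.B P, (∀ s ∈ K.R, s * a * s⁻¹ = a ∨ s * a * s⁻¹ = a * K.e) →
      h a ha = 1 ∨ h a ha = W.z ∨ h a ha = K.e ∨ h a ha = K.e * W.z := by
    intro a ha hfa
    set b := h a ha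
    have hcomm : ∀ q ∈ K.S, Commute q (W.π b) := by
      intro q hq
      obtain ⟨s', rfl⟩ := W.surj q
      obtain ⟨s, hs, hs'⟩ := hfsurj s' ((K.hR s').2 hq)
      have h1 : W.ι (s' * b * s'⁻¹) = k * W.ι (s * a * s⁻¹) * k⁻¹ := by
        simp only [map_mul, map_inv, ← hs', hfe, b, hhe]; group
      have h2 : W.π (s' * b * s'⁻¹) = W.π b := by
        rcases hfa s hs with e | e
        · rw [e, ← hhe a ha] at h1
          rw [W.inj h1]
        · rw [e, map_mul W.ι a K.e,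
            show k * (W.ι a * W.ι K.e) * k⁻¹ = k * W.ι a * k⁻¹ * (k * W.ι K.e * k⁻¹) by group,
            hke, ← hhe a ha, ← map_mul W.ι (h a ha) W.z] at h1
          rw [W.inj h1, map_mul, W.πz, mul_one]
      rw [map_mul, map_mul, map_inv] at h2
      exact mul_inv_eq_iff_eq_mul.1 h2
    have hbA : W.π b ∈ W.T.AG P := hhB a ha
    have htS := (K.hR K.t).1 K.ht
    have hne : W.T.pt P ω 1 ≠ W.T.d := fun e => absurd
      (W.T.pt_inj P hω (by decide) (by decide) (e.trans (W.T.pt_zero P).symm)) one_ne_zero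
    rcases W.T.fixed_points P hω hbA fun s hs => hcomm s (K.hS0 hs) with e | e | e | e
    · rcases (W.ker b).1 e with r | r
      · exact Or.inl r
      · exact Or.inr (Or.inl r)
    · have := hcomm _ htS
      rw [e] at this
      exact absurd (K.htd.symm.trans (mul_inv_eq_iff_eq_mul.2 this.eq)) hne
    · have := hcomm _ htS
      rw [e] at this
      exact absurd ((mul_inv_eq_iff_eq_mul.2 this.eq).symm.trans K.htp) hne
    · rcases W.eq_or (x := b) (y := K.e) (e.trans K.π_e.symm) with r | r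
      · exact Or.inr (Or.inr (Or.inl r))
      · exact Or.inr (Or.inr (Or.inr r))
  -- five such elements
  obtain ⟨hd, hp, he⟩ := K.mem
  have hzB := W.z_mem P
  let s5 : List C := [1, W.z, K.e, K.e * W.z, W.s W.T.d]
  have hs5 : ∀ a ∈ s5, a ∈ W.B P ∧ ∀ s ∈ K.R, s * a * s⁻¹ = a ∨ s * a * s⁻¹ = a * K.e := by
    intro a ha
    simp only [s5, List.mem_cons, List.not_mem_nil, or_false] at ha
    rcases ha with rfl | rfl | rfl | rfl | rfl
    · exact ⟨one_mem _, fun s _ => Or.inl (by group)⟩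
    · exact ⟨hzB, fun s _ => Or.inl (by rw [← W.central s, mul_inv_cancel_right])⟩
    · exact ⟨he, fun s hs => Or.inl (K.e_comm hs)⟩
    · refine ⟨mul_mem he hzB, fun s hs => Or.inl ?_⟩
      rw [show s * (K.e * W.z) * s⁻¹ = s * K.e * (W.z * s⁻¹) by group, W.central s⁻¹, ← mul_assoc, K.e_comm hs]
    · refine ⟨hd, fun s hs => ?_⟩
      rcases K.swap s hs with ⟨e, -⟩ | ⟨e, -⟩
      · exact Or.inl e
      · refine Or.inr (e.trans ?_)
        rw [Dbl.Swap.e, ← mul_assoc, W.B_sq P hd, one_mul]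
  have hπne : W.T.d * W.T.pt P ω 1 ≠ 1 := fun e => by
    have : W.T.pt P ω 1 = W.T.d := mul_left_cancel (e.trans W.T.d_sq.symm)
    exact absurd (W.T.pt_inj P hω (by decide) (by decide) (this.trans (W.T.pt_zero P).symm)) one_ne_zero
  have hnd : s5.Nodup := by
    have e1 : W.π K.e ≠ 1 := by rw [K.π_e]; exact hπne
    have e2 : W.π (W.s W.T.d) ≠ 1 := by rw [W.π_s]; exact W.T.d_ne
    have e3 : W.π (W.s W.T.d) ≠ W.π K.e := by
      rw [W.π_s, K.π_e]
      intro h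
      have : W.T.pt P ω 1 = 1 := mul_eq_left.1 h.symm
      have hc := (W.T.pt_conj P hω (n := 1) (by decide)).2
      rw [this] at hc
      exact W.T.d_ne (isConj_one_left.1 hc)
    simp only [s5, List.nodup_cons, List.mem_cons, List.not_mem_nil, or_false, List.nodup_nil, and_true, not_or,
      not_false_eq_true]
    refine ⟨⟨W.z_ne.symm, ?_, ?_, ?_⟩, ⟨?_, ?_, ?_⟩, ⟨?_, ?_⟩, ?_⟩ <;> intro h <;>
      have h' := congrArg W.π h <;> (try simp only [map_one, map_mul, W.πz, mul_one] at h')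
    · exact e1 h'.symm
    · exact e1 h'.symm
    · exact e2 h'.symm
    · exact e1 h'.symm
    · exact e1 h'.symm
    · exact e2 h'.symm
    · exact W.z_ne (mul_left_cancel (h.symm.trans (mul_one _).symm))
    · exact e3 h'.symm
    · exact e3 h'.symm
  let u : Fin 5 → C := fun i => h s5[i.1] (hs5 _ (List.getElem_mem i.2)).1
  have hu : Function.Injective u := by
    intro i j hij
    have hi := hs5 s5[i.1] (List.getElem_mem i.2)
    have hj := hs5 s5[j.1] (List.getElem_mem j.2)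
    have h2 : k * W.ι s5[i.1] * k⁻¹ = k * W.ι s5[j.1] * k⁻¹ := by
      rw [← hhe _ hi.1, ← hhe _ hj.1]
      exact congrArg W.ι hij
    exact Fin.ext ((List.Nodup.getElem_inj_iff hnd).1 (W.inj (mul_left_cancel (mul_right_cancel h2))))
  have hle := Finset.card_le_card_of_injOn (s := (Finset.univ : Finset (Fin 5)))
    (t := {1, W.z, K.e, K.e * W.z}) u (fun i _ => by
      have hi := hs5 s5[i.1] (List.getElem_mem i.2)
      simp only [Finset.mem_coe, Finset.mem_insert, Finset.mem_singleton]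
      exact hfix _ hi.1 hi.2) hu.injOn
  have h4 : ({1, W.z, K.e, K.e * W.z} : Finset C).card ≤ 4 := Finset.card_le_four
  rw [Finset.card_univ, Fintype.card_fin] at hle
  omega

variable (W P)

theorem Dbl.not_222 (hω : ω ^ 2 + ω + 1 = 0) (hv : W.num P ω = (1, 2, 2, 2)) : False := by
  obtain ⟨K⟩ := W.nonempty_swap P hω
  apply K.not_conj
  have h : W.cntF W.chi (W.π K.e) = 2 := by
    rw [K.π_e]; show (W.num P ω).2.2.1 = 2; rw [hv]
  rw [W.cntF_π] at h
  have := W.chi_le (W.ι K.e)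
  have := W.chi_le (W.ι (K.e * W.z))
  exact W.chi_eq_one.1 (by omega)

end CfsgLib.U6Cover
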