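import Cfsg.Agent.Lib.U6Cover.Parity

/-!
The normaliser of the subgroup of order `2 ^ 10` has four orbits on it: the identity, the 22 conjugates, the
products of two and the products of three of them; sums of invariant functions are computed from the four
values.
-/

set_option autoImplicit false
set_option linter.unusedSectionVars false

namespace CfsgLib.U6Cover

/-- The coordinates of the conjugates, listed. -/
def list22 : List ℕ :=
  [0, 1, 2, 4, 8, 16, 27, 32, 64, 101, 128, 175, 215, 249, 256, 316, 335, 370, 390, 433, 474, 492]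

theorem list22_ok : (below 512 fun n => cond (code22 n) (list22.elem n) (!list22.elem n)) = true := by
  decide +kernel

theorem pair_root_ok : (list22.all fun p => list22.all fun q =>
    Nat.beq p 0 || Nat.beq q 0 || Nat.beq p q || Nat.beq (root4 (p ^^^ q)) 3) = true := by decide +kernel

theorem pair_three_ok : (list22.all fun p => list22.all fun q =>
    Nat.beq p 0 || Nat.beq q 0 || !Nat.beq (p ^^^ q) 3 || (Nat.beq p 1 && Nat.beq q 2) ||
      (Nat.beq p 2 && Nat.beq q 1)) = true := by decide +kernel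

/-- The coordinate of an index. -/
def idx22 (i : ℕ) : ℕ := list22.getD i 0

/-- The number of triples of distinct indices with a given sum. -/
def triCount (k : ℕ) : ℕ := countBelow 10648 fun t =>
  !Nat.beq (t % 22) (t / 22 % 22) && !Nat.beq (t % 22) (t / 484) && !Nat.beq (t / 22 % 22) (t / 484) &&
    Nat.beq (idx22 (t % 22) ^^^ idx22 (t / 22 % 22) ^^^ idx22 (t / 484)) k

theorem triCount_one : triCount 1 = 0 := by decide +kernel

theorem triCount_three : triCount 3 = 12 := by decide +kernel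

theorem triCount_seven : triCount 7 = 24 := by decide +kernel

/-- One of four values. -/
def pick (v : ℕ × ℕ × ℕ × ℕ) : ℕ → ℕ
  | 0 => v.1
  | 1 => v.2.1
  | 2 => v.2.2.1
  | _ => v.2.2.2

/-- The classes of the two elements over a coordinate. -/
def cls (n : ℕ) : ℕ × ℕ :=
  bif Nat.beq n 0 then (0, 1) else bif Nat.beq (rank4 n) 1 then (1, 2)
    else bif Nat.beq (rank4 n) 2 then (2, 3) else (3, 3)

/-- The total over a coordinate. -/
def totV (v : ℕ × ℕ × ℕ × ℕ) (n : ℕ) : ℕ := pick v (cls n).1 + pick v (cls n).2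

/-- The sum of the products over a coordinate. -/
def dotV (v w : ℕ × ℕ × ℕ × ℕ) (n : ℕ) : ℕ :=
  pick v (cls n).1 * pick w (cls n).1 + pick v (cls n).2 * pick w (cls n).2

/-- The sum of the crossed products over a coordinate. -/
def crossV (v w : ℕ × ℕ × ℕ × ℕ) (n : ℕ) : ℕ :=
  pick v (cls n).1 * pick w (cls n).2 + pick v (cls n).2 * pick w (cls n).1

/-- A sum over the coordinates. -/
def sumBelow (N : ℕ) (f : ℕ → ℕ) : ℕ := (List.range N).foldl (fun s h => s + f h) 0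

theorem sumBelow_eq (N : ℕ) (f : ℕ → ℕ) : sumBelow N f = ∑ n ∈ Finset.range N, f n := by
  unfold sumBelow
  induction N with
  | zero => rfl
  | succ N ih => rw [List.range_succ, List.foldl_append, Finset.sum_range_succ, ← ih]; rfl

/-- The four values of a convolution. -/
def conv4 (v w : ℕ × ℕ × ℕ × ℕ) : ℕ × ℕ × ℕ × ℕ :=
  let c1 := sumBelow 512 (crossV v w)
  let c2 := sumBelow 512 (fun n => totV v n * totV w (n ^^^ 1)) - c1
  (sumBelow 512 (dotV v w), c1, c2, sumBelow 512 (fun n => totV v n * totV w (n ^^^ 3)) - c2)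

variable {F : Type*} [Field F] [Fintype F] {hF : Fintype.card F = 2 ^ 2} {G : Type*} [Group G] [Finite G]

variable (T : Ctx hF G) (P : Fr hF)

/-- An element of `A` over a coordinate. -/
def Ctx.Over (ω : F) (n : ℕ) (x : G) : Prop := x = T.av P ω n ∨ x = T.av P ω n * T.d

/-- The conjugate over a coordinate. -/
noncomputable def Ctx.pt (ω : F) (n : ℕ) : G := by
  classical exact if IsConj T.d (T.av P ω n) then T.av P ω n else T.av P ω n * T.d

/-- Conjugate under the normaliser. -/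
def Ctx.Orb (x y : G) : Prop := ∃ g ∈ T.N P, g * x * g⁻¹ = y

variable {T P} {ω : F}

theorem Ctx.Over.mul {n m : ℕ} {x y : G} (hx : T.Over P ω n x) (hy : T.Over P ω m y) :
    T.Over P ω (n ^^^ m) (x * y) := by
  have hc : T.d * T.av P ω m = T.av P ω m * T.d := (T.av_comm P ω m).eq.symm
  rcases hx with rfl | rfl <;> rcases hy with rfl | rfl <;> rw [Ctx.Over, T.av_xor]
  · exact Or.inl rfl
  · exact Or.inr (mul_assoc _ _ _).symm
  · exact Or.inr (by rw [mul_assoc, hc, mul_assoc])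
  · exact Or.inl (by rw [mul_assoc (T.av P ω n), ← mul_assoc T.d, hc, mul_assoc, T.d_sq, mul_one])

theorem Ctx.Over.unique (hω : ω ^ 2 + ω + 1 = 0) {n m : ℕ} (hn : n < 512) (hm : m < 512) {x : G}
    (h : T.Over P ω n x) (h' : T.Over P ω m x) : n = m := by
  obtain ⟨-, hinj, -⟩ := T.elv_spec P hω
  have key : ∀ k, ∀ hk : k < 512, T.Over P ω k x → ∃ b, T.elv P ω (⟨k, hk⟩, b) = x := by
    intro k hk h
    rcases h with rfl | rfl
    · exact ⟨false, T.elv_false P ω _⟩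
    · exact ⟨true, T.elv_true P ω _⟩
  obtain ⟨b, hb⟩ := key n hn h
  obtain ⟨b', hb'⟩ := key m hm h'
  exact congrArg Fin.val (Prod.mk.inj (hinj (hb.trans hb'.symm))).1

theorem Ctx.Orb.symm {x y : G} (h : T.Orb P x y) : T.Orb P y x := by
  obtain ⟨g, hg, rfl⟩ := h
  exact ⟨g⁻¹, inv_mem hg, by group⟩

theorem Ctx.Orb.trans {x y z : G} (h : T.Orb P x y) (h' : T.Orb P y z) : T.Orb P x z := by
  obtain ⟨g, hg, rfl⟩ := h
  obtain ⟨g', hg', rfl⟩ := h'
  exact ⟨g' * g, mul_mem hg' hg, by group⟩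

variable (T P)

theorem Ctx.av_mem (hω : ω ^ 2 + ω + 1 = 0) (n : ℕ) : T.av P ω n ∈ T.AG P := ⟨_, T.D.au_mem P hω n, rfl⟩

theorem Ctx.exists_over (hω : ω ^ 2 + ω + 1 = 0) {x : G} (hx : x ∈ T.AG P) :
    ∃ n < 512, T.Over P ω n x := by
  obtain ⟨⟨n, b⟩, rfl⟩ := (T.elv_spec P hω).2.2 x hx
  refine ⟨n, n.2, ?_⟩
  cases b
  · exact Or.inl (T.elv_false P ω n)
  · exact Or.inr (T.elv_true P ω n)

theorem Ctx.pt_over (n : ℕ) : T.Over P ω n (T.pt P ω n) := by
  unfold Ctx.pt; split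
  · exact Or.inl rfl
  · exact Or.inr rfl

theorem Ctx.over_mem (hω : ω ^ 2 + ω + 1 = 0) {n : ℕ} {x : G} (h : T.Over P ω n x) : x ∈ T.AG P := by
  rcases h with rfl | rfl
  · exact T.av_mem P hω n
  · exact mul_mem (T.av_mem P hω n) (T.d_mem P)

theorem Ctx.pt_zero : T.pt P ω 0 = T.d := by
  have : ¬ IsConj T.d (T.av P ω 0) := by
    rw [T.av_zero]; exact fun h => T.d_ne (isConj_one_left.1 h)
  rw [Ctx.pt, if_neg this, T.av_zero, one_mul]

theorem sel_code22 {n : ℕ} : sel 1 0 0 n = bif code22 n then 1 else 0 := by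
  unfold sel code22
  cases Nat.beq n 0 <;> cases Nat.beq (rank4 n) 1 <;> simp

theorem Ctx.conj_iff (hω : ω ^ 2 + ω + 1 = 0) {n : ℕ} (hn : n < 512) {x : G} (h : T.Over P ω n x) :
    IsConj T.d x ↔ code22 n = true ∧ x = T.pt P ω n := by
  have hc := T.cnt_eq P hω n hn
  rw [sel_code22] at hc
  unfold Ctx.cnt at hc
  constructor
  · intro hx
    cases hcode : code22 n
    · exfalso
      rw [hcode, cond_false] at hc
      rcases h with rfl | rfl <;> have := T.chi_eq_one.2 hx <;> omega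
    · refine ⟨rfl, ?_⟩
      rw [hcode, cond_true] at hc
      unfold Ctx.pt
      rcases h with rfl | rfl
      · rw [if_pos hx]
      · rw [if_neg fun h' => ?_]
        have := T.chi_eq_one.2 hx; have := T.chi_eq_one.2 h'; omega
  · rintro ⟨hcode, rfl⟩
    rw [hcode, cond_true] at hc
    unfold Ctx.pt
    split
    · assumption
    · rename_i hne
      have := T.chi_eq_zero.2 hne
      exact T.chi_eq_one.1 (by omega)

theorem list22_spec {n : ℕ} (hn : n < 512) : code22 n = true ↔ n ∈ list22 := by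
  have h := below_spec list22_ok hn
  cases hc : code22 n <;> rw [hc] at h
  · simp only [cond_false, Bool.not_eq_true'] at h
    simp only [Bool.false_eq_true, false_iff]
    exact fun hm => by rw [List.elem_eq_mem, decide_eq_false_iff_not] at h; exact h hm
  · simp only [cond_true, List.elem_eq_mem, decide_eq_true_eq] at h
    simp [h]

theorem list22_lt : ∀ n ∈ list22, n < 512 := by decide +kernel

theorem Ctx.pt_conj (hω : ω ^ 2 + ω + 1 = 0) {n : ℕ} (hn : n ∈ list22) :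
    T.pt P ω n ∈ T.AG P ∧ IsConj T.d (T.pt P ω n) :=
  ⟨T.over_mem P hω (T.pt_over P n),
    (T.conj_iff P hω (list22_lt n hn) (T.pt_over P n)).2 ⟨(list22_spec (list22_lt n hn)).2 hn, rfl⟩⟩

theorem Ctx.exists_pt (hω : ω ^ 2 + ω + 1 = 0) {x : G} (hx : x ∈ T.AG P) (hd : IsConj T.d x) :
    ∃ n ∈ list22, x = T.pt P ω n ∧ (x ≠ T.d → n ≠ 0) := by
  obtain ⟨n, hn, h⟩ := T.exists_over P hω hx
  obtain ⟨hc, he⟩ := (T.conj_iff P hω hn h).1 hd
  exact ⟨n, (list22_spec hn).1 hc, he, fun hne h0 => hne (by rw [he, h0, T.pt_zero])⟩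

theorem Ctx.pt_inj (hω : ω ^ 2 + ω + 1 = 0) {n m : ℕ} (hn : n ∈ list22) (hm : m ∈ list22)
    (h : T.pt P ω n = T.pt P ω m) : n = m :=
  (T.pt_over P n).unique hω (list22_lt n hn) (list22_lt m hm) (h ▸ T.pt_over P m)

/-- A generator acts on the coordinates. -/
theorem Ctx.over_gen (hω : ω ^ 2 + ω + 1 = 0) {g : ℕ} (hg : g < 6) :
    ∃ c ∈ T.N P, Commute c T.d ∧ ∀ n x, T.Over P ω n x → T.Over P ω (genAct g n) (c * x * c⁻¹) := by
  obtain ⟨c, hc, hL⟩ := exists_genAct T.D P hω g hg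
  have hcd : Commute (c : G) T.d := Subgroup.mem_centralizer_singleton_iff.1 c.2
  refine ⟨c, T.coe_mem_N P hc, hcd, fun n x hx => ?_⟩
  have h1 : T.Over P ω (genAct g n) ((c : G) * T.av P ω n * (c : G)⁻¹) := by
    rcases (T.D.L_au P ω (genAct g n)).eq_or (hL n) with e | e
    · exact Or.inl (congrArg Subtype.val e)
    · refine Or.inr ((congrArg Subtype.val e).trans ?_)
      show (T.D.au P ω (genAct g n) : G) * (T.D.z : G) = _
      rw [T.hz]; rfl
  rcases hx with rfl | rfl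
  · exact h1
  · have h2 := h1.mul (m := 0) (y := T.d) (Or.inr (by rw [T.av_zero, one_mul]))
    rw [Nat.xor_zero] at h2
    convert h2 using 1
    calc (c : G) * (T.av P ω n * T.d) * (c : G)⁻¹ = (c : G) * T.av P ω n * (T.d * (c : G)⁻¹) := by group
      _ = (c : G) * T.av P ω n * ((c : G)⁻¹ * T.d) := by rw [hcd.inv_left.eq]
      _ = _ := by group

/-- The centraliser in the normaliser reaches each coordinate from its root. -/
theorem Ctx.reach (hω : ω ^ 2 + ω + 1 = 0) {n : ℕ} (hn : n < 512) (hn0 : n ≠ 0) :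
    ∃ m ∈ T.N P, Commute m T.d ∧ T.Over P ω n (m * T.av P ω (root4 n) * m⁻¹) := by
  let f : ℕ → Prop := fun k => ∃ m ∈ T.N P, Commute m T.d ∧ T.Over P ω k (m * T.av P ω (root4 n) * m⁻¹)
  have hf : ∀ g < 6, ∀ k < 512, f (genAct g k) = f k := by
    intro g hg k hk
    obtain ⟨c, hc, hcd, hco⟩ := T.over_gen P hω hg
    refine propext ⟨fun ⟨m, hm, hmd, ho⟩ => ⟨c⁻¹ * m, mul_mem (inv_mem hc) hm, hcd.inv_left.mul_left hmd, ?_⟩,
      fun ⟨m, hm, hmd, ho⟩ => ⟨c * m, mul_mem hc hm, hcd.mul_left hmd, ?_⟩⟩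
    · rw [show c⁻¹ * m * T.av P ω (root4 n) * (c⁻¹ * m)⁻¹ = c⁻¹ * (m * T.av P ω (root4 n) * m⁻¹) * c by group]
      have h1 := hco k _ (Or.inl rfl)
      have h2 := hco k (T.av P ω k * T.d) (Or.inr rfl)
      have hne : c * T.av P ω k * c⁻¹ ≠ c * (T.av P ω k * T.d) * c⁻¹ := fun e =>
        T.d_ne (mul_left_cancel ((mul_left_cancel (mul_right_cancel e)).symm.trans (mul_one _).symm))
      generalize m * T.av P ω (root4 n) * m⁻¹ = y at ho
      have : y = c * T.av P ω k * c⁻¹ ∨ y = c * (T.av P ω k * T.d) * c⁻¹ := by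
        rcases h1 with e1 | e1 <;> rcases h2 with e2 | e2 <;> rcases ho with e | e <;>
          first
            | exact Or.inl (e.trans e1.symm)
            | exact Or.inr (e.trans e2.symm)
            | exact absurd (e1.trans e2.symm) hne
      rcases this with rfl | rfl
      · exact Or.inl (by group)
      · exact Or.inr (by group)
    · rw [show c * m * T.av P ω (root4 n) * (c * m)⁻¹ = c * (m * T.av P ω (root4 n) * m⁻¹) * c⁻¹ by group]
      exact hco k _ ho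
  obtain ⟨hr, hroot⟩ := root_invariant f hf hn hn0
  show f n
  rw [hr]
  exact ⟨1, one_mem _, Commute.one_left _, Or.inl (by group)⟩

theorem Ctx.orb_two (hω : ω ^ 2 + ω + 1 = 0) {x y : G} (hx : x ∈ T.AG P) (hxd : IsConj T.d x)
    (hy : y ∈ T.AG P) (hyd : IsConj T.d y) (hne : x ≠ y) : T.Orb P (T.d * T.pt P ω 1) (x * y) := by
  obtain ⟨n, hn, rfl⟩ := T.exists_normalizer P hx hxd
  obtain ⟨hp, hpd⟩ := T.pt_conj P hω (n := 1) (by decide)
  have hy' : n⁻¹ * y * n ∈ T.AG P := (Subgroup.mem_normalizer_iff''.1 hn y).1 hy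
  have hp1 : T.pt P ω 1 ≠ T.d := fun e => by
    rw [← T.pt_zero P (ω := ω)] at e
    exact absurd (T.pt_inj P hω (by decide) (by decide) e) one_ne_zero
  obtain ⟨c, hc⟩ := T.exists_move P (x := ⟨_, hp, hpd⟩)
    (y := ⟨_, hy', hyd.trans (isConj_iff.2 ⟨n⁻¹, by rw [inv_inv]⟩)⟩) hp1
    (fun e => hne (by rw [← e]; group))
  have hc' : (c.1 : G) * T.pt P ω 1 * (c.1 : G)⁻¹ = n⁻¹ * y * n := congrArg Subtype.val hc
  have hcd := Subgroup.mem_centralizer_singleton_iff.1 c.1.2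
  refine ⟨n * c.1, mul_mem hn (T.coe_mem_N P c.2), ?_⟩
  calc n * (c.1 : G) * (T.d * T.pt P ω 1) * (n * (c.1 : G))⁻¹
      = n * ((c.1 : G) * T.d) * T.pt P ω 1 * (c.1 : G)⁻¹ * n⁻¹ := by group
    _ = n * T.d * ((c.1 : G) * T.pt P ω 1 * (c.1 : G)⁻¹) * n⁻¹ := by rw [hcd]; group
    _ = _ := by rw [hc']; group

theorem Ctx.orb_three (hω : ω ^ 2 + ω + 1 = 0) {x y w : G} (hx : x ∈ T.AG P) (hxd : IsConj T.d x)
    (hy : y ∈ T.AG P) (hyd : IsConj T.d y) (hw : w ∈ T.AG P) (hwd : IsConj T.d w) (h1 : x ≠ y) (h2 : x ≠ w)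
    (h3 : y ≠ w) : T.Orb P (T.d * T.pt P ω 1 * T.pt P ω 2) (x * y * w) := by
  obtain ⟨n, hn, rfl⟩ := T.exists_normalizer P hx hxd
  have mv : ∀ y, y ∈ T.AG P → IsConj T.d y → n * T.d * n⁻¹ ≠ y → ∀ m ∈ T.N P, Commute m T.d →
      ∃ p ∈ list22, p ≠ 0 ∧ m⁻¹ * (n⁻¹ * y * n) * m = T.pt P ω p := by
    intro y hy hyd hne m hm hmd
    have h : (n * m)⁻¹ * y * (n * m) ∈ T.AG P := (Subgroup.mem_normalizer_iff''.1 (mul_mem hn hm) y).1 hy
    obtain ⟨p, hp, hpe, hp0⟩ := T.exists_pt P hω h (hyd.trans (isConj_iff.2 ⟨(n * m)⁻¹, by rw [inv_inv]⟩))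
    refine ⟨p, hp, hp0 fun e => hne ?_, by rw [← hpe]; group⟩
    calc n * T.d * n⁻¹ = n * (T.d * m * m⁻¹) * n⁻¹ := by group
      _ = n * (m * T.d * m⁻¹) * n⁻¹ := by rw [hmd.eq]
      _ = n * (m * ((n * m)⁻¹ * y * (n * m)) * m⁻¹) * n⁻¹ := by rw [e]
      _ = y := by group
  obtain ⟨p, hp, hp0, hpe⟩ := mv y hy hyd h1 1 (one_mem _) (Commute.one_left _)
  obtain ⟨q, hq, hq0, hqe⟩ := mv w hw hwd h2 1 (one_mem _) (Commute.one_left _)
  simp only [inv_one, one_mul, mul_one] at hpe hqe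
  have hpq : p ≠ q := fun e => h3 (by
    have : n⁻¹ * y * n = n⁻¹ * w * n := by rw [hpe, hqe, e]
    exact mul_left_cancel (mul_right_cancel this))
  have hk : root4 (p ^^^ q) = 3 := by
    have h := List.all_eq_true.1 (List.all_eq_true.1 pair_root_ok p hp) q hq
    simp only [Bool.or_eq_true] at h
    rcases h with ((h | h) | h) | h
    · exact absurd (Nat.eq_of_beq_eq_true h) hp0
    · exact absurd (Nat.eq_of_beq_eq_true h) hq0
    · exact absurd (Nat.eq_of_beq_eq_true h) hpq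
    · exact Nat.eq_of_beq_eq_true h
  have hklt : p ^^^ q < 512 := Nat.xor_lt_two_pow (n := 9) (list22_lt p hp) (list22_lt q hq)
  obtain ⟨m, hm, hmd, ho⟩ := T.reach P hω hklt (fun h => hpq (Nat.xor_eq_zero_iff.1 h))
  rw [hk] at ho
  obtain ⟨a, ha, ha0, hae⟩ := mv y hy hyd h1 m hm hmd
  obtain ⟨b, hb, hb0, hbe⟩ := mv w hw hwd h2 m hm hmd
  have hab : a ^^^ b = 3 := by
    have e1 : T.Over P ω (p ^^^ q) (m * (T.pt P ω a * T.pt P ω b) * m⁻¹) := by
      rw [show m * (T.pt P ω a * T.pt P ω b) * m⁻¹ = (n⁻¹ * y * n) * (n⁻¹ * w * n) by rw [← hae, ← hbe]; group]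
      rw [hpe, hqe]
      exact (T.pt_over P p).mul (T.pt_over P q)
    have e2 : T.Over P ω 3 (T.pt P ω a * T.pt P ω b) := by
      have key : ∀ v, T.Over P ω (p ^^^ q) v → T.Over P ω 3 (m⁻¹ * v * m) := by
        intro v hv
        have hmd' : Commute m⁻¹ T.d := hmd.inv_left
        rcases ho with e | e <;> rcases hv with rfl | rfl
        · exact Or.inl (by rw [← e]; group)
        · refine Or.inr ?_
          rw [← e, show m⁻¹ * (m * T.av P ω 3 * m⁻¹ * T.d) * m = T.av P ω 3 * (m⁻¹ * T.d * m) by group, hmd'.eq]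
          group
        · refine Or.inr ?_
          have : T.av P ω (p ^^^ q) = m * T.av P ω 3 * m⁻¹ * T.d := by rw [e, mul_assoc, T.d_sq, mul_one]
          rw [this, show m⁻¹ * (m * T.av P ω 3 * m⁻¹ * T.d) * m = T.av P ω 3 * (m⁻¹ * T.d * m) by group, hmd'.eq]
          group
        · exact Or.inl (by rw [← e]; group)
      have := key _ e1
      rwa [show m⁻¹ * (m * (T.pt P ω a * T.pt P ω b) * m⁻¹) * m = T.pt P ω a * T.pt P ω b by group] at this
    exact ((T.pt_over P a).mul (T.pt_over P b)).unique hω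
      (Nat.xor_lt_two_pow (n := 9) (list22_lt a ha) (list22_lt b hb)) (by norm_num) e2
  have h := List.all_eq_true.1 (List.all_eq_true.1 pair_three_ok a ha) b hb
  simp only [Bool.or_eq_true, Bool.and_eq_true, Bool.not_eq_true'] at h
  have hcomm : Commute (T.pt P ω 1) (T.pt P ω 2) :=
    T.AG_comm P (T.pt_conj P hω (by decide)).1 (T.pt_conj P hω (by decide)).1
  have hprod : T.pt P ω a * T.pt P ω b = T.pt P ω 1 * T.pt P ω 2 := by
    rcases h with (((h | h) | h) | ⟨h, h'⟩) | ⟨h, h'⟩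
    · exact absurd (Nat.eq_of_beq_eq_true h) ha0
    · exact absurd (Nat.eq_of_beq_eq_true h) hb0
    · rw [hab, Nat.beq_refl] at h; exact absurd h (by decide)
    · rw [Nat.eq_of_beq_eq_true h, Nat.eq_of_beq_eq_true h']
    · rw [Nat.eq_of_beq_eq_true h, Nat.eq_of_beq_eq_true h', hcomm.eq]
  refine ⟨n * m, mul_mem hn hm, ?_⟩
  calc n * m * (T.d * T.pt P ω 1 * T.pt P ω 2) * (n * m)⁻¹
      = n * (m * T.d) * (T.pt P ω 1 * T.pt P ω 2) * m⁻¹ * n⁻¹ := by group
    _ = n * T.d * (m * (T.pt P ω 1 * T.pt P ω 2) * m⁻¹) * n⁻¹ := by rw [hmd.eq]; group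
    _ = n * T.d * (m * (T.pt P ω a * T.pt P ω b) * m⁻¹) * n⁻¹ := by rw [hprod]
    _ = _ := by rw [← hae, ← hbe]; group

/-- The conjugate with a given index. -/
noncomputable def Ctx.ptI (ω : F) (i : Fin 22) : G := T.pt P ω (idx22 i)

theorem idx22_mem (i : Fin 22) : idx22 i ∈ list22 := by revert i; decide +kernel

theorem idx22_inj : ∀ i j : Fin 22, idx22 i = idx22 j → i = j := by decide +kernel

theorem list22_idx : ∀ n ∈ list22, ∃ i : Fin 22, idx22 i = n := by decide +kernel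

/-- The number of triples of distinct conjugates with a given product. -/
noncomputable def Ctx.mult (ω : F) (x : G) : ℕ := by
  classical exact (Finset.univ.filter fun t : Fin 22 × Fin 22 × Fin 22 =>
    t.1 ≠ t.2.1 ∧ t.1 ≠ t.2.2 ∧ t.2.1 ≠ t.2.2 ∧ T.ptI P ω t.1 * T.ptI P ω t.2.1 * T.ptI P ω t.2.2 = x).card

theorem Ctx.mult_le_of_conj (hω : ω ^ 2 + ω + 1 = 0) {g : G} (hg : g ∈ T.N P) (x : G) :
    T.mult P ω x ≤ T.mult P ω (g * x * g⁻¹) := by
  classical
  have hex : ∀ i : Fin 22, ∃ j : Fin 22, T.ptI P ω j = g * T.ptI P ω i * g⁻¹ := fun i => by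
    obtain ⟨h1, h2⟩ := T.pt_conj P hω (idx22_mem i)
    obtain ⟨n, hn, he, -⟩ := T.exists_pt P hω ((Subgroup.mem_normalizer_iff.1 hg _).1 h1)
      (h2.trans (isConj_iff.2 ⟨g, rfl⟩))
    obtain ⟨j, hj⟩ := list22_idx n hn
    exact ⟨j, by unfold Ctx.ptI; rw [hj]; exact he.symm⟩
  choose π hπ using hex
  have hinj : Function.Injective π := fun i j e => by
    have := (hπ i).symm.trans (e ▸ hπ j)
    exact idx22_inj i j (T.pt_inj P hω (idx22_mem i) (idx22_mem j) (mul_left_cancel (mul_right_cancel this)))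
  unfold Ctx.mult
  refine Finset.card_le_card_of_injOn (fun t => (π t.1, π t.2.1, π t.2.2)) (fun t ht => ?_)
    fun a _ b _ e => ?_
  · simp only [Finset.mem_coe, Finset.mem_filter, Finset.mem_univ, true_and] at ht ⊢
    obtain ⟨h1, h2, h3, h4⟩ := ht
    refine ⟨hinj.ne h1, hinj.ne h2, hinj.ne h3, ?_⟩
    rw [hπ, hπ, hπ, ← h4]; group
  · simp only [Prod.mk.injEq] at e
    exact Prod.ext (hinj e.1) (Prod.ext (hinj e.2.1) (hinj e.2.2))

theorem Ctx.mult_orb (hω : ω ^ 2 + ω + 1 = 0) {x y : G} (h : T.Orb P x y) : T.mult P ω x = T.mult P ω y := by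
  obtain ⟨g, hg, rfl⟩ := h
  refine (T.mult_le_of_conj P hω hg x).antisymm ?_
  have := T.mult_le_of_conj P hω (inv_mem hg) (g * x * g⁻¹)
  rwa [show g⁻¹ * (g * x * g⁻¹) * g⁻¹⁻¹ = x by group] at this

theorem Ctx.mult_pos (hω : ω ^ 2 + ω + 1 = 0) {x : G} (h : T.mult P ω x ≠ 0) :
    T.Orb P (T.d * T.pt P ω 1 * T.pt P ω 2) x := by
  classical
  obtain ⟨⟨i, j, k⟩, ht⟩ := Finset.card_ne_zero.1 h
  simp only [Finset.mem_filter, Finset.mem_univ, true_and] at ht
  obtain ⟨h1, h2, h3, rfl⟩ := ht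
  have hne : ∀ {i j : Fin 22}, i ≠ j → T.ptI P ω i ≠ T.ptI P ω j := fun h e =>
    h (idx22_inj _ _ (T.pt_inj P hω (idx22_mem _) (idx22_mem _) e))
  exact T.orb_three P hω (T.pt_conj P hω (idx22_mem i)).1 (T.pt_conj P hω (idx22_mem i)).2
    (T.pt_conj P hω (idx22_mem j)).1 (T.pt_conj P hω (idx22_mem j)).2 (T.pt_conj P hω (idx22_mem k)).1
    (T.pt_conj P hω (idx22_mem k)).2 (hne h1) (hne h2) (hne h3)

theorem idx22_lt (i : Fin 22) : idx22 i < 512 := list22_lt _ (idx22_mem i)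

theorem Ctx.mult_add (hω : ω ^ 2 + ω + 1 = 0) {k : ℕ} (hk : k < 512) :
    T.mult P ω (T.av P ω k) + T.mult P ω (T.av P ω k * T.d) = triCount k := by
  classical
  have hne : T.av P ω k ≠ T.av P ω k * T.d := fun e =>
    T.d_ne (mul_left_cancel ((mul_one _).trans e)).symm
  unfold Ctx.mult
  rw [← Finset.card_union_of_disjoint (Finset.disjoint_filter.2 fun t _ h h' => hne (h.2.2.2.symm.trans h'.2.2.2)),
    triCount, countBelow_eq]
  generalize hN : (10648 : ℕ) = N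
  have hover : ∀ a b c : Fin 22, T.Over P ω (idx22 a ^^^ idx22 b ^^^ idx22 c)
      (T.ptI P ω a * T.ptI P ω b * T.ptI P ω c) := fun a b c =>
    ((T.pt_over P _).mul (T.pt_over P _)).mul (T.pt_over P _)
  have hlt : ∀ a b c : Fin 22, idx22 a ^^^ idx22 b ^^^ idx22 c < 512 := fun a b c =>
    Nat.xor_lt_two_pow (n := 9) (Nat.xor_lt_two_pow (n := 9) (idx22_lt a) (idx22_lt b)) (idx22_lt c)
  refine Finset.card_bij (fun t _ => t.1.1 + 22 * t.2.1.1 + 484 * t.2.2.1) (fun t ht => ?_)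
    (fun a _ b _ e => ?_) (fun n hn => ?_)
  · obtain ⟨⟨i, hi⟩, ⟨j, hj⟩, ⟨l, hl⟩⟩ := t
    simp only [Finset.mem_union, Finset.mem_filter, Finset.mem_univ, true_and, ne_eq, Fin.mk.injEq] at ht
    refine Finset.mem_filter.2 ⟨Finset.mem_range.2 (by simp only; omega), ?_⟩
    simp only [show (i + 22 * j + 484 * l) % 22 = i by omega, show (i + 22 * j + 484 * l) / 22 % 22 = j by omega,
      show (i + 22 * j + 484 * l) / 484 = l by omega]
    simp only [Bool.and_eq_true, Bool.not_eq_true', Bool.eq_false_iff, ne_eq, Nat.beq_eq]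
    have ho := hover ⟨i, hi⟩ ⟨j, hj⟩ ⟨l, hl⟩
    have hl' := hlt ⟨i, hi⟩ ⟨j, hj⟩ ⟨l, hl⟩
    rcases ht with ⟨h1, h2, h3, h4⟩ | ⟨h1, h2, h3, h4⟩
    · have hk' : T.Over P ω k (T.ptI P ω ⟨i, hi⟩ * T.ptI P ω ⟨j, hj⟩ * T.ptI P ω ⟨l, hl⟩) := by
        rw [h4]; exact Or.inl rfl
      have e := ho.unique hω hl' hk hk'
      simp only at e
      exact ⟨⟨⟨h1, h2⟩, h3⟩, e⟩
    · have hk' : T.Over P ω k (T.ptI P ω ⟨i, hi⟩ * T.ptI P ω ⟨j, hj⟩ * T.ptI P ω ⟨l, hl⟩) := by
        rw [h4]; exact Or.inr rfl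
      have e := ho.unique hω hl' hk hk'
      simp only at e
      exact ⟨⟨⟨h1, h2⟩, h3⟩, e⟩
  · obtain ⟨⟨a1, h1⟩, ⟨a2, h2⟩, ⟨a3, h3⟩⟩ := a
    obtain ⟨⟨b1, k1⟩, ⟨b2, k2⟩, ⟨b3, k3⟩⟩ := b
    simp only at e
    simp only [Prod.mk.injEq, Fin.mk.injEq]
    omega
  · obtain ⟨hn1, hn2⟩ := Finset.mem_filter.1 hn
    rw [Finset.mem_range] at hn1
    simp only [Bool.and_eq_true, Bool.not_eq_true', Bool.eq_false_iff, ne_eq, Nat.beq_eq] at hn2
    obtain ⟨⟨⟨h1, h2⟩, h3⟩, h4⟩ := hn2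
    refine ⟨(⟨n % 22, by omega⟩, ⟨n / 22 % 22, by omega⟩, ⟨n / 484, by omega⟩), ?_, by simp only; omega⟩
    have ho := hover ⟨n % 22, by omega⟩ ⟨n / 22 % 22, by omega⟩ ⟨n / 484, by omega⟩
    rw [h4] at ho
    simp only [Finset.mem_union, Finset.mem_filter, Finset.mem_univ, true_and, ne_eq, Fin.mk.injEq]
    rcases ho with e | e
    · exact Or.inl ⟨h1, h2, h3, e⟩
    · exact Or.inr ⟨h1, h2, h3, e⟩

/-- The representatives of the four orbits. -/
noncomputable def Ctx.rep (ω : F) : ℕ → G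
  | 0 => 1
  | 1 => T.d
  | 2 => T.d * T.pt P ω 1
  | _ => T.d * T.pt P ω 1 * T.pt P ω 2

theorem rank_cases {n : ℕ} (h : root4 n = 1 ∨ root4 n = 3 ∨ root4 n = 7) (hn0 : n ≠ 0) :
    (root4 n = 1 ∧ code22 n = true ∧ cls n = (1, 2)) ∨ (root4 n = 3 ∧ cls n = (2, 3)) ∨
      (root4 n = 7 ∧ cls n = (3, 3)) := by
  have hb : Nat.beq n 0 = false := Bool.eq_false_iff.2 fun e => hn0 (Nat.eq_of_beq_eq_true e)
  rcases h with e | e | e <;> simp [code22, cls, hb, rank4, e, Nat.beq]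

/-- The orbits of the two elements over a coordinate. -/
theorem Ctx.sides (hω : ω ^ 2 + ω + 1 = 0) {n : ℕ} (hn : n < 512) :
    ∃ x y, (x = T.av P ω n ∧ y = T.av P ω n * T.d ∨ y = T.av P ω n ∧ x = T.av P ω n * T.d) ∧
      T.Orb P (T.rep P ω (cls n).1) x ∧ T.Orb P (T.rep P ω (cls n).2) y := by
  by_cases hn0 : n = 0
  · subst hn0
    exact ⟨1, T.d, Or.inl ⟨(T.av_zero P ω).symm, by rw [T.av_zero, one_mul]⟩,
      ⟨1, one_mem _, by simp [Ctx.rep, cls]⟩, ⟨1, one_mem _, by simp [Ctx.rep, cls]⟩⟩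
  have flip : ∀ k x, T.Over P ω k x → x = T.av P ω k ∧ x * T.d = T.av P ω k * T.d ∨
      x * T.d = T.av P ω k ∧ x = T.av P ω k * T.d := fun k x h => by
    rcases h with rfl | rfl
    · exact Or.inl ⟨rfl, rfl⟩
    · exact Or.inr ⟨by rw [mul_assoc, T.d_sq, mul_one], rfl⟩
  obtain ⟨m, hm, hmd, ho⟩ := T.reach P hω hn hn0
  have h1 := T.pt_conj P hω (n := 1) (by decide)
  have h2 := T.pt_conj P hω (n := 2) (by decide)
  have hdA := T.d_mem P
  have ne12 : T.pt P ω 1 ≠ T.pt P ω 2 := fun e => absurd (T.pt_inj P hω (by decide) (by decide) e) (by norm_num)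
  rcases rank_cases (root_invariant (fun _ => ()) (fun _ _ _ _ => rfl) hn hn0).2 hn0 with
    ⟨-, hc22, hc⟩ | ⟨hr, hc⟩ | ⟨hr, hc⟩ <;> rw [hc]
  · have hmem := (list22_spec hn).1 hc22
    obtain ⟨hp, hpd⟩ := T.pt_conj P hω hmem
    have hne : T.pt P ω n ≠ T.d := fun e =>
      hn0 (T.pt_inj P hω hmem (by decide) (e.trans (T.pt_zero P).symm))
    refine ⟨_, _, flip n _ (T.pt_over P n), ?_, T.orb_two P hω hp hpd hdA (IsConj.refl _) hne⟩
    obtain ⟨g, hg, hge⟩ := T.exists_normalizer P hp hpd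
    exact ⟨g, hg, hge⟩
  · rw [hr] at ho
    have ho' : T.Over P ω 3 (T.pt P ω 1 * T.pt P ω 2) := (T.pt_over P 1).mul (T.pt_over P 2)
    have hn' : T.Over P ω n (m * (T.pt P ω 1 * T.pt P ω 2) * m⁻¹) := by
      rcases ho' with e | e <;> rw [e]
      · exact ho
      · rw [show m * (T.av P ω 3 * T.d) * m⁻¹ = m * T.av P ω 3 * (T.d * m⁻¹) by group, ← hmd.inv_left.eq,
          ← mul_assoc]
        have := ho.mul (m := 0) (y := T.d) (Or.inr (by rw [T.av_zero, one_mul]))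
        rwa [Nat.xor_zero] at this
    refine ⟨_, _, flip n _ hn', (T.orb_two P hω h1.1 h1.2 h2.1 h2.2 ne12).trans ⟨m, hm, rfl⟩, ?_⟩
    refine ⟨m, hm, ?_⟩
    show m * (T.d * T.pt P ω 1 * T.pt P ω 2) * m⁻¹ = _
    rw [mul_assoc T.d, (T.AG_comm P hdA (mul_mem h1.1 h2.1)).eq,
      show m * (T.pt P ω 1 * T.pt P ω 2 * T.d) * m⁻¹ = m * (T.pt P ω 1 * T.pt P ω 2) * (T.d * m⁻¹) by group,
      ← hmd.inv_left.eq, ← mul_assoc]
  · rw [hr] at ho
    set r := T.d * T.pt P ω 1 * T.pt P ω 2 with hrdef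
    -- the multiplicity of a product of three is twelve
    have h12 : T.mult P ω r = 12 := by
      have hadd := T.mult_add P hω (k := 3) (by norm_num)
      rw [triCount_three] at hadd
      have hpair : T.mult P ω (T.pt P ω 1 * T.pt P ω 2) = 0 := by
        rw [← T.mult_orb P hω (T.orb_two P hω h1.1 h1.2 h2.1 h2.2 ne12)]
        have hadd1 := T.mult_add P hω (k := 1) (by norm_num)
        rw [triCount_one] at hadd1
        have ho1 : T.Over P ω 1 (T.d * T.pt P ω 1) := by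
          have := (T.pt_over P (ω := ω) 0).mul (T.pt_over P 1)
          rw [T.pt_zero] at this
          simpa using this
        rcases ho1 with e | e <;> rw [e] <;> omega
      have e3 : r = T.pt P ω 1 * T.pt P ω 2 * T.d := by
        rw [hrdef, mul_assoc T.d, (T.AG_comm P hdA (mul_mem h1.1 h2.1)).eq]
      rcases flip 3 _ ((T.pt_over P 1).mul (T.pt_over P 2)) with ⟨e, e'⟩ | ⟨e', e⟩ <;>
        rw [e3, e'] <;> rw [e] at hpair <;> omega
    have hboth : ∀ x, T.Over P ω 7 x → T.Orb P r x := by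
      intro x hx
      refine T.mult_pos P hω fun h0 => ?_
      have hadd := T.mult_add P hω (k := 7) (by norm_num)
      rw [triCount_seven] at hadd
      have key : ∀ y, T.mult P ω y = 24 → False := fun y hy => by
        have := T.mult_orb P hω (T.mult_pos P hω (x := y) (by omega))
        rw [← hrdef, h12] at this
        omega
      rcases hx with rfl | rfl
      · exact key (T.av P ω 7 * T.d) (by omega)
      · exact key (T.av P ω 7) (by omega)
    refine ⟨_, _, flip n _ ho, (hboth _ (Or.inl rfl)).trans ⟨m, hm, rfl⟩, ?_⟩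
    refine (hboth _ (Or.inr rfl)).trans ⟨m, hm, ?_⟩
    rw [show m * (T.av P ω 7 * T.d) * m⁻¹ = m * T.av P ω 7 * (T.d * m⁻¹) by group, ← hmd.inv_left.eq, ← mul_assoc]

/-- An invariant function and its four values. -/
structure Ctx.Vals (ω : F) (f : G → ℕ) (v : ℕ × ℕ × ℕ × ℕ) : Prop where
  inv : ∀ g ∈ T.N P, ∀ x ∈ T.AG P, f (g * x * g⁻¹) = f x
  val : ∀ k < 4, f (T.rep P ω k) = pick v k

theorem cls_lt (n : ℕ) : (cls n).1 < 4 ∧ (cls n).2 < 4 := by
  unfold cls; cases Nat.beq n 0 <;> cases Nat.beq (rank4 n) 1 <;> cases Nat.beq (rank4 n) 2 <;> simp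

theorem Ctx.rep_mem (hω : ω ^ 2 + ω + 1 = 0) (k : ℕ) : T.rep P ω k ∈ T.AG P := by
  have h1 := (T.pt_conj P hω (n := 1) (by decide)).1
  have h2 := (T.pt_conj P hω (n := 2) (by decide)).1
  match k with
  | 0 => exact one_mem _
  | 1 => exact T.d_mem P
  | 2 => exact mul_mem (T.d_mem P) h1
  | _ + 3 => exact mul_mem (mul_mem (T.d_mem P) h1) h2

variable {T P}

theorem Ctx.Vals.orb {f : G → ℕ} {v : ℕ × ℕ × ℕ × ℕ} (h : T.Vals P ω f v) (hω : ω ^ 2 + ω + 1 = 0) {k : ℕ}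
    (hk : k < 4) {x : G} (hx : T.Orb P (T.rep P ω k) x) : f x = pick v k := by
  obtain ⟨g, hg, rfl⟩ := hx
  rw [h.inv g hg _ (T.rep_mem P hω k), h.val k hk]

theorem Ctx.Vals.sum_pair {f g : G → ℕ} {v w : ℕ × ℕ × ℕ × ℕ} (hf : T.Vals P ω f v) (hg : T.Vals P ω g w)
    (hω : ω ^ 2 + ω + 1 = 0) {n : ℕ} (hn : n < 512) :
    f (T.av P ω n) + f (T.av P ω n * T.d) = totV v n ∧
      f (T.av P ω n) * g (T.av P ω n) + f (T.av P ω n * T.d) * g (T.av P ω n * T.d) = dotV v w n ∧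
      f (T.av P ω n) * g (T.av P ω n * T.d) + f (T.av P ω n * T.d) * g (T.av P ω n) = crossV v w n := by
  obtain ⟨x, y, h, hx, hy⟩ := T.sides P hω hn
  obtain ⟨h1, h2⟩ := cls_lt n
  have e1 := hf.orb hω h1 hx
  have e2 := hf.orb hω h2 hy
  have e3 := hg.orb hω h1 hx
  have e4 := hg.orb hω h2 hy
  rcases h with ⟨rfl, rfl⟩ | ⟨rfl, rfl⟩ <;> rw [totV, dotV, crossV, e1, e2, e3, e4]
  · exact ⟨rfl, rfl, rfl⟩
  · exact ⟨add_comm _ _, add_comm _ _, add_comm _ _⟩

variable (T P)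

/-- The convolution. -/
noncomputable def Ctx.conv (ω : F) (f g : G → ℕ) (y : G) : ℕ := ∑ p, f (T.elv P ω p) * g (T.elv P ω p * y)

theorem Ctx.conv_conj (hω : ω ^ 2 + ω + 1 = 0) {f g : G → ℕ}
    (hf : ∀ a ∈ T.N P, ∀ x ∈ T.AG P, f (a * x * a⁻¹) = f x) (hg : ∀ a ∈ T.N P, ∀ x ∈ T.AG P, g (a * x * a⁻¹) = g x)
    {a : G} (ha : a ∈ T.N P) {y : G} (hy : y ∈ T.AG P) : T.conv P ω f g (a * y * a⁻¹) = T.conv P ω f g y := by
  obtain ⟨h1, h2, h3⟩ := T.elv_spec P hω
  choose σ hσ using fun p => h3 _ ((Subgroup.mem_normalizer_iff.1 ha _).1 (h1 p))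
  have hb : Function.Bijective σ := by
    refine (Finite.injective_iff_bijective).1 fun u v e => h2 ?_
    have := (hσ u).symm.trans (e ▸ hσ v)
    simpa using this
  unfold Ctx.conv
  refine (Fintype.sum_bijective σ hb _ _ fun p => ?_).symm
  rw [hσ, hf a ha _ (h1 p), show a * T.elv P ω p * a⁻¹ * (a * y * a⁻¹) = a * (T.elv P ω p * y) * a⁻¹ by group,
    hg a ha _ (mul_mem (h1 p) hy)]

theorem Ctx.conv_pair (f g : G → ℕ) (m : ℕ) :
    T.conv P ω f g (T.av P ω m) + T.conv P ω f g (T.av P ω m * T.d) =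
      ∑ h ∈ Finset.range 512, (f (T.av P ω h) + f (T.av P ω h * T.d)) *
        (g (T.av P ω (h ^^^ m)) + g (T.av P ω (h ^^^ m) * T.d)) := by
  rw [Ctx.conv, Ctx.conv, T.sum_elv P ω fun x => f x * g (x * T.av P ω m),
    T.sum_elv P ω fun x => f x * g (x * (T.av P ω m * T.d)), ← Finset.sum_add_distrib]
  refine Finset.sum_congr rfl fun n _ => ?_
  have hcm : Commute (T.av P ω m) T.d := T.av_comm P ω m
  have e2 : T.av P ω n * T.d * T.av P ω m = T.av P ω n * T.av P ω m * T.d := by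
    rw [mul_assoc, ← hcm.eq, mul_assoc]
  have e3 : T.av P ω n * T.d * (T.av P ω m * T.d) = T.av P ω n * T.av P ω m := by
    rw [← mul_assoc, e2, mul_assoc, T.d_sq, mul_one]
  rw [e2, e3, ← mul_assoc, ← T.av_xor]
  ring

variable {T P}

attribute [local irreducible] sumBelow in
theorem Ctx.Vals.conv {f g : G → ℕ} {v w : ℕ × ℕ × ℕ × ℕ} (hf : T.Vals P ω f v) (hg : T.Vals P ω g w)
    (hω : ω ^ 2 + ω + 1 = 0) : T.Vals P ω (T.conv P ω f g) (conv4 v w) := by
  have hinv := fun a (ha : a ∈ T.N P) y (hy : y ∈ T.AG P) => T.conv_conj P hω hf.inv hg.inv ha hy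
  refine ⟨hinv, fun k hk => ?_⟩
  have tot : ∀ {f : G → ℕ} {v : ℕ × ℕ × ℕ × ℕ}, T.Vals P ω f v → ∀ n < 512,
      f (T.av P ω n) + f (T.av P ω n * T.d) = totV v n := fun h n hn => (h.sum_pair h hω hn).1
  have hsum : ∀ m < 512, T.conv P ω f g (T.av P ω m) + T.conv P ω f g (T.av P ω m * T.d) =
      ∑ n ∈ Finset.range 512, totV v n * totV w (n ^^^ m) := fun m hm => by
    rw [T.conv_pair]
    refine Finset.sum_congr rfl fun n hn => ?_
    have hn' := Finset.mem_range.1 hn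
    rw [tot hf n hn', tot hg _ (Nat.xor_lt_two_pow (n := 9) hn' hm)]
  have h0 : T.conv P ω f g (T.rep P ω 0) = (conv4 v w).1 := by
    show _ = sumBelow 512 (dotV v w)
    rw [sumBelow_eq, Ctx.conv, T.sum_elv P ω fun x => f x * g (x * T.rep P ω 0)]
    refine Finset.sum_congr rfl fun n hn => ?_
    show f _ * g (_ * 1) + f _ * g (_ * 1) = _
    rw [mul_one, mul_one]
    exact (hf.sum_pair hg hω (Finset.mem_range.1 hn)).2.1
  have h1 : T.conv P ω f g (T.rep P ω 1) = sumBelow 512 (crossV v w) := by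
    rw [sumBelow_eq, Ctx.conv, T.sum_elv P ω fun x => f x * g (x * T.rep P ω 1)]
    refine Finset.sum_congr rfl fun n hn => ?_
    show f _ * g (_ * T.d) + f _ * g (_ * T.d * T.d) = _
    rw [mul_assoc (T.av P ω n) T.d T.d, T.d_sq, mul_one]
    exact (hf.sum_pair hg hω (Finset.mem_range.1 hn)).2.2
  have hadd : ∀ m, m < 512 → T.conv P ω f g (T.rep P ω (cls m).1) + T.conv P ω f g (T.rep P ω (cls m).2) =
      sumBelow 512 fun n => totV v n * totV w (n ^^^ m) := by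
    intro m hm
    rw [sumBelow_eq, ← hsum m hm]
    obtain ⟨x, y, h, ⟨a, ha, hax⟩, ⟨b, hb, hby⟩⟩ := T.sides P hω hm
    rw [← hinv a ha _ (T.rep_mem P hω _), ← hinv b hb _ (T.rep_mem P hω _), hax, hby]
    rcases h with ⟨rfl, rfl⟩ | ⟨rfl, rfl⟩
    · rfl
    · exact add_comm _ _
  have h1' := hadd 1 (by norm_num)
  have h3' := hadd 3 (by norm_num)
  rw [show cls 1 = (1, 2) by decide +kernel] at h1'
  rw [show cls 3 = (2, 3) by decide +kernel] at h3'
  dsimp only at h1' h3'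
  have h2 : T.conv P ω f g (T.rep P ω 2) = (conv4 v w).2.2.1 := by
    show _ = sumBelow 512 (fun n => totV v n * totV w (n ^^^ 1)) - sumBelow 512 (crossV v w)
    omega
  have h3 : T.conv P ω f g (T.rep P ω 3) = (conv4 v w).2.2.2 := by
    show _ = sumBelow 512 (fun n => totV v n * totV w (n ^^^ 3)) - (conv4 v w).2.2.1
    omega
  interval_cases k
  · exact h0
  · exact h1
  · exact h2
  · exact h3

theorem Ctx.Vals.total {f : G → ℕ} {v : ℕ × ℕ × ℕ × ℕ} (hf : T.Vals P ω f v) (hω : ω ^ 2 + ω + 1 = 0) :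
    ∑ p, f (T.elv P ω p) = sumBelow 512 (totV v) := by
  rw [T.sum_elv P ω f, sumBelow_eq]
  exact Finset.sum_congr rfl fun n hn => (hf.sum_pair hf hω (Finset.mem_range.1 hn)).1

end CfsgLib.U6Cover
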