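import Mathlib.Data.Nat.Bitwise
import Mathlib.Data.List.GetD

/-!
Codes for the field with four elements, for hermitian `3 × 3` matrices over it in the basis of nine rank one
matrices, and the orbits of six transvections on them.
-/

set_option autoImplicit false

namespace CfsgLib.U6Cover

/-- Product of two coded elements of the field with four elements. -/
def mul4 (a b : ℕ) : ℕ := (2625168384 >>> (2 * (4 * a + b))) &&& 3

/-- The conjugate of a coded element. -/
def conj4 (a : ℕ) : ℕ := mul4 a a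

/-- A component of a coded vector. -/
def comp4 (v i : ℕ) : ℕ := (v >>> (2 * i)) &&& 3

/-- The code of a vector. -/
def mk4 (a b c : ℕ) : ℕ := a ||| (b <<< 2) ||| (c <<< 4)

/-- The matrix code of `v v*`. -/
def outer4 (v : ℕ) : ℕ :=
  mul4 (comp4 v 0) (conj4 (comp4 v 0)) ||| (mul4 (comp4 v 1) (conj4 (comp4 v 1)) <<< 1) |||
  (mul4 (comp4 v 2) (conj4 (comp4 v 2)) <<< 2) ||| (mul4 (comp4 v 0) (conj4 (comp4 v 1)) <<< 3) |||
  (mul4 (comp4 v 0) (conj4 (comp4 v 2)) <<< 5) ||| (mul4 (comp4 v 1) (conj4 (comp4 v 2)) <<< 7)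

/-- The nine vectors. -/
def baseVecs : List ℕ := [1, 4, 16, 5, 9, 17, 33, 20, 36]

/-- The matrix codes of the nine vectors. -/
def baseMats : List ℕ := [1, 2, 4, 11, 27, 37, 101, 134, 390]

/-- The coordinates of the nine matrix units. -/
def coordTab : List ℕ := [1, 2, 4, 11, 24, 37, 96, 134, 384]

/-- The linear map given by the images of the nine basis elements. -/
def lin : List ℕ → ℕ → ℕ
  | [], _ => 0
  | t :: l, n => (bif Nat.beq (n % 2) 1 then t else 0) ^^^ lin l (n / 2)

/-- The coordinates of `v v*`. -/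
def code4 (v : ℕ) : ℕ := lin coordTab (outer4 v)

/-- An entry of a matrix code. -/
def ent4 (c i j : ℕ) : ℕ :=
  match i, j with
  | 0, 0 => c &&& 1
  | 1, 1 => (c >>> 1) &&& 1
  | 2, 2 => (c >>> 2) &&& 1
  | 0, 1 => (c >>> 3) &&& 3
  | 0, 2 => (c >>> 5) &&& 3
  | 1, 2 => (c >>> 7) &&& 3
  | 1, 0 => conj4 ((c >>> 3) &&& 3)
  | 2, 0 => conj4 ((c >>> 5) &&& 3)
  | 2, 1 => conj4 ((c >>> 7) &&& 3)
  | _, _ => 0

/-- Evaluation of a coded functional at a coded vector. -/
def eval4 (f v : ℕ) : ℕ :=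
  mul4 (comp4 f 0) (comp4 v 0) ^^^ mul4 (comp4 f 1) (comp4 v 1) ^^^ mul4 (comp4 f 2) (comp4 v 2)

/-- The image of a vector under the transvection `v ↦ v + f(v) a`. -/
def trans4 (a f v : ℕ) : ℕ :=
  mk4 (comp4 v 0 ^^^ mul4 (eval4 f v) (comp4 a 0)) (comp4 v 1 ^^^ mul4 (eval4 f v) (comp4 a 1))
    (comp4 v 2 ^^^ mul4 (eval4 f v) (comp4 a 2))

/-- The action of a transvection on the coordinates. -/
def transImgs (a f : ℕ) : List ℕ := baseVecs.map fun v => code4 (trans4 a f v)

/-- Six generating transvections. -/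
def genPair : ℕ → ℕ × ℕ
  | 0 => (1, 4)
  | 1 => (1, 8)
  | 2 => (4, 16)
  | 3 => (1, 16)
  | 4 => (4, 1)
  | _ => (16, 4)

/-- The action of a generator on the coordinates. -/
def genAct (g n : ℕ) : ℕ := lin (transImgs (genPair g).1 (genPair g).2) n

/-- The spanning forest. -/
def forest : ℕ := 0x87487c8767ca870878b9d87a87587d87787f3b78795eb87b86f3aa86d7dabca8637fb7fab6186686c8643bfb648688608db8d38d97ce8df8d78dd54db968d28d81bf8de8d68dc8d47dd8c88c239155e55f8c67fe8c18c9bc17d68c58cd8c78cf93b1d53f81dd1d01d1bdd1d91d63f27a6b771d21d31da3ed5a61ce1c75a579c1ca3f41c23fb3fa3e07b71c93fe3e47971f4b7899651ab7d3c69923ddbd63d21fe3c9bd23d61fa5923cb3ca3d03d1baa58858b3d598e3da3c01e4790791792793b1b8fc8f65668f08f88f28fa8f576f8f776d8f18f98f374d3528e78edb4d8eb8e38e98e177eb6257f8e4b6775f8e88e037ab3a36176137eb3e54836436a85285876985e856748854840848369b6d75255b36db6977a77b778378b4775b37dbc6b5b17a9b9bdab5f17e1779b5bf417817131017d53b175b711601611681691647329a616d9a171a16aba273b73a16eba633ab7abfbbfa33eb7e325bfe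515bd5b54516bd0bd1597596332716b2c328336736b2832c71f71e14a71c73f73e90814f4e70da6f7a1e29b29aa1ba1aa306fc4ed97f28b28aab42914f76e428c28d2932922882892879660ca4fc2836cc29847c2bf2be2a42a54c84c92a0a3aa10a112b4a912aba150f54c32b72b66e32ad4d84d92a82a96e92a62bc2bd2a32a24d24d343009a09383183f2daa5b2c183a09869a830a74a75af4834a08a09088683824a0d08c82e68808382342b82582da2382f2ff89c2e4a7e0bf41e0b789aa5069d8972f58910bc415414a286850a888540f88340d88188e0a3a0768f4076ada03a024e3075a1da1c67aa98a19a18652a334e94e8a369f9ab6ab726e4f22754f09eb26baceacf27e4fa4f94f8ae147a47947895babc95995195f67f67ca38a12a13654a93a16a174c667524e94845eaeb4dc24b4de66d45425f4564574d425b4d64d7226adc8b903d22261e61d61c0368b2af222c617616615228a0aa0ba8a8aaa0e60e60d8aeaa502c42e42f6070284ae4af20620701c81e20220301881a81501720d20c81101320920820e80700780520a803003801e0700c481480e03008e01000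

/-- The predecessor in the forest. -/
def prev (n : ℕ) : ℕ := (forest >>> (12 * n)) &&& 511

/-- The generator joining the predecessor. -/
def prevGen (n : ℕ) : ℕ := ((forest >>> (12 * n)) >>> 9) &&& 7

/-- The root in the forest. -/
def root4 (n : ℕ) : ℕ := prev (prev (prev (prev (prev (prev (prev (prev n)))))))

/-- The rank of a non-zero element. -/
def rank4 (n : ℕ) : ℕ := bif Nat.beq (root4 n) 1 then 1 else bif Nat.beq (root4 n) 3 then 2 else 3

/-- All numbers below a bound satisfy a test. -/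
def below (N : ℕ) (p : ℕ → Bool) : Bool := (List.range N).all p

theorem below_spec {N : ℕ} {p : ℕ → Bool} (h : below N p = true) {i : ℕ} (hi : i < N) : p i = true :=
  List.all_eq_true.1 h i (List.mem_range.2 hi)

/-- The number of elements below `N` satisfying a test. -/
def countBelow (N : ℕ) (p : ℕ → Bool) : ℕ := ((List.range N).filter p).length

theorem forest_ok : (below 512 fun n => Nat.beq n 0 ||
    ((Nat.beq (root4 n) 1 || Nat.beq (root4 n) 3 || Nat.beq (root4 n) 7) && Nat.blt (prev n) 512 &&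
      (Nat.beq (prev n) n || Nat.beq (genAct (prevGen n) (prev n)) n))) = true := by decide +kernel

theorem rank_counts : (Nat.beq (countBelow 512 fun n => Nat.blt 0 n && Nat.beq (rank4 n) 1) 21 &&
    Nat.beq (countBelow 512 fun n => Nat.blt 0 n && Nat.beq (rank4 n) 2) 210 &&
    Nat.beq (countBelow 512 fun n => Nat.blt 0 n && Nat.beq (rank4 n) 3) 280) = true := by decide +kernel

theorem coord_ok : (below 512 fun n => Nat.beq (lin baseMats (lin coordTab n)) n &&
    Nat.beq (lin coordTab (lin baseMats n)) n && Nat.blt (lin baseMats n) 512 &&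
    Nat.blt (lin coordTab n) 512) = true := by decide +kernel

theorem code_ok : (below 64 fun v => Nat.blt (outer4 v) 512 && Nat.blt (code4 v) 512 &&
    below 3 (fun i => below 3 fun j =>
      Nat.beq (ent4 (outer4 v) i j) (mul4 (comp4 v i) (conj4 (comp4 v j))))) = true := by decide +kernel

theorem ent_ok : (below 512 fun c => below 3 fun i => below 3 fun j =>
    Nat.blt (ent4 c i j) 4 && Nat.beq (ent4 c j i) (conj4 (ent4 c i j))) = true := by decide +kernel

theorem ent_xor_ok : (below 512 fun c => below 9 fun k => below 3 fun i => below 3 fun j =>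
    Nat.beq (ent4 (c ^^^ baseMats.getD k 0) i j) (ent4 c i j ^^^ ent4 (baseMats.getD k 0) i j)) = true := by
  decide +kernel

end CfsgLib.U6Cover
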