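import Cfsg.Agent.Lib.U6Cover.Frame

/-!
Every independent totally isotropic triple is part of a frame, and every involution fixes such a triple.
-/

set_option autoImplicit false

namespace CfsgLib.U6Cover

open Module CfsgLib.Classical.Herm HermSpace CfsgLib.UnitaryTransv

attribute [-simp] stdHerm_h

variable {F : Type*} [Field F] [Fintype F] {hF : Fintype.card F = 2 ^ 2}

theorem exists_frame (hF : Fintype.card F = 2 ^ 2) (e : Fin 3 → (Fin 6 → F)) (hli : LinearIndependent F e)
    (hee : ∀ i j, (stdHerm hF 6).h (e i) (e j) = 0) : ∃ P : Fr hF, P.e = e := by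
  let H := stdHerm hF 6
  let φ : (Fin 6 → F) →ₗ[F] (Fin 3 → F) := LinearMap.pi fun i => H.form (e i)
  have hφ : ∀ x i, φ x i = H.h x (e i) := fun x i => rfl
  have hsurj : Function.Surjective φ := by
    rw [← LinearMap.dualMap_injective_iff, injective_iff_map_eq_zero]
    intro L hL
    let c : Fin 3 → F := fun i => L (Pi.single i 1)
    have hLy : ∀ y, L y = ∑ i, y i * c i := fun y => by
      conv_lhs => rw [← Finset.univ_sum_single y]
      rw [map_sum]
      refine Finset.sum_congr rfl fun i _ => ?_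
      rw [show Pi.single i (y i) = y i • (Pi.single i 1 : Fin 3 → F) by
        rw [← Pi.single_smul', smul_eq_mul, mul_one], map_smul, smul_eq_mul]
    have hz : ∑ i, (c i) ^ 2 • e i = 0 := by
      refine (stdHerm hF 6).nondeg _ fun x => H.h_comm_zero ?_
      have h := LinearMap.congr_fun hL x
      rw [LinearMap.dualMap_apply, hLy, LinearMap.zero_apply] at h
      show H.h x _ = 0
      rw [h_sum_right]
      rw [← h]
      refine Finset.sum_congr rfl fun i _ => ?_
      rw [hφ, H.smul_right, stdHerm_conj, mul_comm]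
      congr 1
      rw [← pow_mul, show c i ^ (2 * 2) = c i ^ Fintype.card F by rw [hF]; norm_num, FiniteField.pow_card]
    have hc : ∀ i, c i = 0 := fun i => by
      have := Fintype.linearIndependent_iff.1 hli _ hz i
      exact pow_eq_zero_iff (by norm_num) |>.1 this
    exact LinearMap.ext fun y => by simp [hLy, hc]
  choose f0 hf0 using fun i : Fin 3 => hsurj (Pi.single i 1)
  have hfe : ∀ i j, H.h (f0 i) (e j) = if i = j then 1 else 0 := fun i j => by
    rw [← hφ, hf0, Pi.single_apply]
    by_cases h : i = j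
    · subst h; simp
    · simp [h, Ne.symm h]
  have hef : ∀ i j, H.h (e i) (f0 j) = if i = j then 1 else 0 := fun i j => by
    rw [← H.symm', hfe]
    by_cases h : i = j
    · subst h; simp [H]
    · simp [h, Ne.symm h, H]
  choose t ht using fun i : Fin 3 => H.exists_trace (c := H.h (f0 i) (f0 i)) (H.conj_diag _)
  let c : Fin 3 → Fin 3 → F := fun i k =>
    if i = k then t i else if i < k then H.h (f0 i) (f0 k) else 0
  let f : Fin 3 → (Fin 6 → F) := fun i => f0 i + ∑ m, c i m • e m
  refine ⟨⟨e, f, hee, fun i k => ?_, fun i j => ?_⟩, rfl⟩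
  · have h1 : (stdHerm hF 6).h (f i) (f k) = H.h (f0 i) (f0 k) + c i k + H.conj (c k i) := by
      show H.h (f0 i + ∑ m, c i m • e m) (f0 k + ∑ m, c k m • e m) = _
      rw [H.add_left, H.add_right, H.add_right]
      have e1 : H.h (f0 i) (∑ m, c k m • e m) = H.conj (c k i) := by
        rw [h_sum_right]
        simp [H.smul_right, hfe, Finset.sum_ite_eq, Finset.mem_univ, mul_ite, H]
      have e2 : H.h (∑ m, c i m • e m) (f0 k) = c i k := by
        rw [h_sum_left]
        simp [H.smul_left, hef, Finset.sum_ite_eq', Finset.mem_univ, mul_ite, H]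
      have e3 : H.h (∑ m, c i m • e m) (∑ m, c k m • e m) = 0 := by
        rw [h_sum_left]
        refine Finset.sum_eq_zero fun m _ => ?_
        rw [h_sum_right, ]
        refine Finset.sum_eq_zero fun l _ => ?_
        rw [H.smul_left, H.smul_right, hee, mul_zero, mul_zero]
      rw [e1, e2, e3]
      ring
    rw [h1]
    simp only [c]
    rcases lt_trichotomy i k with h | h | h
    · rw [if_neg h.ne, if_pos h, if_neg h.ne', if_neg h.not_gt, map_zero, add_zero,
        add_self_zero hF]
    · subst h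
      rw [if_pos rfl, add_assoc, ht, add_self_zero hF]
    · rw [if_neg h.ne', if_neg h.not_gt, if_neg h.ne, if_pos h, add_zero, H.symm', add_self_zero hF]
  · show H.h (e i) (f0 j + ∑ m, c j m • e m) = _
    rw [H.add_right, h_sum_right, hef, Finset.sum_eq_zero, add_zero]
    intro m _
    rw [H.smul_right, hee, mul_zero]

/-- A totally isotropic subspace of dimension less than three can be enlarged. -/
theorem exists_enlarge (hF : Fintype.card F = 2 ^ 2) (W : Submodule F (Fin 6 → F))
    (h0 : ∀ x ∈ W, ∀ y ∈ W, (stdHerm hF 6).h x y = 0) (hd : finrank F W < 3) :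
    ∃ z, z ∉ W ∧ (stdHerm hF 6).h z z = 0 ∧ ∀ w ∈ W, (stdHerm hF 6).h z w = 0 := by
  let H := stdHerm hF 6
  let b := finBasis F W
  let φ : (Fin 6 → F) →ₗ[F] (Fin (finrank F W) → F) := LinearMap.pi fun i => H.form (b i : Fin 6 → F)
  have hker : ∀ x ∈ LinearMap.ker φ, ∀ w ∈ W, H.h x w = 0 := by
    intro x hx w hw
    have := b.sum_repr ⟨w, hw⟩
    have hw' : w = ∑ i, b.repr ⟨w, hw⟩ i • (b i : Fin 6 → F) := by
      have h2 := congrArg Subtype.val this
      rw [Submodule.coe_sum] at h2
      exact h2.symm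
    rw [hw', h_sum_right]
    refine Finset.sum_eq_zero fun i _ => ?_
    have hxi : H.h x (b i : Fin 6 → F) = 0 := congrFun (LinearMap.mem_ker.1 hx) i
    rw [H.smul_right, hxi, mul_zero]
  have hdim : finrank F W + 2 ≤ finrank F (LinearMap.ker φ) := by
    have h1 := LinearMap.finrank_range_add_finrank_ker φ
    have h2 := Submodule.finrank_le (LinearMap.range φ)
    rw [finrank_fin_fun] at h1 h2
    omega
  obtain ⟨x, hx, hxW⟩ : ∃ x ∈ LinearMap.ker φ, x ∉ W := SetLike.not_le_iff_exists.1 fun h => by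
    have := Submodule.finrank_mono h
    omega
  obtain ⟨y, hy, hyW⟩ : ∃ y ∈ LinearMap.ker φ, y ∉ W ⊔ Submodule.span F {x} :=
    SetLike.not_le_iff_exists.1 fun h => by
      have h1 := Submodule.finrank_mono h
      have h2 := Submodule.finrank_add_le_finrank_add_finrank W (Submodule.span F {x})
      have h3 : finrank F (Submodule.span F {x}) ≤ 1 := by
        simpa using finrank_span_le_card ({x} : Set (Fin 6 → F))
      omega
  by_cases hxx : H.h x x = 0
  · exact ⟨x, hxW, hxx, hker x hx⟩
  by_cases hyy : H.h y y = 0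
  · exact ⟨y, fun h => hyW (Submodule.mem_sup_left h), hyy, hker y hy⟩
  have one : ∀ v, H.h v v ≠ 0 → H.h v v = 1 := fun v hv => fixed_eq_one hF (by
    have := H.conj_diag v
    rwa [stdHerm_conj] at this) hv
  obtain ⟨l, hl0, hl⟩ : ∃ l : F, l ≠ 0 ∧ H.h (x + l • y) (x + l • y) = 0 := by
    have key : ∀ l : F, l ≠ 0 → H.h (x + l • y) (x + l • y) =
        l ^ 2 * H.h x y + l * H.h x y ^ 2 := fun l hl => by
      have h3 := CfsgLib.UnitaryTransv.pow_three hF hl
      have hyx : H.h y x = H.h x y ^ 2 := by rw [← H.symm', stdHerm_conj]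
      rw [H.add_left, H.add_right, H.add_right, H.smul_left, H.smul_left, H.smul_right, H.smul_right,
        stdHerm_conj, one x hxx, one y hyy, hyx]
      linear_combination h3 + two_eq_zero hF
    by_cases hc : H.h x y = 0
    · exact ⟨1, one_ne_zero, by rw [key 1 one_ne_zero, hc]; ring⟩
    · refine ⟨H.h x y, hc, ?_⟩
      rw [key _ hc]
      linear_combination (H.h x y ^ 3) * two_eq_zero hF
  refine ⟨x + l • y, fun h => hyW ?_, hl, hker _ (add_mem hx (Submodule.smul_mem _ l hy))⟩
  have : y = l⁻¹ • ((x + l • y) - x) := by rw [add_sub_cancel_left, inv_smul_smul₀ hl0]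
  rw [this]
  exact Submodule.smul_mem _ _ (sub_mem (Submodule.mem_sup_left h)
    (Submodule.mem_sup_right (Submodule.mem_span_singleton_self x)))

theorem exists_max_isotropic (hF : Fintype.card F = 2 ^ 2) :
    ∀ (k : ℕ) (W : Submodule F (Fin 6 → F)), finrank F W + k = 3 →
      (∀ x ∈ W, ∀ y ∈ W, (stdHerm hF 6).h x y = 0) →
      ∃ W' : Submodule F (Fin 6 → F), W ≤ W' ∧ finrank F W' = 3 ∧
        ∀ x ∈ W', ∀ y ∈ W', (stdHerm hF 6).h x y = 0 := by
  intro k
  induction k with
  | zero => exact fun W hW h0 => ⟨W, le_rfl, by omega, h0⟩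
  | succ k ih =>
    intro W hW h0
    obtain ⟨z, hz, hzz, hzw⟩ := exists_enlarge hF W h0 (by omega)
    have hdim : finrank F ↥(W ⊔ Submodule.span F {z}) = finrank F W + 1 := by
      have h1 := Submodule.finrank_add_le_finrank_add_finrank W (Submodule.span F {z})
      have h2 : finrank F (Submodule.span F {z}) ≤ 1 := by
        simpa using finrank_span_le_card ({z} : Set (Fin 6 → F))
      have h3 : W < W ⊔ Submodule.span F {z} := left_lt_sup.2 fun h =>
        hz (h (Submodule.mem_span_singleton_self z))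
      have h4 := Submodule.finrank_lt_finrank_of_lt h3
      omega
    obtain ⟨W', hle, hW'⟩ := ih (W ⊔ Submodule.span F {z}) (by omega) (by
      intro x hx y hy
      obtain ⟨a, ha, b, hb, rfl⟩ := Submodule.mem_sup.1 hx
      obtain ⟨c, hc, d, hd, rfl⟩ := Submodule.mem_sup.1 hy
      obtain ⟨p, rfl⟩ := Submodule.mem_span_singleton.1 hb
      obtain ⟨q, rfl⟩ := Submodule.mem_span_singleton.1 hd
      simp only [(stdHerm hF 6).add_left, (stdHerm hF 6).add_right, (stdHerm hF 6).smul_left,
        (stdHerm hF 6).smul_right, h0 a ha c hc, hzz, hzw c hc, (stdHerm hF 6).h_comm_zero (hzw a ha),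
        mul_zero, add_zero])
    exact ⟨W', le_sup_left.trans hle, hW'⟩

/-- An involution fixes the first triple of some frame. -/
theorem exists_frame_fixed (hF : Fintype.card F = 2 ^ 2) (k : Unit' (stdHerm hF 6)) (hk : k * k = 1) :
    ∃ P : Fr hF, k ∈ P.U := by
  let H := stdHerm hF 6
  let N : (Fin 6 → F) →ₗ[F] (Fin 6 → F) := (k.1 : (Fin 6 → F) →ₗ[F] (Fin 6 → F)) + LinearMap.id
  have hN : ∀ x, N x = k.1 x + x := fun x => rfl
  have hkk : ∀ x, k.1 (k.1 x) = x := fun x => by
    rw [← CfsgLib.Classical.Herm.mul_apply, hk, one_apply]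
  have hfix : ∀ x, k.1 (N x) = N x := fun x => by rw [hN, map_add, hkk, add_comm]
  have h0 : ∀ x ∈ LinearMap.range N, ∀ y ∈ LinearMap.range N, H.h x y = 0 := by
    rintro _ ⟨a, rfl⟩ _ ⟨b, rfl⟩
    rw [hN b, H.add_right, ← unit_h k (N a) b, hfix, add_self_zero hF]
  have hr : finrank F (LinearMap.range N) ≤ 3 := by
    have := two_finrank_le hF _ h0
    omega
  obtain ⟨W', hle, hW', h0'⟩ := exists_max_isotropic hF _ _ (Nat.add_sub_of_le hr) h0
  let b := (finBasis F W').reindex (finCongr hW')
  obtain ⟨P, hP⟩ := exists_frame hF (fun i => (b i : Fin 6 → F))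
    (b.linearIndependent.map' W'.subtype (Submodule.ker_subtype W'))
    (fun i j => h0' _ (b i).2 _ (b j).2)
  refine ⟨P, fun i => ?_⟩
  rw [hP]
  set v : Fin 6 → F := (b i : Fin 6 → F)
  have hv : ∀ y, H.h (N v) y = 0 := by
    intro y
    have hz : H.h v (N y) = 0 := h0' _ (b i).2 _ (hle ⟨y, rfl⟩)
    have e2 : H.h (k.1 v) y = H.h v (k.1 y) := by
      conv_lhs => rw [← hkk y]
      exact unit_h k v (k.1 y)
    rw [hN, H.add_left, e2, ← H.add_right, ← hN, hz]
  have := H.nondeg _ hv
  rw [hN] at this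
  exact (eq_neg_of_add_eq_zero_left this).trans (neg_eq_of_add_eq_zero_left (smul_add_self_zero hF v))

end CfsgLib.U6Cover
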