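import Cfsg.Agent.Lib.U6Cover.Bound

/-!
The orbits of the normaliser on the coordinates, and the arithmetic of class functions on them.
-/

set_option autoImplicit false

namespace CfsgLib.U6Cover

open Module CfsgLib.Classical.Herm HermSpace CfsgLib.UnitaryTransv

attribute [-simp] stdHerm_h

variable {F : Type*} [Field F] [Fintype F] {hF : Fintype.card F = 2 ^ 2} {C : Type*} [Group C]

theorem genPair_ok : (below 6 fun g => below 64 fun v =>
    Nat.blt (trans4 (genPair g).1 (genPair g).2 v) 64) = true := by decide +kernel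

theorem exists_gen (D : Data hF C) (P : Fr hF) {ω : F} (hω : ω ^ 2 + ω + 1 = 0) (i j : Fin 3) (hij : i ≠ j)
    (t : ℕ) (ht : t < 4) (a f : ℕ)
    (hspec : (below 64 fun v => below 3 fun l => Nat.beq (comp4 (trans4 a f v) l)
      (comp4 v l ^^^ (bif Nat.beq l i.1 then mul4 (comp4 v j.1) t else 0))) = true)
    (hlt : ∀ v < 64, trans4 a f v < 64) :
    ∃ c ∈ Subgroup.normalizer (D.A P : Set C),
      ∀ n, D.L (c * D.au P ω n * c⁻¹) (P.u ω (lin (transImgs a f) n)) := by
  obtain ⟨c, hc⟩ := D.exists_lift (P.det_gr i j hij (iota ω t))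
  refine ⟨c, D.conj_mem P hc fun k l => ?_, fun n => ?_⟩
  · rw [P.gr_e, HermSpace.add_left, HermSpace.smul_left, P.ee, P.ee, mul_zero, add_zero]
  · have hws : ∀ w ∈ baseVecs.map (trans4 a f), w < 64 := fun w hw => by
      obtain ⟨v, hv, rfl⟩ := List.mem_map.1 hw
      exact hlt v (baseVecs_lt v hv)
    have := D.conj_au P hω hc hws (by
      rw [List.map_map]
      refine List.map_congr_left fun v hv => ?_
      show (P.gr i j hij (iota ω t)).1 (P.vec ω v) = P.vec ω (trans4 a f v)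
      have hl : ∀ l : Fin 3, comp4 (trans4 a f v) l =
          comp4 v l ^^^ (bif Nat.beq l.1 i.1 then mul4 (comp4 v j.1) t else 0) := fun l =>
        Nat.eq_of_beq_eq_true (below_spec (below_spec hspec (baseVecs_lt v hv)) l.2)
      rw [P.vec_map, P.gr_e, P.gr_e, P.gr_e, Fr.vec, Fin.sum_univ_three, hl 0, hl 1, hl 2]
      have hi : ∀ l : Fin 3, iota ω (comp4 v l ^^^ (bif Nat.beq l.1 i.1 then mul4 (comp4 v j.1) t else 0)) =
          iota ω (comp4 v l) + if l = i then iota ω (comp4 v j) * iota ω t else 0 := fun l => by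
        by_cases h : l = i
        · subst h
          rw [Nat.beq_refl, cond_true, if_pos rfl, iota_xor hF hω (comp4_lt v _) (mul4_lt _ _),
            iota_mul hF hω (comp4_lt v _) ht]
        · have hb : Nat.beq l.1 i.1 = false := Bool.eq_false_iff.2 fun e =>
            h (Fin.ext (Nat.eq_of_beq_eq_true e))
          rw [hb, cond_false, if_neg h, Nat.xor_zero, add_zero]
      rw [hi, hi, hi]
      fin_cases i <;> fin_cases j <;> first | exact absurd rfl hij | (simp; module)) n
    rwa [List.map_map] at this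

theorem exists_genAct (D : Data hF C) (P : Fr hF) {ω : F} (hω : ω ^ 2 + ω + 1 = 0) (g : ℕ) (hg : g < 6) :
    ∃ c ∈ Subgroup.normalizer (D.A P : Set C),
      ∀ n, D.L (c * D.au P ω n * c⁻¹) (P.u ω (genAct g n)) := by
  have hlt : ∀ v < 64, trans4 (genPair g).1 (genPair g).2 v < 64 := fun v hv =>
    Nat.blt_eq.mp (below_spec (below_spec genPair_ok hg) hv)
  interval_cases g
  · exact exists_gen D P hω 0 1 (by decide) 1 (by norm_num) 1 4 (by decide +kernel) hlt
  · exact exists_gen D P hω 0 1 (by decide) 2 (by norm_num) 1 8 (by decide +kernel) hlt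
  · exact exists_gen D P hω 1 2 (by decide) 1 (by norm_num) 4 16 (by decide +kernel) hlt
  · exact exists_gen D P hω 0 2 (by decide) 1 (by norm_num) 1 16 (by decide +kernel) hlt
  · exact exists_gen D P hω 1 0 (by decide) 1 (by norm_num) 4 1 (by decide +kernel) hlt
  · exact exists_gen D P hω 2 1 (by decide) 1 (by norm_num) 16 4 (by decide +kernel) hlt

theorem prevGen_ok : (below 512 fun n => Nat.blt (prevGen n) 6 ||
    Nat.beq (prev n) n || Nat.beq n 0) = true := by decide +kernel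

/-- A function invariant under the six generators depends only on the rank. -/
theorem root_invariant {α : Type*} (f : ℕ → α) (hf : ∀ g < 6, ∀ n < 512, f (genAct g n) = f n) {n : ℕ}
    (hn : n < 512) (hn0 : n ≠ 0) :
    f n = f (root4 n) ∧ (root4 n = 1 ∨ root4 n = 3 ∨ root4 n = 7) := by
  have hstep : ∀ m < 512, f (prev m) = f m ∧ prev m < 512 := by
    intro m hm
    have hlt : prev m < 512 := by
      have : prev m ≤ 511 := Nat.and_le_right
      omega
    refine ⟨?_, hlt⟩
    have h1 := below_spec prevGen_ok hm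
    have h2 := below_spec forest_ok hm
    simp only [Bool.or_eq_true, Bool.and_eq_true, Nat.blt_eq] at h1 h2
    by_cases hpm : prev m = m
    · rw [hpm]
    by_cases hm0 : m = 0
    · exact absurd (by rw [hm0]; decide +kernel) hpm
    have hg : prevGen m < 6 := by
      rcases h1 with (h | h) | h
      · exact h
      · exact absurd (Nat.eq_of_beq_eq_true h) hpm
      · exact absurd (Nat.eq_of_beq_eq_true h) hm0
    rcases h2 with h | ⟨-, h | h⟩
    · exact absurd (Nat.eq_of_beq_eq_true h) hm0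
    · exact absurd (Nat.eq_of_beq_eq_true h) hpm
    · rw [← hf _ hg _ hlt, Nat.eq_of_beq_eq_true h]
  constructor
  · obtain ⟨a1, b1⟩ := hstep n hn
    obtain ⟨a2, b2⟩ := hstep _ b1
    obtain ⟨a3, b3⟩ := hstep _ b2
    obtain ⟨a4, b4⟩ := hstep _ b3
    obtain ⟨a5, b5⟩ := hstep _ b4
    obtain ⟨a6, b6⟩ := hstep _ b5
    obtain ⟨a7, b7⟩ := hstep _ b6
    obtain ⟨a8, -⟩ := hstep _ b7
    rw [root4, a8, a7, a6, a5, a4, a3, a2, a1]
  · have h2 := below_spec forest_ok hn
    simp only [Bool.or_eq_true, Bool.and_eq_true] at h2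
    rcases h2 with h | ⟨⟨(h | h) | h, -⟩, -⟩
    · exact absurd (Nat.eq_of_beq_eq_true h) hn0
    · exact Or.inl (Nat.eq_of_beq_eq_true h)
    · exact Or.inr (Or.inl (Nat.eq_of_beq_eq_true h))
    · exact Or.inr (Or.inr (Nat.eq_of_beq_eq_true h))

/-- The class function with given values. -/
def sel (c1 c2 c3 n : ℕ) : ℕ :=
  bif Nat.beq n 0 then 1 else bif Nat.beq (rank4 n) 1 then c1 else bif Nat.beq (rank4 n) 2 then c2 else c3

theorem eq_sel (f : ℕ → ℕ) (hf : ∀ g < 6, ∀ n < 512, f (genAct g n) = f n) (h0 : f 0 = 1) {n : ℕ}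
    (hn : n < 512) : f n = sel (f 1) (f 3) (f 7) n := by
  by_cases hn0 : n = 0
  · subst hn0; exact h0
  obtain ⟨h, hr⟩ := root_invariant f hf hn hn0
  rw [h]
  have hb : Nat.beq n 0 = false := Bool.eq_false_iff.2 fun e => hn0 (Nat.eq_of_beq_eq_true e)
  rcases hr with e | e | e <;> simp [sel, hb, rank4, e, Nat.beq]

/-- The sum over the coordinates. -/
def sumSel (c1 c2 c3 : ℕ) : ℕ := 1 + 21 * c1 + 210 * c2 + 280 * c3

theorem sum_sel (c1 c2 c3 : ℕ) : ∑ n ∈ Finset.range 512, sel c1 c2 c3 n = sumSel c1 c2 c3 := by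
  have e : ∀ n ∈ Finset.range 512, sel c1 c2 c3 n = (if (Nat.beq n 0) = true then 1 else 0) +
      c1 * (if (Nat.blt 0 n && Nat.beq (rank4 n) 1) = true then 1 else 0) +
      c2 * (if (Nat.blt 0 n && Nat.beq (rank4 n) 2) = true then 1 else 0) +
      c3 * (if (Nat.blt 0 n && Nat.beq (rank4 n) 3) = true then 1 else 0) := by
    intro n _
    rcases Nat.eq_zero_or_pos n with rfl | h
    · simp [sel, Nat.blt, Nat.ble]
    · have hb : Nat.beq n 0 = false := Bool.eq_false_iff.2 fun e => by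
        have := Nat.eq_of_beq_eq_true e; omega
      have hb' : Nat.blt 0 n = true := Nat.blt_eq.mpr h
      simp only [sel, hb, hb', rank4, Bool.true_and]
      cases Nat.beq (root4 n) 1 <;> cases Nat.beq (root4 n) 3 <;> simp [Nat.beq]
  have hc : ∀ p : ℕ → Bool, ∑ n ∈ Finset.range 512, (if p n = true then 1 else 0) = countBelow 512 p :=
    fun p => by rw [countBelow_eq, Finset.sum_boole]; rfl
  have h := rank_counts
  simp only [Bool.and_eq_true] at h
  rw [Finset.sum_congr rfl e, Finset.sum_add_distrib, Finset.sum_add_distrib, Finset.sum_add_distrib,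
    ← Finset.mul_sum, ← Finset.mul_sum, ← Finset.mul_sum, hc, hc, hc, hc, Nat.eq_of_beq_eq_true h.1.1,
    Nat.eq_of_beq_eq_true h.1.2, Nat.eq_of_beq_eq_true h.2,
    show countBelow 512 (fun n => Nat.beq n 0) = 1 by decide +kernel, sumSel]
  ring

/-- The number of pairs with a given difference. -/
def pairSel (c1 c2 c3 a : ℕ) : ℕ :=
  (List.range 512).foldl (fun s h => s + sel c1 c2 c3 h * sel c1 c2 c3 (h ^^^ a)) 0

theorem pairSel_eq (c1 c2 c3 a : ℕ) :
    pairSel c1 c2 c3 a = ∑ h ∈ Finset.range 512, sel c1 c2 c3 h * sel c1 c2 c3 (h ^^^ a) := by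
  unfold pairSel
  generalize 512 = N
  induction N with
  | zero => rfl
  | succ N ih => rw [List.range_succ, List.foldl_append, Finset.sum_range_succ, ← ih]; rfl

/-- The number of coordinates with value two. -/
def twoSel (c1 c2 c3 : ℕ) : ℕ := countBelow 512 fun h => Nat.beq (sel c1 c2 c3 h) 2

theorem options_ok : (below 3 fun c1 => below 3 fun c2 => below 3 fun c3 =>
    !(Nat.beq (366440137299948128422802227200 % sumSel c1 c2 c3) 0) ||
      (Nat.beq c1 1 && Nat.beq c2 0 && Nat.beq c3 0) || (Nat.beq c1 0 && Nat.beq c2 0 && Nat.beq c3 0) ||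
      (Nat.beq c1 1 && Nat.beq c2 1 && Nat.beq c3 1) || (Nat.beq c1 2 && Nat.beq c2 2 && Nat.beq c3 2) ||
      (Nat.beq c1 0 && Nat.beq c2 0 && Nat.beq c3 2) || (Nat.beq c1 1 && Nat.beq c2 1 && Nat.beq c3 2)) = true := by
  decide +kernel

theorem kill_002 : pairSel 0 0 2 7 ≠ 4 * twoSel 0 0 2 := by decide +kernel

theorem kill_112 : pairSel 1 1 2 7 ≠ 4 * twoSel 1 1 2 := by decide +kernel

attribute [local irreducible] pairSel twoSel in
theorem options (c1 c2 c3 : ℕ) (h1 : c1 ≤ 2) (h2 : c2 ≤ 2) (h3 : c3 ≤ 2)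
    (hd : sumSel c1 c2 c3 ∣ 366440137299948128422802227200)
    (hp : c3 = 2 → pairSel c1 c2 c3 7 = 4 * twoSel c1 c2 c3) :
    (c1, c2, c3) = (1, 0, 0) ∨ (c1, c2, c3) = (0, 0, 0) ∨ (c1, c2, c3) = (1, 1, 1) ∨ (c1, c2, c3) = (2, 2, 2) := by
  have h := below_spec (below_spec (below_spec options_ok (Nat.lt_succ_of_le h1)) (Nat.lt_succ_of_le h2))
    (Nat.lt_succ_of_le h3)
  rw [Nat.mod_eq_zero_of_dvd hd, Nat.beq_refl, Bool.not_true, Bool.false_or] at h
  simp only [Bool.or_eq_true, Bool.and_eq_true] at h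
  rcases h with ((((⟨⟨a, b⟩, c⟩ | ⟨⟨a, b⟩, c⟩) | ⟨⟨a, b⟩, c⟩) | ⟨⟨a, b⟩, c⟩) | ⟨⟨a, b⟩, c⟩) | ⟨⟨a, b⟩, c⟩ <;>
    obtain rfl := Nat.eq_of_beq_eq_true a <;> obtain rfl := Nat.eq_of_beq_eq_true b <;>
    obtain rfl := Nat.eq_of_beq_eq_true c
  · exact Or.inl rfl
  · exact Or.inr (Or.inl rfl)
  · exact Or.inr (Or.inr (Or.inl rfl))
  · exact Or.inr (Or.inr (Or.inr rfl))
  · exact absurd (hp rfl) (by exact kill_002)
  · exact absurd (hp rfl) (by exact kill_112)

end CfsgLib.U6Cover
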