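import Cfsg.Agent.Lib.U6Cover.Unique
import Cfsg.Agent.Lib.U6Cover.Orbits
import Cfsg.Agent.Lib.U6Cover.AutCard

/-!
The conjugates of the central involution of the double cover inside the elementary abelian group of order
`2 ^ 10`: they form one orbit of its normaliser, and there are four possibilities for their distribution.
-/

set_option autoImplicit false
set_option linter.unusedSectionVars false

namespace CfsgLib.U6Cover

variable {F : Type*} [Field F] [Fintype F] {hF : Fintype.card F = 2 ^ 2} {G : Type*} [Group G] [Finite G]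

/-- An involution whose centraliser is a double cover of `PSU(6, 2)`. -/
structure Ctx (hF : Fintype.card F = 2 ^ 2) (G : Type*) [Group G] where
  /-- the involution -/
  d : G
  /-- the cover -/
  D : Data hF ↥(Subgroup.centralizer ({d} : Set G))
  hz : (D.z : G) = d
  perfect : Group.IsPerfect ↥(Subgroup.centralizer ({d} : Set G))
  nwc : ∃ g : G, g * d * g⁻¹ ∈ Subgroup.centralizer ({d} : Set G) ∧ g * d * g⁻¹ ≠ d

variable (T : Ctx hF G) (P : Fr hF)

theorem Ctx.d_sq : T.d * T.d = 1 := by rw [← T.hz]; exact congrArg Subtype.val T.D.z_sq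

theorem Ctx.d_ne : T.d ≠ 1 := fun h => T.D.z_ne (Subtype.ext (T.hz.trans h))

/-- The image in the group of the subgroup of order `2 ^ 10`. -/
def Ctx.AG : Subgroup G := (T.D.A P).map (Subgroup.centralizer ({T.d} : Set G)).subtype

theorem Ctx.mem_AG {x : G} : x ∈ T.AG P ↔ ∃ c ∈ T.D.A P, (c : G) = x := Iff.rfl

theorem Ctx.AG_elem : Cfsg.IsElementaryAbelian 2 (T.AG P) := isElementary_map _ (T.D.isElementary P)

theorem Ctx.card_AG : Nat.card (T.AG P) = 2 ^ 10 := by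
  rw [Ctx.AG, Subgroup.card_map_of_injective Subtype.val_injective, T.D.card_A]

theorem Ctx.d_mem : T.d ∈ T.AG P := ⟨T.D.z, T.D.z_mem P, T.hz⟩

theorem Ctx.AG_le : T.AG P ≤ Subgroup.centralizer ({T.d} : Set G) := by
  rintro _ ⟨c, -, rfl⟩
  exact c.2

theorem Ctx.AG_comm {a b : G} (ha : a ∈ T.AG P) (hb : b ∈ T.AG P) : Commute a b := by
  obtain ⟨⟨⟨hc⟩⟩, -⟩ := T.AG_elem P
  exact congrArg Subtype.val (hc ⟨a, ha⟩ ⟨b, hb⟩)

/-- A conjugate of `d` in `A` is the image of `d` under the normaliser of `A`. -/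
theorem Ctx.exists_normalizer {y : G} (hy : y ∈ T.AG P) (hd : IsConj T.d y) :
    ∃ n ∈ Subgroup.normalizer (T.AG P : Set G), n * T.d * n⁻¹ = y := by
  obtain ⟨g, rfl⟩ := isConj_iff.1 hd
  have hle : conjSub g⁻¹ (T.AG P) ≤ Subgroup.centralizer ({T.d} : Set G) := fun x hx => by
    rw [mem_conjSub, inv_inv] at hx
    have h := T.AG_comm P hx hy
    rw [Subgroup.mem_centralizer_singleton_iff]
    calc x * T.d = g⁻¹ * ((g * x * g⁻¹) * (g * T.d * g⁻¹)) * g := by group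
      _ = g⁻¹ * ((g * T.d * g⁻¹) * (g * x * g⁻¹)) * g := by rw [h.eq]
      _ = T.d * x := by group
  set E := (conjSub g⁻¹ (T.AG P)).subgroupOf (Subgroup.centralizer ({T.d} : Set G))
  have hmap : E.map (Subgroup.centralizer ({T.d} : Set G)).subtype = conjSub g⁻¹ (T.AG P) := by
    rw [Subgroup.subgroupOf_map_subtype, inf_eq_left.2 hle]
  obtain ⟨c, hc⟩ := T.D.exists_conj P E
    (isElementary_of_map _ Subtype.val_injective (by rw [hmap]; exact isElementary_map _ (T.AG_elem P)))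
    (by
      rw [Nat.card_congr (Subgroup.subgroupOfEquivOfLe hle).toEquiv, conjSub,
        Subgroup.card_map_of_injective (MulAut.conj g⁻¹).injective, T.card_AG])
  have hiff : ∀ x : G, g * x * g⁻¹ ∈ T.AG P ↔ (c : G)⁻¹ * x * c ∈ T.AG P := by
    intro x
    have h1 : g * x * g⁻¹ ∈ T.AG P ↔ x ∈ conjSub g⁻¹ (T.AG P) := by rw [mem_conjSub, inv_inv]
    rw [h1, ← hmap, hc]
    constructor
    · rintro ⟨a, ha, rfl⟩
      exact ⟨_, mem_conjSub.1 ha, rfl⟩
    · rintro ⟨a, ha, hax⟩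
      refine ⟨c * a * c⁻¹, mem_conjSub.2 (by simpa [mul_assoc] using ha), ?_⟩
      show (c : G) * (a : G) * (c : G)⁻¹ = x
      rw [show (a : G) = (c : G)⁻¹ * x * c from hax]
      group
  refine ⟨g * c, Subgroup.mem_normalizer_iff''.2 fun x => ?_, ?_⟩
  · have := hiff (g⁻¹ * x * g)
    rw [show g * (g⁻¹ * x * g) * g⁻¹ = x by group] at this
    rw [this, mul_inv_rev]
    simp [mul_assoc]
  · have := Subgroup.mem_centralizer_singleton_iff.1 c.2
    calc g * (c : G) * T.d * (g * c)⁻¹ = g * ((c : G) * T.d) * (g * c)⁻¹ := by group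
      _ = g * (T.d * c) * (g * c)⁻¹ := by rw [this]
      _ = _ := by group

theorem Ctx.transitive : ∀ x ∈ T.AG P, ∀ y ∈ T.AG P, IsConj T.d x → IsConj T.d y →
    ∃ n ∈ Subgroup.normalizer (T.AG P : Set G), n * x * n⁻¹ = y := by
  intro x hx y hy hdx hdy
  obtain ⟨n, hn, rfl⟩ := T.exists_normalizer P hx hdx
  obtain ⟨m, hm, rfl⟩ := T.exists_normalizer P hy hdy
  exact ⟨m * n⁻¹, mul_mem hm (inv_mem hn), by group⟩

/-- Some conjugate of `d` other than `d` lies in `A`. -/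
theorem Ctx.exists_ne : ∃ x ∈ T.AG P, IsConj T.d x ∧ x ≠ T.d := by
  obtain ⟨g, hg, hne⟩ := T.nwc
  have hsq : (⟨g * T.d * g⁻¹, hg⟩ : ↥(Subgroup.centralizer ({T.d} : Set G))) * ⟨g * T.d * g⁻¹, hg⟩ = 1 := by
    apply Subtype.ext
    show g * T.d * g⁻¹ * (g * T.d * g⁻¹) = 1
    calc g * T.d * g⁻¹ * (g * T.d * g⁻¹) = g * (T.d * T.d) * g⁻¹ := by group
      _ = 1 := by rw [T.d_sq]; group
  obtain ⟨k, hk, hk2⟩ := T.D.exists_invol hsq
  obtain ⟨P', hP'⟩ := exists_frame_fixed hF k hk2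
  obtain ⟨c, hc⟩ := T.D.exists_conj P (T.D.A P') (T.D.isElementary P') (le_of_eq (T.D.card_A P').symm)
  have hmem : (⟨g * T.d * g⁻¹, hg⟩ : ↥(Subgroup.centralizer ({T.d} : Set G))) ∈ conjSub c (T.D.A P) :=
    hc ▸ ⟨k, hP', hk⟩
  rw [mem_conjSub] at hmem
  refine ⟨_, ⟨_, hmem, rfl⟩, isConj_iff.2 ⟨(c : G)⁻¹ * g, ?_⟩, fun h => hne ?_⟩
  · show _ = (c : G)⁻¹ * (g * T.d * g⁻¹) * c
    group
  · have h' : (c : G)⁻¹ * (g * T.d * g⁻¹) * c = T.d := h
    have hcd := Subgroup.mem_centralizer_singleton_iff.1 c.2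
    calc g * T.d * g⁻¹ = (c : G) * ((c : G)⁻¹ * (g * T.d * g⁻¹) * c) * (c : G)⁻¹ := by group
      _ = T.d := by rw [h', hcd, mul_inv_cancel_right]

/-- The indicator of the conjugates of `d`. -/
noncomputable def Ctx.chi (x : G) : ℕ := by
  classical exact if IsConj T.d x then 1 else 0

theorem Ctx.chi_le (x : G) : T.chi x ≤ 1 := by
  unfold Ctx.chi; split <;> norm_num

theorem Ctx.chi_eq_one {x : G} : T.chi x = 1 ↔ IsConj T.d x := by
  unfold Ctx.chi; split <;> simp_all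

theorem Ctx.chi_eq_zero {x : G} : T.chi x = 0 ↔ ¬ IsConj T.d x := by
  unfold Ctx.chi; split <;> simp_all

theorem Ctx.chi_conj (g x : G) : T.chi (g * x * g⁻¹) = T.chi x := by
  have h : IsConj x (g * x * g⁻¹) := isConj_iff.2 ⟨g, rfl⟩
  by_cases hx : IsConj T.d x
  · rw [T.chi_eq_one.2 hx, T.chi_eq_one.2 (hx.trans h)]
  · rw [T.chi_eq_zero.2 hx, T.chi_eq_zero.2 fun e => hx (e.trans h.symm)]

theorem Ctx.chi_one : T.chi 1 = 0 := T.chi_eq_zero.2 fun h => T.d_ne (isConj_one_left.1 h)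

theorem Ctx.chi_d : T.chi T.d = 1 := T.chi_eq_one.2 (IsConj.refl _)

/-- The image of the element with given coordinates. -/
noncomputable def Ctx.av (ω : F) (n : ℕ) : G := (T.D.au P ω n : G)

theorem Ctx.av_xor (ω : F) (a b : ℕ) : T.av P ω (a ^^^ b) = T.av P ω a * T.av P ω b :=
  congrArg Subtype.val (T.D.au_xor P ω a b)

theorem Ctx.av_zero (ω : F) : T.av P ω 0 = 1 := congrArg Subtype.val (T.D.au_zero P ω)

theorem Ctx.av_comm (ω : F) (n : ℕ) : Commute (T.av P ω n) T.d := by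
  have := congrArg Subtype.val (T.D.central (T.D.au P ω n))
  simp only [Subgroup.coe_mul, T.hz] at this
  exact this.symm

/-- The number of conjugates of `d` over a coordinate. -/
noncomputable def Ctx.cnt (ω : F) (n : ℕ) : ℕ := T.chi (T.av P ω n) + T.chi (T.av P ω n * T.d)

theorem Ctx.cnt_le (ω : F) (n : ℕ) : T.cnt P ω n ≤ 2 := by
  have := T.chi_le (T.av P ω n); have := T.chi_le (T.av P ω n * T.d); unfold Ctx.cnt; omega

theorem Ctx.cnt_zero (ω : F) : T.cnt P ω 0 = 1 := by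
  rw [Ctx.cnt, T.av_zero, one_mul, T.chi_one, T.chi_d]

theorem Ctx.cnt_gen {ω : F} (hω : ω ^ 2 + ω + 1 = 0) {g : ℕ} (hg : g < 6) (n : ℕ) :
    T.cnt P ω (genAct g n) = T.cnt P ω n := by
  obtain ⟨c, -, hc⟩ := exists_genAct T.D P hω g hg
  have hd : T.chi ((c : G) * (T.av P ω n * T.d) * (c : G)⁻¹) = T.chi (T.av P ω n * T.d) := T.chi_conj _ _
  have hv : T.chi ((c : G) * T.av P ω n * (c : G)⁻¹) = T.chi (T.av P ω n) := T.chi_conj _ _
  have hcd := Subgroup.mem_centralizer_singleton_iff.1 c.2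
  have e : (c : G) * (T.av P ω n * T.d) * (c : G)⁻¹ = (c : G) * T.av P ω n * (c : G)⁻¹ * T.d := by
    calc (c : G) * (T.av P ω n * T.d) * (c : G)⁻¹
        = (c : G) * T.av P ω n * (c : G)⁻¹ * ((c : G) * T.d) * (c : G)⁻¹ := by group
      _ = _ := by rw [hcd]; group
  rw [e] at hd
  rw [Ctx.cnt, Ctx.cnt]
  rcases (T.D.L_au P ω (genAct g n)).eq_or (hc n) with h | h
  · have h' : (c : G) * T.av P ω n * (c : G)⁻¹ = T.av P ω (genAct g n) := congrArg Subtype.val h
    rw [h'] at hd hv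
    rw [hd, hv]
  · have h' : (c : G) * T.av P ω n * (c : G)⁻¹ = T.av P ω (genAct g n) * T.d := by
      have := congrArg Subtype.val h
      simp only [Subgroup.coe_mul, Subgroup.coe_inv, T.hz] at this
      exact this
    rw [h', mul_assoc, T.d_sq, mul_one] at hd
    rw [h'] at hv
    rw [hd, hv, add_comm]

/-- The element of `A` with given coordinates and sign. -/
noncomputable def Ctx.elv (ω : F) (p : Fin 512 × Bool) : G := (T.D.el P ω p : G)

theorem Ctx.elv_false (ω : F) (n : Fin 512) : T.elv P ω (n, false) = T.av P ω n := by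
  simp [Ctx.elv, Data.el, Ctx.av]

theorem Ctx.elv_true (ω : F) (n : Fin 512) : T.elv P ω (n, true) = T.av P ω n * T.d := by
  simp [Ctx.elv, Data.el, Ctx.av, T.hz]

theorem Ctx.elv_spec {ω : F} (hω : ω ^ 2 + ω + 1 = 0) :
    (∀ p, T.elv P ω p ∈ T.AG P) ∧ Function.Injective (T.elv P ω) ∧
      ∀ x ∈ T.AG P, ∃ p, T.elv P ω p = x := by
  obtain ⟨h1, h2, h3⟩ := T.D.el_bij P hω
  refine ⟨fun p => ⟨_, h1 p, rfl⟩, Subtype.val_injective.comp h2, ?_⟩
  rintro _ ⟨c, hc, rfl⟩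
  obtain ⟨p, rfl⟩ := h3 c hc
  exact ⟨p, rfl⟩

theorem Ctx.sum_elv (ω : F) (f : G → ℕ) : ∑ p, f (T.elv P ω p) =
    ∑ n ∈ Finset.range 512, (f (T.av P ω n) + f (T.av P ω n * T.d)) := by
  rw [Fintype.sum_prod_type, ← Fin.sum_univ_eq_sum_range (fun n => f (T.av P ω n) + f (T.av P ω n * T.d))]
  exact Finset.sum_congr rfl fun n _ => by rw [Fintype.sum_bool, T.elv_true, T.elv_false, add_comm]

theorem Ctx.ncard_X {ω : F} (hω : ω ^ 2 + ω + 1 = 0) :
    Set.ncard {x : G | x ∈ T.AG P ∧ IsConj T.d x} = ∑ n ∈ Finset.range 512, T.cnt P ω n := by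
  classical
  obtain ⟨h1, h2, h3⟩ := T.elv_spec P hω
  have hset : {x : G | x ∈ T.AG P ∧ IsConj T.d x} =
      ↑((Finset.univ.filter fun p => IsConj T.d (T.elv P ω p)).image (T.elv P ω)) := by
    ext x
    simp only [Set.mem_ofPred_eq, Finset.coe_image, Finset.coe_filter, Finset.mem_univ, true_and,
      Set.mem_image]
    constructor
    · rintro ⟨hx, hd⟩
      obtain ⟨p, rfl⟩ := h3 x hx
      exact ⟨p, hd, rfl⟩
    · rintro ⟨p, hp, rfl⟩
      exact ⟨h1 p, hp⟩
  rw [hset, Set.ncard_coe_finset, Finset.card_image_of_injective _ h2, Finset.card_filter]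
  unfold Ctx.cnt
  rw [← T.sum_elv P ω T.chi]
  refine Finset.sum_congr rfl fun p _ => ?_
  unfold Ctx.chi
  split <;> simp_all

/-- The number of conjugates of `d` in `A` whose product with an element is also one. -/
noncomputable def Ctx.n3 (ω : F) (y : G) : ℕ := ∑ p, T.chi (T.elv P ω p) * T.chi (T.elv P ω p * y)

theorem Ctx.n3_eq {ω : F} (hω : ω ^ 2 + ω + 1 = 0) {y : G} (hy : y ∈ T.AG P) (hd : IsConj T.d y) :
    T.n3 P ω y = T.n3 P ω T.d := by
  obtain ⟨n, hn, rfl⟩ := T.exists_normalizer P hy hd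
  obtain ⟨h1, h2, h3⟩ := T.elv_spec P hω
  choose σ hσ using fun p => h3 _ ((Subgroup.mem_normalizer_iff.1 hn _).1 (h1 p))
  have hb : Function.Bijective σ := by
    refine (Finite.injective_iff_bijective).1 fun a b e => h2 ?_
    have := (hσ a).symm.trans (e ▸ hσ b)
    simpa using this
  unfold Ctx.n3
  refine (Fintype.sum_bijective σ hb _ _ fun p => ?_).symm
  rw [hσ, T.chi_conj, show n * T.elv P ω p * n⁻¹ * (n * T.d * n⁻¹) = n * (T.elv P ω p * T.d) * n⁻¹ by group,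
    T.chi_conj]

theorem Ctx.n3_d (ω : F) :
    T.n3 P ω T.d = 2 * ∑ n ∈ Finset.range 512, (if T.cnt P ω n = 2 then 1 else 0) := by
  rw [Ctx.n3, T.sum_elv P ω fun x => T.chi x * T.chi (x * T.d), Finset.mul_sum]
  refine Finset.sum_congr rfl fun n _ => ?_
  rw [mul_assoc (T.av P ω n), T.d_sq, mul_one]
  unfold Ctx.cnt
  have := T.chi_le (T.av P ω n)
  have := T.chi_le (T.av P ω n * T.d)
  generalize T.chi (T.av P ω n) = a at *
  generalize T.chi (T.av P ω n * T.d) = b at *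
  interval_cases a <;> interval_cases b <;> rfl

theorem Ctx.pair_identity (ω : F) (m : ℕ) :
    T.n3 P ω (T.av P ω m) + T.n3 P ω (T.av P ω m * T.d) =
      ∑ h ∈ Finset.range 512, T.cnt P ω h * T.cnt P ω (h ^^^ m) := by
  rw [Ctx.n3, Ctx.n3, T.sum_elv P ω fun x => T.chi x * T.chi (x * T.av P ω m),
    T.sum_elv P ω fun x => T.chi x * T.chi (x * (T.av P ω m * T.d)), ← Finset.sum_add_distrib]
  refine Finset.sum_congr rfl fun n _ => ?_
  have hcm : Commute (T.av P ω m) T.d := T.av_comm P ω m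
  have e2 : T.av P ω n * T.d * T.av P ω m = T.av P ω n * T.av P ω m * T.d := by
    rw [mul_assoc, ← hcm.eq, mul_assoc]
  have e3 : T.av P ω n * T.d * (T.av P ω m * T.d) = T.av P ω n * T.av P ω m := by
    rw [← mul_assoc, e2, mul_assoc, T.d_sq, mul_one]
  rw [e2, e3, ← mul_assoc, ← T.av_xor]
  unfold Ctx.cnt
  ring

/-- The four possibilities. -/
theorem Ctx.options {ω : F} (hω : ω ^ 2 + ω + 1 = 0) :
    ∃ c1 c2 c3, (∀ n < 512, T.cnt P ω n = sel c1 c2 c3 n) ∧
      ((c1, c2, c3) = (1, 0, 0) ∨ (c1, c2, c3) = (1, 1, 1) ∨ (c1, c2, c3) = (2, 2, 2)) := by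
  have hsel : ∀ n < 512, T.cnt P ω n = sel (T.cnt P ω 1) (T.cnt P ω 3) (T.cnt P ω 7) n :=
    fun n hn => eq_sel (T.cnt P ω) (fun g hg n _ => T.cnt_gen P hω hg n) (T.cnt_zero P ω) hn
  refine ⟨_, _, _, hsel, ?_⟩
  set c1 := T.cnt P ω 1
  set c2 := T.cnt P ω 3
  set c3 := T.cnt P ω 7
  have hsum : ∑ n ∈ Finset.range 512, T.cnt P ω n = sumSel c1 c2 c3 := by
    rw [← sum_sel]
    exact Finset.sum_congr rfl fun n hn => hsel n (Finset.mem_range.1 hn)
  have hX : {x : G | x ∈ T.AG P ∧ IsConj T.d x} =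
      {x : G | ∃ n ∈ Subgroup.normalizer (T.AG P : Set G), x = n * T.d * n⁻¹} := by
    ext x
    constructor
    · rintro ⟨hx, hd⟩
      obtain ⟨n, hn, e⟩ := T.exists_normalizer P hx hd
      exact ⟨n, hn, e.symm⟩
    · rintro ⟨n, hn, rfl⟩
      exact ⟨(Subgroup.mem_normalizer_iff.1 hn _).1 (T.d_mem P), isConj_iff.2 ⟨n, rfl⟩⟩
  have hdvd : sumSel c1 c2 c3 ∣ 366440137299948128422802227200 := by
    rw [← hsum, ← T.ncard_X P hω, hX]
    exact ncard_orbit_dvd _ (T.AG_elem P) (T.card_AG P) (T.d_mem P)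
  have hpair : c3 = 2 → pairSel c1 c2 c3 7 = 4 * twoSel c1 c2 c3 := by
    intro h
    obtain ⟨h1, -, -⟩ := T.elv_spec P hω
    have ha : T.chi (T.av P ω 7) = 1 ∧ T.chi (T.av P ω 7 * T.d) = 1 := by
      have h' : T.chi (T.av P ω 7) + T.chi (T.av P ω 7 * T.d) = 2 := h
      have := T.chi_le (T.av P ω 7); have := T.chi_le (T.av P ω 7 * T.d); omega
    have hmem : T.av P ω 7 ∈ T.AG P := ⟨_, T.D.au_mem P hω 7, rfl⟩
    have e := T.pair_identity P ω 7
    rw [T.n3_eq P hω hmem (T.chi_eq_one.1 ha.1), T.n3_eq P hω (mul_mem hmem (T.d_mem P)) (T.chi_eq_one.1 ha.2),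
      T.n3_d] at e
    have e1 : ∑ n ∈ Finset.range 512, (if T.cnt P ω n = 2 then 1 else 0) = twoSel c1 c2 c3 := by
      rw [twoSel, countBelow_eq, Finset.card_filter]
      refine Finset.sum_congr rfl fun n hn => ?_
      rw [hsel n (Finset.mem_range.1 hn)]
      by_cases h2 : sel c1 c2 c3 n = 2
      · rw [if_pos h2, if_pos (by rw [h2]; rfl)]
      · rw [if_neg h2, if_neg fun e => h2 (Nat.eq_of_beq_eq_true e)]
    have e2 : ∑ h ∈ Finset.range 512, T.cnt P ω h * T.cnt P ω (h ^^^ 7) = pairSel c1 c2 c3 7 := by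
      rw [pairSel_eq]
      refine Finset.sum_congr rfl fun n hn => ?_
      have hn' := Finset.mem_range.1 hn
      rw [hsel n hn', hsel _ (Nat.xor_lt_two_pow (n := 9) hn' (by norm_num))]
    rw [e1, e2] at e
    omega
  have hle : ∀ n, T.cnt P ω n ≤ 2 := T.cnt_le P ω
  rcases CfsgLib.U6Cover.options c1 c2 c3 (hle 1) (hle 3) (hle 7) hdvd hpair with h | h | h | h
  · exact Or.inl h
  · exfalso
    obtain ⟨x, hx, hd, hne⟩ := T.exists_ne P
    obtain ⟨-, -, h3⟩ := T.elv_spec P hω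
    obtain ⟨⟨n, b⟩, rfl⟩ := h3 x hx
    have hn : T.cnt P ω n = sel 0 0 0 n := by
      rw [hsel n n.2]
      simp only [Prod.mk.injEq] at h
      rw [h.1, h.2.1, h.2.2]
    have hd' := T.chi_eq_one.2 hd
    by_cases hn0 : (n : ℕ) = 0
    · cases b
      · rw [T.elv_false, hn0, T.av_zero, T.chi_one] at hd'
        exact zero_ne_one hd'
      · rw [T.elv_true, hn0, T.av_zero, one_mul] at hne
        exact hne rfl
    · have hb : Nat.beq (n : ℕ) 0 = false := Bool.eq_false_iff.2 fun e => hn0 (Nat.eq_of_beq_eq_true e)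
      simp only [sel, hb, cond_false, Bool.cond_self] at hn
      unfold Ctx.cnt at hn
      cases b
      · rw [T.elv_false] at hd'; omega
      · rw [T.elv_true] at hd'; omega
  · exact Or.inr (Or.inl h)
  · exact Or.inr (Or.inr h)

end CfsgLib.U6Cover
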