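import Cfsg.Agent.Lib.U6Cover.Transv

/-!
In a central extension by an exponent-two group of `SU(n, 2)`, `n ≥ 5`, lifts of orthogonal transvections commute,
lifts of transvections are involutions, and every involution lifts to an involution.
-/

set_option autoImplicit false

namespace CfsgLib.U6Cover

open CfsgLib.Classical.Herm HermSpace CfsgLib.UnitaryTransv

variable {F : Type*} [Field F] [Fintype F] {n : ℕ} {hF : Fintype.card F = 2 ^ 2}
  {Γ : Type*} [Group Γ]

/-- A map onto the determinant one isometries with central kernel. -/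
structure IsCentralCover (hF : Fintype.card F = 2 ^ 2) (ψ : Γ →* Unit' (stdHerm hF n)) : Prop where
  central : ∀ c, ψ c = 1 → ∀ x, c * x = x * c
  lift : ∀ k, detHom (stdHerm hF n) k = 1 → ∃ c, ψ c = k

/-- A map onto the determinant one isometries with central kernel of exponent two. -/
structure IsCover (hF : Fintype.card F = 2 ^ 2) (ψ : Γ →* Unit' (stdHerm hF n)) : Prop
    extends IsCentralCover hF ψ where
  sq : ∀ c, ψ c = 1 → c * c = 1

/-- An element commuting with the images of two elements fixes their commutator. -/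
theorem commute_comm {a b x : Γ} {c d : Γ} (hc : x * a * x⁻¹ = c * a) (hd : x * b * x⁻¹ = d * b)
    (hcc : ∀ y, c * y = y * c) (hdc : ∀ y, d * y = y * d) :
    Commute x (a * b * a⁻¹ * b⁻¹) := by
  have hci : ∀ y, c⁻¹ * y = y * c⁻¹ := fun y => by
    rw [inv_mul_eq_iff_eq_mul, ← mul_assoc, hcc, mul_inv_cancel_right]
  have hdi : ∀ y, d⁻¹ * y = y * d⁻¹ := fun y => by
    rw [inv_mul_eq_iff_eq_mul, ← mul_assoc, hdc, mul_inv_cancel_right]
  have e : x * (a * b * a⁻¹ * b⁻¹) * x⁻¹ = a * b * a⁻¹ * b⁻¹ := by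
    calc x * (a * b * a⁻¹ * b⁻¹) * x⁻¹
        = (x * a * x⁻¹) * (x * b * x⁻¹) * (x * a * x⁻¹)⁻¹ * (x * b * x⁻¹)⁻¹ := by group
      _ = c * a * (d * b) * (c * a)⁻¹ * (d * b)⁻¹ := by rw [hc, hd]
      _ = c * (a * (d * b) * a⁻¹) * c⁻¹ * (b⁻¹ * d⁻¹) := by group
      _ = (a * (d * b) * a⁻¹) * (b⁻¹ * d⁻¹) := by rw [hcc, mul_inv_cancel_right]
      _ = a * d * (b * a⁻¹ * b⁻¹) * d⁻¹ := by group
      _ = d * (a * b * a⁻¹ * b⁻¹) * d⁻¹ := by rw [← hdc a]; group
      _ = _ := by rw [hdc, mul_inv_cancel_right]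
  exact mul_inv_eq_iff_eq_mul.mp e

theorem conj_of_commute {ψ : Γ →* Unit' (stdHerm hF n)} (hψ : IsCentralCover hF ψ) {x a : Γ}
    (h : Commute (ψ x) (ψ a)) : ∃ c, x * a * x⁻¹ = c * a ∧ ∀ y, c * y = y * c := by
  refine ⟨x * a * x⁻¹ * a⁻¹, by group, hψ.central _ ?_⟩
  rw [map_mul, map_mul, map_mul, map_inv, map_inv, h.eq]
  group

theorem commute_of_map_eq {ψ : Γ →* Unit' (stdHerm hF n)} (hψ : IsCentralCover hF ψ) {x y z : Γ}
    (h : Commute x y) (e : ψ z = ψ y) : Commute x z := by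
  have hk : ψ (z * y⁻¹) = 1 := by rw [map_mul, map_inv, e, mul_inv_cancel]
  have hc := hψ.central _ hk
  have : z = z * y⁻¹ * y := by group
  rw [this]
  exact Commute.mul_right (hc x).symm h

theorem sq_of_map_eq {ψ : Γ →* Unit' (stdHerm hF n)} (hψ : IsCover hF ψ) {y z : Γ}
    (h : y * y = 1) (e : ψ z = ψ y) : z * z = 1 := by
  have hk : ψ (z * y⁻¹) = 1 := by rw [map_mul, map_inv, e, mul_inv_cancel]
  have hc : Commute (z * y⁻¹) y := hψ.central _ hk y
  calc z * z = (z * y⁻¹ * y) * (z * y⁻¹ * y) := by group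
    _ = 1 := by rw [hc.symm.mul_mul_mul_comm, hψ.sq _ hk, h, one_mul]

/-- Lifts of orthogonal transvections commute. -/
theorem commute_lift {ψ : Γ →* Unit' (stdHerm hF n)} (hψ : IsCentralCover hF ψ) (hn : 5 ≤ n)
    {v w : Fin n → F} (hv : (stdHerm hF n).h v v = 0) (hw : (stdHerm hF n).h w w = 0)
    (hvw : (stdHerm hF n).h v w = 0) {x y : Γ} (hx : ψ x = tv hF v hv) (hy : ψ y = tv hF w hw) :
    Commute x y := by
  obtain ⟨A, B, hA, hB, hAB, cA, cB⟩ := exists_comm_fix hF hn v w hv hw hvw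
  obtain ⟨a, ha⟩ := hψ.lift A hA
  obtain ⟨b, hb⟩ := hψ.lift B hB
  obtain ⟨c, hc, hcc⟩ := conj_of_commute hψ (x := x) (a := a) (by rwa [hx, ha])
  obtain ⟨d, hd, hdc⟩ := conj_of_commute hψ (x := x) (a := b) (by rwa [hx, hb])
  refine commute_of_map_eq hψ (commute_comm hc hd hcc hdc) ?_
  rw [hy, map_mul, map_mul, map_mul, map_inv, map_inv, ha, hb, hAB]
  group

/-- Some lift of a transvection is an involution. -/
theorem exists_sq_lift_tv {ψ : Γ →* Unit' (stdHerm hF n)} (hψ : IsCentralCover hF ψ) (hn : 5 ≤ n)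
    {u : Fin n → F} (hu : (stdHerm hF n).h u u = 0) : ∃ w, w * w = 1 ∧ ψ w = tv hF u hu := by
  obtain ⟨A, B, m, hm, hum, hB, hmu, hA, hA2, hAB⟩ := exists_comm_sq hF hn u hu
  have hd : ∀ (v : Fin n → F) hv, detHom (stdHerm hF n) (tv hF v hv) = 1 := det_tv hF
  obtain ⟨a₁, h1⟩ := hψ.lift _ (hd (u + m) hum)
  obtain ⟨a₂, h2⟩ := hψ.lift _ (hd u hu)
  obtain ⟨a₃, h3⟩ := hψ.lift _ (hd m hm)
  obtain ⟨b, hb⟩ := hψ.lift B hB
  set a := a₁ * a₂ * a₃ with hadef
  have ha : ψ a = A := by rw [hadef, map_mul, map_mul, h1, h2, h3, hA]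
  set w := a * b * a⁻¹ * b⁻¹ with hwdef
  have hw : ψ w = tv hF u hu := by
    rw [hwdef, map_mul, map_mul, map_mul, map_inv, map_inv, ha, hb, hAB]
    group
  have humu : (stdHerm hF n).h (u + m) u = 0 := by rw [HermSpace.add_left, hu, hmu, add_zero]
  have haw : Commute a w :=
    ((commute_lift hψ hn hum hu humu h1 hw).mul_left (commute_lift hψ hn hu hu hu h2 hw)).mul_left
      (commute_lift hψ hn hm hu hmu h3 hw)
  have hk : ψ (a * a) = 1 := by rw [map_mul, ha, hA2]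
  have hc := hψ.central _ hk
  have e : a * w * a⁻¹ = w⁻¹ := by
    calc a * w * a⁻¹ = (a * a) * b * a⁻¹ * b⁻¹ * a⁻¹ := by rw [hwdef]; group
      _ = b * (a * a) * a⁻¹ * b⁻¹ * a⁻¹ := by rw [hc b]
      _ = w⁻¹ := by rw [hwdef]; group
  rw [haw.eq, mul_inv_cancel_right] at e
  refine ⟨w, ?_, hw⟩
  nth_rw 2 [e]
  exact mul_inv_cancel w

/-- Lifts of transvections are involutions. -/
theorem sq_lift_tv {ψ : Γ →* Unit' (stdHerm hF n)} (hψ : IsCover hF ψ) (hn : 5 ≤ n)
    {u : Fin n → F} (hu : (stdHerm hF n).h u u = 0) {y : Γ} (hy : ψ y = tv hF u hu) : y * y = 1 := by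
  obtain ⟨w, hw, hψw⟩ := exists_sq_lift_tv hψ.toIsCentralCover hn hu
  exact sq_of_map_eq hψ hw (hy.trans hψw.symm)

theorem exists_lift_involution_aux {ψ : Γ →* Unit' (stdHerm hF n)} (hψ : IsCover hF ψ) (hn : 5 ≤ n) :
    ∀ (N : ℕ) (k : Unit' (stdHerm hF n)), Nat.card {x : Fin n → F // k.1 x ≠ x} ≤ N → k * k = 1 →
      ∃ y, y * y = 1 ∧ ψ y = k ∧ ∀ (w : Fin n → F) (hw : (stdHerm hF n).h w w = 0),
        (∀ x, (stdHerm hF n).h w (k.1 x + x) = 0) → ∀ z, ψ z = tv hF w hw → Commute y z := by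
  intro N
  induction N with
  | zero =>
    intro k hN _
    refine ⟨1, one_mul 1, ?_, fun w hw _ z _ => Commute.one_left z⟩
    rw [map_one]
    refine (unit_ext fun x => ?_).symm
    rw [one_apply]
    by_contra hne
    have : 0 < Nat.card {x : Fin n → F // k.1 x ≠ x} := Nat.card_pos_iff.2 ⟨⟨⟨x, hne⟩⟩, inferInstance⟩
    omega
  | succ N ih =>
    intro k hN hk
    by_cases hk1 : k = 1
    · exact ⟨1, one_mul 1, by rw [map_one, hk1], fun w hw _ z _ => Commute.one_left z⟩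
    obtain ⟨v, hv, a, hva, hk', hsub, ha', ha, himg⟩ := exists_peel hF k hk hk1
    set k' := k * tv hF v hv with hk'def
    have hlt : Nat.card {x : Fin n → F // k'.1 x ≠ x} < Nat.card {x : Fin n → F // k.1 x ≠ x} := by
      rw [← Set.coe_setOf, ← Set.coe_setOf, Nat.card_coe_set_eq, Nat.card_coe_set_eq]
      exact Set.ncard_lt_ncard ⟨fun x hx e => hx (hsub x e), fun h => h ha ha'⟩ (Set.toFinite _)
    obtain ⟨y, hy, hψy, hcomm⟩ := ih k' (by omega) hk'
    obtain ⟨z, hz⟩ := hψ.lift _ (det_tv hF v hv)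
    have hvk' : ∀ x, (stdHerm hF n).h v (k'.1 x + x) = 0 := by
      intro x
      obtain ⟨b, hb⟩ := himg x
      rw [hb, hva]
      have hfix : k.1 (k.1 a + a) = k.1 a + a := by
        rw [map_add, ← CfsgLib.Classical.Herm.mul_apply, hk, one_apply, add_comm]
      have := unit_h_fix k hfix b
      rwa [HermSpace.sub_right, ← neg_eq hF ((stdHerm hF n).h _ b), sub_neg_eq_add,
        ← HermSpace.add_right] at this
    have hyz := hcomm v hv hvk' z hz
    refine ⟨y * z, ?_, ?_, ?_⟩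
    · rw [hyz.symm.mul_mul_mul_comm, hy, sq_lift_tv hψ hn hv hz, one_mul]
    · rw [map_mul, hψy, hz, hk'def, mul_assoc, tv_sq, mul_one]
    · intro w hw hwk z' hz'
      refine (hcomm w hw (fun x => ?_) z' hz').mul_left (commute_lift hψ.toIsCentralCover hn hv hw ?_ hz hz')
      · obtain ⟨b, hb⟩ := himg x
        rw [hb]; exact hwk b
      · exact (stdHerm hF n).h_comm_zero (hva ▸ hwk a)

/-- Every involution lifts to an involution. -/
theorem exists_lift_involution {ψ : Γ →* Unit' (stdHerm hF n)} (hψ : IsCover hF ψ) (hn : 5 ≤ n)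
    {k : Unit' (stdHerm hF n)} (hk : k * k = 1) : ∃ y, y * y = 1 ∧ ψ y = k := by
  obtain ⟨y, h1, h2, -⟩ := exists_lift_involution_aux hψ hn _ k le_rfl hk
  exact ⟨y, h1, h2⟩

variable {C K : Type*} [Group C]

/-- The pullback of a map to `PSU(n, 2)` along the projection from `SU(n, 2)`. -/
def pullback (θ : C →* Cfsg.PSU n F 2) : Subgroup (C × Cfsg.SU n F 2) where
  carrier := {p | θ p.1 = QuotientGroup.mk p.2}
  one_mem' := by simp
  mul_mem' {a b} ha hb := by
    simp only [Set.mem_ofPred_eq] at *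
    rw [Prod.fst_mul, Prod.snd_mul, map_mul, ha, hb, QuotientGroup.mk_mul]
  inv_mem' {a} ha := by
    simp only [Set.mem_ofPred_eq] at *
    rw [Prod.fst_inv, Prod.snd_inv, map_inv, ha, QuotientGroup.mk_inv]

theorem isCentralCover_pullback (θ : C →* Cfsg.PSU n F 2) (hs : Function.Surjective θ)
    (hc : θ.ker ≤ Subgroup.center C) :
    IsCentralCover hF ((emb hF n).comp ((MonoidHom.snd C _).comp (pullback θ).subtype)) := by
  refine ⟨fun p hp x => ?_, fun k hk => ?_⟩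
  · have h1 : p.1.2 = 1 := emb_injective hF n ((show emb hF n p.1.2 = 1 from hp).trans (map_one _).symm)
    have e1 : p.1.1 ∈ θ.ker := by rw [MonoidHom.mem_ker, p.2, h1]; rfl
    refine Subtype.ext (Prod.ext (Subgroup.mem_center_iff.1 (hc e1) x.1.1).symm ?_)
    show p.1.2 * x.1.2 = x.1.2 * p.1.2
    rw [h1, one_mul, mul_one]
  · obtain ⟨g, hg⟩ := exists_emb_eq hF k hk
    obtain ⟨c, hc'⟩ := hs (QuotientGroup.mk g)
    exact ⟨⟨(c, g), hc'⟩, hg⟩

theorem isCover_pullback (θ : C →* Cfsg.PSU n F 2) (hs : Function.Surjective θ)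
    (hc : θ.ker ≤ Subgroup.center C) (h2 : ∀ c ∈ θ.ker, c * c = 1) :
    IsCover hF ((emb hF n).comp ((MonoidHom.snd C _).comp (pullback θ).subtype)) := by
  have hker : ∀ p : pullback θ, emb hF n p.1.2 = 1 → p.1.2 = 1 ∧ p.1.1 ∈ θ.ker := by
    intro p hp
    have h1 : p.1.2 = 1 := emb_injective hF n (hp.trans (map_one _).symm)
    refine ⟨h1, ?_⟩
    rw [MonoidHom.mem_ker, p.2, h1]; rfl
  refine ⟨isCentralCover_pullback θ hs hc, fun p hp => ?_⟩
  obtain ⟨e2, e1⟩ := hker p hp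
  refine Subtype.ext (Prod.ext (h2 _ e1) ?_)
  show p.1.2 * p.1.2 = 1
  rw [e2, one_mul]

/-- In a central extension of `PSU(6, 2)` by a group of exponent two every involution lifts to an involution. -/
theorem exists_involution_lift_six (hF : Fintype.card F = 2 ^ 2) (θ : C →* Cfsg.PSU 6 F 2)
    (hs : Function.Surjective θ) (hc : θ.ker ≤ Subgroup.center C) (h2 : ∀ c ∈ θ.ker, c * c = 1)
    (hZ : Nat.card (Subgroup.center (Cfsg.SU 6 F 2)) = 3)
    {x : Cfsg.PSU 6 F 2} (hx : x * x = 1) : ∃ y : C, y * y = 1 ∧ θ y = x := by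
  obtain ⟨g, rfl⟩ := QuotientGroup.mk_surjective x
  have hg : g * g ∈ Subgroup.center (Cfsg.SU 6 F 2) := by
    rwa [← QuotientGroup.mk_mul, QuotientGroup.eq_one_iff] at hx
  have hz : (g * g) ^ 3 = 1 := by
    have := pow_card_eq_one' (x := (⟨g * g, hg⟩ : Subgroup.center (Cfsg.SU 6 F 2)))
    rw [hZ] at this
    exact congrArg Subtype.val this
  have hk : emb hF 6 (g ^ 3) * emb hF 6 (g ^ 3) = 1 := by
    rw [← map_mul, ← (Commute.refl g).mul_pow, hz, map_one]
  obtain ⟨y, hy, hye⟩ := exists_lift_involution (isCover_pullback (hF := hF) θ hs hc h2) (by norm_num) hk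
  refine ⟨y.1.1, congrArg (fun p : pullback θ => p.1.1) hy, ?_⟩
  rw [y.2, show y.1.2 = g ^ 3 from emb_injective hF 6 hye, pow_succ, QuotientGroup.mk_mul,
    (QuotientGroup.eq_one_iff _).2 (by rw [pow_two]; exact hg), one_mul]

end CfsgLib.U6Cover
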