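import Cfsg.Agent.Lib.U6Cover.Span
import Cfsg.Agent.Lib.U6Cover.Lift
import Cfsg.Prelude.Def_Transfer

/-!
Lifts of isometries to a double cover of `PSU(6, 2)` and the elementary abelian subgroup of order `2 ^ 10`
over the pointwise stabiliser of a maximal totally isotropic subspace.
-/

set_option autoImplicit false

namespace CfsgLib.U6Cover

open Module CfsgLib.Classical.Herm HermSpace CfsgLib.UnitaryTransv

attribute [-simp] stdHerm_h

variable {F : Type*} [Field F] [Fintype F] {hF : Fintype.card F = 2 ^ 2} {C : Type*} [Group C]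

/-- A double cover of `PSU(6, 2)`. -/
structure Data (hF : Fintype.card F = 2 ^ 2) (C : Type*) [Group C] where
  /-- the projection -/
  θ : C →* Cfsg.PSU 6 F 2
  /-- the central involution -/
  z : C
  surj : Function.Surjective θ
  z_sq : z * z = 1
  z_ne : z ≠ 1
  ker : ∀ c, θ c = 1 ↔ c = 1 ∨ c = z
  central : ∀ x, z * x = x * z

/-- `k` is an isometry over `c`. -/
def Data.L (D : Data hF C) (c : C) (k : Unit' (stdHerm hF 6)) : Prop :=
  ∃ g, emb hF 6 g = k ∧ D.θ c = QuotientGroup.mk g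

/-- The pairs of an element and an isometry over it. -/
def Data.pairs (D : Data hF C) : Submonoid (C × Unit' (stdHerm hF 6)) where
  carrier := {p | D.L p.1 p.2}
  one_mem' := ⟨1, map_one _, by rw [Prod.fst_one, map_one, QuotientGroup.mk_one]⟩
  mul_mem' {a b} := by
    rintro ⟨g, hg, hg'⟩ ⟨g', hh, hh'⟩
    exact ⟨g * g', by rw [map_mul, hg, hh]; rfl, by rw [Prod.fst_mul, map_mul, hg', hh', QuotientGroup.mk_mul]⟩

variable {D : Data hF C}

theorem Data.L.mul {c c' : C} {k k' : Unit' (stdHerm hF 6)} (h : D.L c k) (h' : D.L c' k') :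
    D.L (c * c') (k * k') := D.pairs.mul_mem (x := (c, k)) (y := (c', k')) h h'

theorem Data.L.inv {c : C} {k : Unit' (stdHerm hF 6)} (h : D.L c k) : D.L c⁻¹ k⁻¹ := by
  obtain ⟨g, hg, hg'⟩ := h
  exact ⟨g⁻¹, by rw [map_inv, hg], by rw [map_inv, hg', QuotientGroup.mk_inv]⟩

theorem Data.L.conj {c c' : C} {k k' : Unit' (stdHerm hF 6)} (h : D.L c k) (h' : D.L c' k') :
    D.L (c * c' * c⁻¹) (k * k' * k⁻¹) := (h.mul h').mul h.inv

theorem Data.L_one (D : Data hF C) : D.L 1 1 := D.pairs.one_mem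

theorem Data.L_z (D : Data hF C) : D.L D.z 1 :=
  ⟨1, map_one _, by rw [(D.ker D.z).2 (Or.inr rfl), QuotientGroup.mk_one]⟩

theorem Data.L.mul_z {c : C} {k : Unit' (stdHerm hF 6)} (h : D.L c k) : D.L (c * D.z) k := by
  have := h.mul D.L_z
  rwa [mul_one] at this

theorem Data.exists_L (D : Data hF C) (c : C) : ∃ k, D.L c k := by
  obtain ⟨g, hg⟩ := QuotientGroup.mk_surjective (D.θ c)
  exact ⟨emb hF 6 g, g, rfl, hg.symm⟩

theorem Data.exists_lift (D : Data hF C) {k : Unit' (stdHerm hF 6)} (hk : detHom (stdHerm hF 6) k = 1) :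
    ∃ c, D.L c k := by
  obtain ⟨g, hg⟩ := exists_emb_eq hF k hk
  obtain ⟨c, hc⟩ := D.surj (QuotientGroup.mk g)
  exact ⟨c, g, hg, hc⟩

theorem Data.L.eq_or {c c' : C} {k : Unit' (stdHerm hF 6)} (h : D.L c k) (h' : D.L c' k) :
    c' = c ∨ c' = c * D.z := by
  obtain ⟨g, hg, hg'⟩ := h
  obtain ⟨g', hh, hh'⟩ := h'
  obtain rfl : g' = g := emb_injective hF 6 (hh.trans hg.symm)
  have : D.θ (c⁻¹ * c') = 1 := by rw [map_mul, map_inv, hg', hh', inv_mul_cancel]
  rcases (D.ker _).1 this with e | e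
  · exact Or.inl (inv_mul_eq_one.1 e).symm
  · exact Or.inr (inv_mul_eq_iff_eq_mul.1 e)

theorem scalar_of_center {n : ℕ} (hn : 3 ≤ n) {q : ℕ} (hF : Fintype.card F = q ^ 2) (g : Cfsg.SU n F q)
    (hg : g ∈ Subgroup.center (Cfsg.SU n F q)) :
    ∃ μ : F, ∀ x, (suEquiv hF n g).1.1 x = μ • x := by
  obtain ⟨e, f, p⟩ := exists_pair_std hF hn
  have hc : suEquivRoot hF hn g ∈ Subgroup.center _ := Subgroup.mem_center_iff.2 fun b => by
    obtain ⟨a, rfl⟩ := (suEquivRoot hF hn).surjective b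
    rw [← map_mul, ← map_mul, Subgroup.mem_center_iff.1 hg]
  obtain ⟨μ, -, hμ⟩ := (mem_center_rootGen_iff_scalar (big_std hF hn) p _).1 hc
  exact ⟨μ, hμ⟩

theorem Data.L.scalar {c : C} {k k' : Unit' (stdHerm hF 6)} (h : D.L c k) (h' : D.L c k') :
    ∃ μ : F, μ ^ 3 = 1 ∧ ∀ x, k'.1 x = μ • k.1 x := by
  obtain ⟨g, hg, hg'⟩ := h
  obtain ⟨g', hh, hh'⟩ := h'
  have hc : g⁻¹ * g' ∈ Subgroup.center (Cfsg.SU 6 F 2) := QuotientGroup.eq.1 (hg'.symm.trans hh')
  obtain ⟨μ, hμ⟩ := scalar_of_center (by norm_num) hF _ hc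
  have e : ∀ x, (k⁻¹ * k').1 x = μ • x := by
    rw [← hg, ← hh, ← map_inv, ← map_mul]
    exact hμ
  have hk : ∀ x, k'.1 x = μ • k.1 x := fun x => by
    rw [← map_smul, ← e, ← CfsgLib.Classical.Herm.mul_apply, mul_inv_cancel_left]
  refine ⟨μ, CfsgLib.UnitaryTransv.pow_three hF fun h0 => ?_, hk⟩
  have h1 : k'.1 (Pi.single 0 1) = 0 := by rw [hk, h0, zero_smul]
  exact unit_ne_zero k' (by simp) h1

theorem eq_one_of_scalar_sq {μ : F} (hF : Fintype.card F = 2 ^ 2) (h : μ ^ 2 = 1) : μ = 1 := by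
  have h1 : (μ - 1) ^ 2 = 0 := by linear_combination h - (μ - 1) * two_eq_zero hF
  exact sub_eq_zero.1 (pow_eq_zero_iff (by norm_num) |>.1 h1)

theorem Data.L.eq_of_invol {c : C} {k k' : Unit' (stdHerm hF 6)} (h : D.L c k) (h' : D.L c k')
    (hk : k * k = 1) (hk' : k' * k' = 1) : k' = k := by
  obtain ⟨μ, -, hμ⟩ := h.scalar h'
  have hμ2 : μ ^ 2 = 1 := by
    have hv : (Pi.single 0 1 : Fin 6 → F) ≠ 0 := by simp
    refine smul_left_injective F hv ?_
    show μ ^ 2 • _ = (1 : F) • _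
    calc μ ^ 2 • (Pi.single 0 1 : Fin 6 → F) = μ • μ • k.1 (k.1 (Pi.single 0 1)) := by
          rw [smul_smul, ← pow_two, ← CfsgLib.Classical.Herm.mul_apply, hk, one_apply]
      _ = (k' * k').1 (Pi.single 0 1) := by
          rw [CfsgLib.Classical.Herm.mul_apply, hμ, hμ, map_smul]
      _ = _ := by rw [hk', one_apply, one_smul]
  exact unit_ext fun x => by rw [hμ, eq_one_of_scalar_sq hF hμ2, one_smul]

theorem Data.exists_invol (D : Data hF C) {c : C} (hc : c * c = 1) :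
    ∃ k, D.L c k ∧ k * k = 1 := by
  obtain ⟨k, hk⟩ := D.exists_L c
  refine ⟨k ^ 3, ?_, ?_⟩
  · have := hk.mul (hk.mul hk)
    rwa [hc, mul_one, ← pow_two, ← pow_succ'] at this
  · have h2 := hk.mul hk
    rw [hc] at h2
    obtain ⟨μ, hμ3, hμ⟩ := D.L_one.scalar h2
    refine unit_ext fun x => ?_
    rw [← pow_add, show 3 + 3 = 2 * 3 by norm_num, pow_mul, pow_two k, pow_succ, pow_two]
    simp only [CfsgLib.Classical.Herm.mul_apply (k * k), CfsgLib.Classical.Herm.mul_apply (k * k * (k * k)),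
      hμ, one_apply, smul_smul]
    rw [show μ * (μ * μ) = μ ^ 3 by ring, hμ3, one_smul]

theorem Data.commute_invol (D : Data hF C) {c c' : C} {k k' : Unit' (stdHerm hF 6)} (h : D.L c k)
    (h' : D.L c' k') (hk : k * k = 1) (_hk' : k' * k' = 1) (hcc : Commute c c') : Commute k k' := by
  have e1 := h'.conj h
  rw [← hcc.eq, mul_inv_cancel_right] at e1
  have h2 : (k' * k * k'⁻¹) * (k' * k * k'⁻¹) = 1 := by
    rw [show k' * k * k'⁻¹ * (k' * k * k'⁻¹) = k' * (k * k) * k'⁻¹ by group, hk, mul_one, mul_inv_cancel]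
  have := h.eq_of_invol e1 hk h2
  exact (mul_inv_eq_iff_eq_mul.1 this).symm

theorem Data.ker_sq (D : Data hF C) : ∀ c ∈ D.θ.ker, c * c = 1 := fun c hc => by
  rcases (D.ker c).1 hc with rfl | rfl
  · exact one_mul 1
  · exact D.z_sq

theorem Data.ker_le_center (D : Data hF C) : D.θ.ker ≤ Subgroup.center C := fun c hc => by
  rcases (D.ker c).1 hc with rfl | rfl
  · exact one_mem _
  · exact Subgroup.mem_center_iff.2 fun g => (D.central g).symm

theorem Data.commute_tv (D : Data hF C) {v w : Fin 6 → F} (hv : (stdHerm hF 6).h v v = 0)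
    (hw : (stdHerm hF 6).h w w = 0) (hvw : (stdHerm hF 6).h v w = 0) {x y : C}
    (hx : D.L x (tv hF v hv)) (hy : D.L y (tv hF w hw)) : Commute x y := by
  obtain ⟨g, hg, hg'⟩ := hx
  obtain ⟨g', hh, hh'⟩ := hy
  have := commute_lift (isCentralCover_pullback (hF := hF) D.θ D.surj D.ker_le_center) (by norm_num)
    hv hw hvw (x := ⟨(x, g), hg'⟩) (y := ⟨(y, g'), hh'⟩) hg hh
  exact congrArg (fun p : pullback D.θ => p.1.1) this.eq

theorem Data.sq_tv (D : Data hF C) {v : Fin 6 → F} (hv : (stdHerm hF 6).h v v = 0) {x : C}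
    (hx : D.L x (tv hF v hv)) : x * x = 1 := by
  obtain ⟨g, hg, hg'⟩ := hx
  exact congrArg (fun p : pullback D.θ => p.1.1) (sq_lift_tv (u := v)
    (isCover_pullback (hF := hF) D.θ D.surj D.ker_le_center D.ker_sq) (by norm_num) hv
    (y := ⟨(x, g), hg'⟩) hg)

/-- A chosen element over an isometry. -/
noncomputable def Data.s (D : Data hF C) (k : Unit' (stdHerm hF 6)) : C := by
  classical exact if h : ∃ c, D.L c k then h.choose else 1

theorem Data.L_s (D : Data hF C) {k : Unit' (stdHerm hF 6)} (hk : detHom (stdHerm hF 6) k = 1) :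
    D.L (D.s k) k := by
  rw [Data.s, dif_pos (D.exists_lift hk)]
  exact (D.exists_lift hk).choose_spec

theorem Data.L_s_tvv (D : Data hF C) (P : Fr hF) (ω : F) (v : ℕ) : D.L (D.s (P.tvv ω v)) (P.tvv ω v) :=
  D.L_s (det_tv hF _ _)

/-- The element with given coordinates. -/
noncomputable def Data.au (D : Data hF C) (P : Fr hF) (ω : F) (n : ℕ) : C :=
  prodBits (baseVecs.map fun v => D.s (P.tvv ω v)) n

theorem Data.L_au (D : Data hF C) (P : Fr hF) (ω : F) (n : ℕ) : D.L (D.au P ω n) (P.u ω n) := by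
  set l := baseVecs.map fun v => (D.s (P.tvv ω v), P.tvv ω v)
  have h : prodBits l n ∈ D.pairs := prodBits_mem _ _ (fun t ht => by
    obtain ⟨v, -, rfl⟩ := List.mem_map.1 ht
    exact D.L_s_tvv P ω v) n
  have e1 : (prodBits l n).1 = D.au P ω n := by
    rw [show (prodBits l n).1 = MonoidHom.fst C _ (prodBits l n) from rfl, prodBits_map, List.map_map]
    rfl
  have e2 : (prodBits l n).2 = P.u ω n := by
    rw [show (prodBits l n).2 = MonoidHom.snd C _ (prodBits l n) from rfl, prodBits_map, List.map_map]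
    rfl
  rw [← e1, ← e2]
  exact h

theorem Data.au_xor (D : Data hF C) (P : Fr hF) (ω : F) (a b : ℕ) :
    D.au P ω (a ^^^ b) = D.au P ω a * D.au P ω b := by
  refine prodBits_xor _ (fun t ht => ?_) (fun t ht s hs => ?_) a b
  · obtain ⟨v, -, rfl⟩ := List.mem_map.1 ht
    exact D.sq_tv _ (D.L_s_tvv P ω v)
  · obtain ⟨v, -, rfl⟩ := List.mem_map.1 ht
    obtain ⟨w, -, rfl⟩ := List.mem_map.1 hs
    exact D.commute_tv _ _ (P.h_vec_vec ω v w) (D.L_s_tvv P ω v) (D.L_s_tvv P ω w)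

theorem Data.au_zero (D : Data hF C) (P : Fr hF) (ω : F) : D.au P ω 0 = 1 := prodBits_zero _

theorem Data.au_sq (D : Data hF C) (P : Fr hF) (ω : F) (n : ℕ) : D.au P ω n * D.au P ω n = 1 := by
  rw [← D.au_xor, Nat.xor_self, D.au_zero]

/-- The preimage of the pointwise stabiliser. -/
def Data.A (D : Data hF C) (P : Fr hF) : Subgroup C where
  carrier := {c | ∃ k ∈ P.U, D.L c k}
  one_mem' := ⟨1, one_mem _, D.L_one⟩
  mul_mem' := by
    rintro a b ⟨k, hk, h⟩ ⟨k', hk', h'⟩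
    exact ⟨k * k', mul_mem hk hk', h.mul h'⟩
  inv_mem' := by
    rintro a ⟨k, hk, h⟩
    exact ⟨k⁻¹, inv_mem hk, h.inv⟩

theorem Data.z_mem (D : Data hF C) (P : Fr hF) : D.z ∈ D.A P := ⟨1, one_mem _, D.L_z⟩

theorem Data.au_mem (D : Data hF C) (P : Fr hF) {ω : F} (hω : ω ^ 2 + ω + 1 = 0) (n : ℕ) :
    D.au P ω n ∈ D.A P := ⟨_, P.u_mem hω n, D.L_au P ω n⟩

theorem Data.L.eq_of_mem {c : C} {k k' : Unit' (stdHerm hF 6)} {P : Fr hF} (h : D.L c k) (h' : D.L c k')
    (hk : k ∈ P.U) (hk' : k' ∈ P.U) : k' = k := by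
  obtain ⟨μ, -, hμ⟩ := h.scalar h'
  have hμ1 : μ = 1 := by
    refine smul_left_injective F (P.e_ne_zero 0) ?_
    show μ • P.e 0 = (1 : F) • P.e 0
    rw [one_smul]
    have := hμ (P.e 0)
    rw [hk' 0, hk 0] at this
    exact this.symm
  exact unit_ext fun x => by rw [hμ, hμ1, one_smul]

theorem Data.exists_code (D : Data hF C) (P : Fr hF) {ω : F} (hω : ω ^ 2 + ω + 1 = 0) {c : C}
    (hc : c ∈ D.A P) : ∃ n < 512, D.L c (P.u ω n) ∧ (c = D.au P ω n ∨ c = D.au P ω n * D.z) := by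
  obtain ⟨k, hk, h⟩ := hc
  obtain ⟨n, hn, rfl⟩ := P.exists_u hω hk
  exact ⟨n, hn, h, (D.L_au P ω n).eq_or h⟩

theorem Data.code_unique (D : Data hF C) (P : Fr hF) {ω : F} (hω : ω ^ 2 + ω + 1 = 0) {c : C} {n m : ℕ}
    (hn : n < 512) (hm : m < 512) (h : D.L c (P.u ω n)) (h' : D.L c (P.u ω m)) : m = n :=
  P.u_inj hω hm hn (h.eq_of_mem h' (P.u_mem hω n) (P.u_mem hω m))

theorem Data.isElementary (D : Data hF C) (P : Fr hF) :
    Cfsg.IsElementaryAbelian 2 (D.A P) := by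
  obtain ⟨ω, hω⟩ := exists_omega hF
  have hz : ∀ x, Commute D.z x := D.central
  have hc : ∀ n m, Commute (D.au P ω n) (D.au P ω m) := fun n m => by
    show _ * _ = _ * _
    rw [← D.au_xor, ← D.au_xor, Nat.xor_comm]
  refine ⟨⟨⟨?_⟩⟩, ?_⟩
  · rintro ⟨a, ha⟩ ⟨b, hb⟩
    apply Subtype.ext
    show Commute a b
    obtain ⟨n, -, -, rfl | rfl⟩ := D.exists_code P hω ha <;>
      obtain ⟨m, -, -, rfl | rfl⟩ := D.exists_code P hω hb
    · exact hc n m
    · exact (hc n m).mul_right (hz _).symm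
    · exact (hc n m).mul_left (hz _)
    · exact ((hc n m).mul_left (hz _)).mul_right ((hz _).symm)
  · intro a ha
    obtain ⟨n, -, -, rfl | rfl⟩ := D.exists_code P hω ha
    · rw [pow_two, D.au_sq]
    · rw [pow_two, (hz (D.au P ω n)).mul_mul_mul_comm, D.au_sq, D.z_sq, one_mul]

/-- The parametrisation by a code and a sign. -/
noncomputable def Data.el (D : Data hF C) (P : Fr hF) (ω : F) (p : Fin 512 × Bool) : C :=
  D.au P ω p.1 * (bif p.2 then D.z else 1)

theorem Data.el_bij (D : Data hF C) (P : Fr hF) {ω : F} (hω : ω ^ 2 + ω + 1 = 0) :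
    (∀ p, D.el P ω p ∈ D.A P) ∧ Function.Injective (D.el P ω) ∧ ∀ c ∈ D.A P, ∃ p, D.el P ω p = c := by
  have hmem : ∀ p, D.el P ω p ∈ D.A P := by
    rintro ⟨n, (_ | _)⟩
    · exact mul_mem (D.au_mem P hω n) (one_mem _)
    · exact mul_mem (D.au_mem P hω n) (D.z_mem P)
  have hL : ∀ p, D.L (D.el P ω p) (P.u ω p.1) := by
    rintro ⟨n, (_ | _)⟩
    · rw [Data.el, cond_false, mul_one]; exact D.L_au P ω n
    · exact (D.L_au P ω n).mul_z
  refine ⟨hmem, ?_, ?_⟩
  · rintro ⟨n, e⟩ ⟨m, e'⟩ h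
    obtain rfl : m = n := Fin.ext (D.code_unique P hω n.2 m.2 (hL ⟨n, e⟩) (h ▸ hL ⟨m, e'⟩))
    have h1 : (bif e then D.z else 1) = (bif e' then D.z else 1) := mul_left_cancel h
    cases e <;> cases e' <;> simp_all [D.z_ne, D.z_ne.symm]
  · intro c hc
    obtain ⟨n, hn, -, rfl | rfl⟩ := D.exists_code P hω hc
    · exact ⟨(⟨n, hn⟩, false), mul_one _⟩
    · exact ⟨(⟨n, hn⟩, true), rfl⟩

theorem Data.card_A (D : Data hF C) (P : Fr hF) : Nat.card (D.A P) = 2 ^ 10 := by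
  obtain ⟨ω, hω⟩ := exists_omega hF
  obtain ⟨hmem, hinj, hsurj⟩ := D.el_bij P hω
  rw [← Nat.card_congr (Equiv.ofBijective (fun p => (⟨D.el P ω p, hmem p⟩ : D.A P))
    ⟨fun a b h => hinj (congrArg Subtype.val h), fun c => (hsurj c.1 c.2).imp fun p hp => Subtype.ext hp⟩)]
  simp

theorem Data.finite_A (D : Data hF C) (P : Fr hF) : Finite (D.A P) :=
  Nat.finite_of_card_ne_zero (by rw [D.card_A]; norm_num)

theorem Data.A_eq (D : Data hF C) {P P' : Fr hF} (h : P'.U = P.U) : D.A P' = D.A P := by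
  ext c
  exact ⟨fun ⟨k, hk, hc⟩ => ⟨k, h ▸ hk, hc⟩, fun ⟨k, hk, hc⟩ => ⟨k, h.symm ▸ hk, hc⟩⟩

theorem Data.conj_au (D : Data hF C) (P : Fr hF) {ω : F} (hω : ω ^ 2 + ω + 1 = 0) {c : C}
    {g : Unit' (stdHerm hF 6)} (h : D.L c g) {ws : List ℕ} (hws : ∀ w ∈ ws, w < 64)
    (hg : baseVecs.map (fun v => g.1 (P.vec ω v)) = ws.map (P.vec ω)) (n : ℕ) :
    D.L (c * D.au P ω n * c⁻¹) (P.u ω (lin (ws.map code4) n)) := by
  have := h.conj (D.L_au P ω n)
  rwa [P.u_conj hω hws hg] at this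

theorem Data.conj_mem (D : Data hF C) (P : Fr hF) {c : C} {g : Unit' (stdHerm hF 6)} (h : D.L c g)
    (hg : ∀ i, P.InW (g.1 (P.e i))) : c ∈ Subgroup.normalizer (D.A P : Set C) := by
  obtain ⟨ω, hω⟩ := exists_omega hF
  have hf : ∀ a ∈ D.A P, c * a * c⁻¹ ∈ D.A P := by
    have hv : ∀ v, P.InW (g.1 (P.vec ω v)) := fun v i => by
      rw [P.vec_map, HermSpace.add_left, HermSpace.add_left, HermSpace.smul_left, HermSpace.smul_left,
        HermSpace.smul_left, hg 0 i, hg 1 i, hg 2 i]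
      simp
    choose w hw hwv using fun v => P.exists_vec hω (hv v)
    intro a ha
    obtain ⟨n, -, hn, -⟩ := D.exists_code P hω ha
    refine ⟨_, P.u_mem hω (lin ((baseVecs.map w).map code4) n), ?_⟩
    have := h.conj hn
    rwa [P.u_conj hω (ws := baseVecs.map w) (by
      intro x hx
      obtain ⟨v, -, rfl⟩ := List.mem_map.1 hx
      exact hw v) (by rw [List.map_map]; exact List.map_congr_left fun v _ => hwv v)] at this
  have := D.finite_A P
  exact Subgroup.mem_normalizer_iff.2 fun a => ⟨hf a, fun ha => by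
    obtain ⟨b, hb⟩ := (Finite.injective_iff_surjective (f := fun x : D.A P => (⟨c * x * c⁻¹, hf x x.2⟩ : D.A P))).1
      (fun x y e => Subtype.ext (by simpa using congrArg Subtype.val e)) ⟨_, ha⟩
    have : (b : C) = a := by simpa using congrArg Subtype.val hb
    exact this ▸ b.2⟩

theorem Data.inW_of_mem (D : Data hF C) (P : Fr hF) {c : C} {g : Unit' (stdHerm hF 6)} (h : D.L c g)
    (hc : c ∈ Subgroup.normalizer (D.A P : Set C)) (i : Fin 3) : P.InW (g.1 (P.e i)) := by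
  obtain ⟨ω, hω⟩ := exists_omega hF
  refine P.inW_of_fixed hω fun k hk => ?_
  obtain ⟨m, -, rfl⟩ := P.exists_u hω hk
  have ha : c⁻¹ * D.au P ω m * c ∈ D.A P :=
    ((Subgroup.mem_normalizer_iff'').1 hc _).1 (D.au_mem P hω m)
  obtain ⟨n, -, hn, -⟩ := D.exists_code P hω ha
  have h1 := h.inv.conj (D.L_au P ω m)
  rw [inv_inv, inv_inv] at h1
  have h2 : P.u ω n = g⁻¹ * P.u ω m * g := by
    refine h1.eq_of_invol hn ?_ ?_
    · rw [show g⁻¹ * P.u ω m * g * (g⁻¹ * P.u ω m * g) = g⁻¹ * (P.u ω m * P.u ω m) * g by group]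
      have hsq : P.u ω m * P.u ω m = 1 := by
        refine (Data.L.eq_of_mem D.L_one ?_ (one_mem _) (mul_mem (P.u_mem hω m) (P.u_mem hω m)))
        have := (D.L_au P ω m).mul (D.L_au P ω m)
        rwa [D.au_sq] at this
      rw [hsq, mul_one, inv_mul_cancel]
    · refine (Data.L.eq_of_mem D.L_one ?_ (one_mem _) (mul_mem (P.u_mem hω n) (P.u_mem hω n)))
      have := hn.mul hn
      have e : c⁻¹ * D.au P ω m * c * (c⁻¹ * D.au P ω m * c) = 1 := by
        rw [show c⁻¹ * D.au P ω m * c * (c⁻¹ * D.au P ω m * c) = c⁻¹ * (D.au P ω m * D.au P ω m) * c by group,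
          D.au_sq, mul_one, inv_mul_cancel]
      rwa [e] at this
  have h3 : g * P.u ω n = P.u ω m * g := by rw [h2]; group
  have := LinearEquiv.congr_fun (congrArg Subtype.val h3) (P.e i)
  simp only [CfsgLib.Classical.Herm.mul_apply] at this
  rw [← CfsgLib.Classical.Herm.mul_apply, ← h3, CfsgLib.Classical.Herm.mul_apply, P.u_mem hω n i]

end CfsgLib.U6Cover
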