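import Cfsg.Agent.Lib.U6Cover.Double

/-!
The possible distributions of the conjugates of the involution in the subgroup of order `2 ^ 11`: the divisibility
by the order of `GL(11, 2)` and the numbers of short products leave four of them.
-/

set_option autoImplicit false
set_option linter.unusedSectionVars false

namespace CfsgLib.U6Cover

/-- The order of `GL(11, 2)`. -/
def gl11 : ℕ := 768105432118265670534631586896281600

theorem options11_ok : (below 3 fun a => below 3 fun b => below 3 fun c =>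
    !Nat.beq (gl11 % (1 + 22 * a + 231 * b + 770 * c)) 0 ||
      [0, 100, 110, 111, 122, 200, 210, 222].elem (100 * a + 10 * b + c)) = true := by decide +kernel

theorem size_ok : (below 3 fun a => below 3 fun b => below 3 fun c =>
    Nat.beq (sumBelow 512 (totV (1, a, b, c))) (1 + 22 * a + 231 * b + 770 * c)) = true := by decide +kernel

theorem conv_122 : conv4 (1, 1, 2, 2) (1, 1, 2, 2) = (4027, 4006, 4006, 4004) := by decide +kernel

theorem conv_200 : conv4 (1, 2, 0, 0) (1, 2, 0, 0) = (89, 4, 8, 0) := by decide +kernel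

theorem conv_110 : conv4 (1, 1, 1, 0) (1, 1, 1, 0) = (254, 44, 74, 60) ∧
    conv4 (254, 44, 74, 60) (1, 1, 1, 0) = (18316, 15376, 16396, 15900) := by decide +kernel

variable {F : Type*} [Field F] [Fintype F] {hF : Fintype.card F = 2 ^ 2} {Q C G : Type*} [Group Q] [Finite Q]
  [Group C] [Finite C] [Group G] [Finite G]

theorem Ctx.exists_rep (T : Ctx hF Q) (P : Fr hF) {ω : F} (hω : ω ^ 2 + ω + 1 = 0) {x : Q} (hx : x ∈ T.AG P) :
    ∃ k < 4, T.Orb P (T.rep P ω k) x := by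
  obtain ⟨n, hn, ho⟩ := T.exists_over P hω hx
  obtain ⟨u, v, h, hu, hv⟩ := T.sides P hω hn
  obtain ⟨h1, h2⟩ := cls_lt n
  rcases h with ⟨e, e'⟩ | ⟨e, e'⟩ <;> rcases ho with rfl | rfl
  · exact ⟨_, h1, e ▸ hu⟩
  · exact ⟨_, h2, e' ▸ hv⟩
  · exact ⟨_, h2, e ▸ hv⟩
  · exact ⟨_, h1, e' ▸ hu⟩

variable (W : Dbl hF Q C G) (P : Fr hF)

/-- The number of conjugates over each class. -/
noncomputable def Dbl.num (ω : F) : ℕ × ℕ × ℕ × ℕ :=
  (1, W.cntF W.chi (W.T.rep P ω 1), W.cntF W.chi (W.T.rep P ω 2), W.cntF W.chi (W.T.rep P ω 3))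

theorem Dbl.chi_inv : ∀ n ∈ Subgroup.normalizer (W.BG P : Set G), ∀ x ∈ W.BG P,
    W.chi (n * x * n⁻¹) = W.chi x := fun n _ x _ => W.chi_conj n x

theorem Dbl.cntF_chi_one : W.cntF W.chi 1 = 1 := by
  have h := W.cntF_π W.chi 1
  rw [map_one, map_one, one_mul, W.chi_one, W.chi_eq_one.2 (IsConj.refl _)] at h
  exact h

theorem Dbl.vals_chi (ω : F) : W.T.Vals P ω (W.cntF W.chi) (W.num P ω) := by
  refine ⟨W.cntF_inv P (W.chi_inv P), fun k hk => ?_⟩
  interval_cases k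
  · exact W.cntF_chi_one
  all_goals rfl

/-- The number of representations as a product of two conjugates. -/
noncomputable def Dbl.r2 (ω : F) : G → ℕ := W.cv P ω W.chi W.chi

/-- The number of representations as a product of three conjugates. -/
noncomputable def Dbl.r3 (ω : F) : G → ℕ := W.cv P ω (W.r2 P ω) W.chi

variable {ω : F}

theorem Dbl.r2_inv (hω : ω ^ 2 + ω + 1 = 0) : ∀ n ∈ Subgroup.normalizer (W.BG P : Set G), ∀ x ∈ W.BG P,
    W.r2 P ω (n * x * n⁻¹) = W.r2 P ω x := fun _ hn _ hx =>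
  W.cv_conj P hω (W.chi_inv P) (W.chi_inv P) hn hx

theorem Dbl.r3_inv (hω : ω ^ 2 + ω + 1 = 0) : ∀ n ∈ Subgroup.normalizer (W.BG P : Set G), ∀ x ∈ W.BG P,
    W.r3 P ω (n * x * n⁻¹) = W.r3 P ω x := fun _ hn _ hx =>
  W.cv_conj P hω (W.r2_inv P hω) (W.chi_inv P) hn hx

theorem Dbl.const_of_inv {f : G → ℕ} (hf : ∀ n ∈ Subgroup.normalizer (W.BG P : Set G), ∀ x ∈ W.BG P,
    f (n * x * n⁻¹) = f x) {x : G} (hx : x ∈ W.BG P) (hd : IsConj (W.ι W.z) x) : f x = f (W.ι W.z) := by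
  obtain ⟨n, hn, rfl⟩ := W.exists_normalizer P hx hd
  exact hf n hn _ ⟨_, W.z_mem P, rfl⟩

theorem Dbl.num_le : (W.num P ω).2.1 ≤ 2 ∧ (W.num P ω).2.2.1 ≤ 2 ∧ (W.num P ω).2.2.2 ≤ 2 :=
  ⟨W.cntF_le _, W.cntF_le _, W.cntF_le _⟩

theorem Dbl.sum_chi (hω : ω ^ 2 + ω + 1 = 0) :
    ∑ p, W.chi (W.ι (W.el2 P ω p)) = 1 + 22 * (W.num P ω).2.1 + 231 * (W.num P ω).2.2.1 + 770 * (W.num P ω).2.2.2 := by
  rw [W.sum_el2, (W.vals_chi P ω).total hω]
  obtain ⟨ha, hb, hc⟩ := W.num_le P (ω := ω)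
  exact Nat.eq_of_beq_eq_true (below_spec (below_spec (below_spec size_ok (Nat.lt_succ_of_le ha))
    (Nat.lt_succ_of_le hb)) (Nat.lt_succ_of_le hc))

theorem Dbl.vals_r2 (hω : ω ^ 2 + ω + 1 = 0) :
    W.T.Vals P ω (W.cntF (W.r2 P ω)) (conv4 (W.num P ω) (W.num P ω)) := by
  have : W.cntF (W.r2 P ω) = W.T.conv P ω (W.cntF W.chi) (W.cntF W.chi) := funext fun q => W.cv_pair P ω _ _ q
  rw [this]
  exact (W.vals_chi P ω).conv (W.vals_chi P ω) hω

theorem Dbl.vals_r3 (hω : ω ^ 2 + ω + 1 = 0) :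
    W.T.Vals P ω (W.cntF (W.r3 P ω)) (conv4 (conv4 (W.num P ω) (W.num P ω)) (W.num P ω)) := by
  have : W.cntF (W.r3 P ω) = W.T.conv P ω (W.cntF (W.r2 P ω)) (W.cntF W.chi) :=
    funext fun q => W.cv_pair P ω _ _ q
  rw [this]
  exact (W.vals_r2 P hω).conv (W.vals_chi P ω) hω

attribute [local irreducible] conv4

theorem Dbl.r2_z (hω : ω ^ 2 + ω + 1 = 0) :
    (conv4 (W.num P ω) (W.num P ω)).1 = ∑ p, W.chi (W.ι (W.el2 P ω p)) + W.r2 P ω (W.ι W.z) := by
  have h := (W.vals_r2 P hω).val 0 (by norm_num)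
  have h1 := W.cntF_π (W.r2 P ω) 1
  rw [map_one, map_one, one_mul] at h1
  have h2 : W.r2 P ω 1 = 1 * ∑ p, W.chi (W.ι (W.el2 P ω p)) := W.cv_sum P hω fun x _ hx => by
    have := W.chi_le x; omega
  have e : pick (conv4 (W.num P ω) (W.num P ω)) 0 = (conv4 (W.num P ω) (W.num P ω)).1 := rfl
  rw [← e, ← h, show W.T.rep P ω 0 = 1 from rfl, h1, h2, one_mul]

/-- Where both elements are conjugates, the product counts agree. -/
theorem Dbl.r2_two (hω : ω ^ 2 + ω + 1 = 0) {k : ℕ} (hk : k < 4) (h2 : W.cntF W.chi (W.T.rep P ω k) = 2) :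
    pick (conv4 (W.num P ω) (W.num P ω)) k = 2 * W.r2 P ω (W.ι W.z) := by
  obtain ⟨c, hc⟩ := W.surj (W.T.rep P ω k)
  have hcB : c ∈ W.B P := show W.π c ∈ W.T.AG P from hc ▸ W.T.rep_mem P hω k
  rw [← hc, W.cntF_π] at h2
  have := W.chi_le (W.ι c); have := W.chi_le (W.ι (c * W.z))
  rw [← (W.vals_r2 P hω).val k hk, ← hc, W.cntF_π,
    W.const_of_inv P (W.r2_inv P hω) ⟨c, hcB, rfl⟩ (W.chi_eq_one.1 (by omega)),
    W.const_of_inv P (W.r2_inv P hω) ⟨_, mul_mem hcB (W.z_mem P), rfl⟩ (W.chi_eq_one.1 (by omega)), two_mul]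

theorem Dbl.r3_z (hω : ω ^ 2 + ω + 1 = 0) {k : ℕ} (hk : k < 4) (h1 : W.cntF W.chi (W.T.rep P ω k) ≠ 0) :
    (conv4 (conv4 (W.num P ω) (W.num P ω)) (W.num P ω)).1 ≤
      pick (conv4 (conv4 (W.num P ω) (W.num P ω)) (W.num P ω)) k +
        W.r2 P ω (W.ι W.z) * ∑ p, W.chi (W.ι (W.el2 P ω p)) := by
  have h := (W.vals_r3 P hω).val 0 (by norm_num)
  have h' := W.cntF_π (W.r3 P ω) 1
  rw [map_one, map_one, one_mul] at h'
  have h2 : W.r3 P ω 1 = W.r2 P ω (W.ι W.z) * ∑ p, W.chi (W.ι (W.el2 P ω p)) :=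
    W.cv_sum P hω fun x hx hne => W.const_of_inv P (W.r2_inv P hω) hx (W.chi_eq_one.1 (by
      have := W.chi_le x; omega))
  obtain ⟨c, hc⟩ := W.surj (W.T.rep P ω k)
  have hcB : c ∈ W.B P := show W.π c ∈ W.T.AG P from hc ▸ W.T.rep_mem P hω k
  rw [← hc, W.cntF_π] at h1
  have hle : W.r3 P ω (W.ι W.z) ≤ W.cntF (W.r3 P ω) (W.π c) := by
    rw [W.cntF_π]
    have := W.chi_le (W.ι c); have := W.chi_le (W.ι (c * W.z))
    rcases Nat.eq_zero_or_pos (W.chi (W.ι c)) with h0 | h0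
    · rw [W.const_of_inv P (W.r3_inv P hω) (x := W.ι (c * W.z)) ⟨_, mul_mem hcB (W.z_mem P), rfl⟩
        (W.chi_eq_one.1 (by omega))]
      omega
    · rw [W.const_of_inv P (W.r3_inv P hω) (x := W.ι c) ⟨c, hcB, rfl⟩ (W.chi_eq_one.1 (by omega))]
      omega
  rw [hc, (W.vals_r3 P hω).val k hk] at hle
  have e : pick (conv4 (conv4 (W.num P ω) (W.num P ω)) (W.num P ω)) 0 =
      (conv4 (conv4 (W.num P ω) (W.num P ω)) (W.num P ω)).1 := rfl
  rw [← e, ← h, show W.T.rep P ω 0 = 1 from rfl, h', h2]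
  omega

theorem Dbl.dvd_gl (hω : ω ^ 2 + ω + 1 = 0) : (∑ p, W.chi (W.ι (W.el2 P ω p))) ∣ gl11 := by
  have hX : {x : G | x ∈ W.BG P ∧ IsConj (W.ι W.z) x} =
      {x : G | ∃ n ∈ Subgroup.normalizer (W.BG P : Set G), x = n * W.ι W.z * n⁻¹} := by
    ext x
    constructor
    · rintro ⟨hx, hd⟩
      obtain ⟨n, hn, e⟩ := W.exists_normalizer P hx hd
      exact ⟨n, hn, e.symm⟩
    · rintro ⟨n, hn, rfl⟩
      exact ⟨(Subgroup.mem_normalizer_iff.1 hn _).1 ⟨_, W.z_mem P, rfl⟩, isConj_iff.2 ⟨n, rfl⟩⟩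
  have h := ncard_orbit_dvd_pow (W.BG P) (W.BG_elem P) (W.card_BG P) (d := W.ι W.z) ⟨_, W.z_mem P, rfl⟩
  rw [← hX, W.ncard_X P hω] at h
  have e : (∏ i : Fin 11, (2 ^ 11 - 2 ^ (i : ℕ))) = gl11 := by
    norm_num [Fin.prod_univ_succ, gl11]
  rwa [e] at h

/-- Twenty-two, then 231 further conjugates: the counts of products of three disagree. -/
theorem Dbl.no_110 (hω : ω ^ 2 + ω + 1 = 0) (hv : W.num P ω = (1, 1, 1, 0)) : False := by
  have hz := W.r2_z P hω
  have hsum := W.sum_chi P hω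
  have e1 : W.cntF W.chi (W.T.rep P ω 1) = 1 := show (W.num P ω).2.1 = 1 by rw [hv]
  have h3 := W.r3_z P hω (k := 1) (by norm_num) (by omega)
  rw [hv, conv_110.1, conv_110.2] at h3
  rw [hv, conv_110.1] at hz
  rw [hv] at hsum
  simp only [pick] at h3 hz hsum
  generalize ∑ p, W.chi (W.ι (W.el2 P ω p)) = s at *
  generalize W.r2 P ω (W.ι W.z) = r at *
  obtain rfl : s = 254 := by omega
  omega

/-- The possible distributions. -/
theorem Dbl.options (hω : ω ^ 2 + ω + 1 = 0) :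
    W.num P ω = (1, 1, 0, 0) ∨ W.num P ω = (1, 1, 1, 1) ∨ W.num P ω = (1, 2, 1, 0) ∨
      W.num P ω = (1, 2, 2, 2) := by
  obtain ⟨ha, hb, hc⟩ := W.num_le P (ω := ω)
  have hsum := W.sum_chi P hω
  have hdvd := W.dvd_gl P hω
  rw [hsum] at hdvd
  have hok := below_spec (below_spec (below_spec options11_ok (Nat.lt_succ_of_le ha)) (Nat.lt_succ_of_le hb))
    (Nat.lt_succ_of_le hc)
  rw [Nat.mod_eq_zero_of_dvd hdvd, Nat.beq_refl, Bool.not_true, Bool.false_or] at hok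
  have hz := W.r2_z P hω
  have e1 : W.cntF W.chi (W.T.rep P ω 1) = (W.num P ω).2.1 := rfl
  have e2 : W.cntF W.chi (W.T.rep P ω 2) = (W.num P ω).2.2.1 := rfl
  have h0 : W.num P ω ≠ (1, 0, 0, 0) := by
    intro h
    obtain ⟨c, hcB, hconj, hne⟩ := W.exists_ne P
    obtain ⟨k, hk, g, hg, hgk⟩ := W.T.exists_rep P hω (x := W.π c) hcB
    have hv := (W.vals_chi P ω).orb hω hk ⟨g, hg, hgk⟩
    rw [W.cntF_π, W.chi_eq_one.2 hconj, h] at hv
    interval_cases k <;> simp only [pick] at hv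
    · have h1 : W.π c = 1 := by rw [← hgk]; show g * 1 * g⁻¹ = 1; group
      rcases (W.ker c).1 h1 with e | e
      · rw [e, map_one] at hconj
        exact W.z_ne (W.inj (by rw [map_one]; exact isConj_one_left.1 hconj))
      · exact hne e
    all_goals omega
  generalize hv : W.num P ω = v at *
  obtain ⟨one, a, b, c⟩ := v
  have h1 : one = 1 := (congrArg Prod.fst hv).symm
  subst h1
  simp only at ha hb hc hok hsum e1 e2
  interval_cases a <;> interval_cases b <;> interval_cases c <;>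
    first
      | exact absurd rfl h0
      | exact Or.inl rfl
      | exact Or.inr (Or.inl rfl)
      | exact Or.inr (Or.inr (Or.inl rfl))
      | exact Or.inr (Or.inr (Or.inr rfl))
      | exact absurd hok (by decide +kernel)
      | (exfalso
         have h2 := W.r2_two P hω (k := 1) (by norm_num) e1
         rw [hv, conv_200] at h2
         rw [conv_200] at hz
         simp only [pick] at h2 hz
         omega)
      | (exfalso
         have h2 := W.r2_two P hω (k := 2) (by norm_num) e2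
         rw [hv, conv_122] at h2
         rw [conv_122] at hz
         simp only [pick] at h2 hz
         omega)
      | exact (W.no_110 P hω hv).elim

end CfsgLib.U6Cover
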