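import Cfsg.Agent.Lib.U6Cover.Parity
import Mathlib.GroupTheory.GroupAction.Quotient

/-!
In a group with an involution whose centraliser is the double cover of `PSU(6, 2)`, the subgroup of order
`2 ^ 10` is the only elementary abelian subgroup of that order in its normaliser, hence in the Sylow subgroups
containing it.
-/

set_option autoImplicit false
set_option linter.unusedSectionVars false

namespace CfsgLib.U6Cover

open CfsgLib.Classical.Herm HermSpace CfsgLib.UnitaryTransv

attribute [-simp] stdHerm_h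

theorem fix22_ok : (countBelow 512 fun n => code22 n && Nat.beq (lin (triImgs 0 1 0) n) n) = 6 := by
  decide +kernel

variable {F : Type*} [Field F] [Fintype F] {hF : Fintype.card F = 2 ^ 2} {G : Type*} [Group G] [Finite G]

variable (T : Ctx hF G) (P : Fr hF)

/-- The conjugates in `A` commuting with an element. -/
def Ctx.fixSet (e : G) : Set G := {x : G | x ∈ T.AG P ∧ IsConj T.d x ∧ Commute e x}

theorem Ctx.fixed_iff (n : T.N P) (x : T.X P) : T.σ P n x = x ↔ Commute (n : G) x.1 :=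
  ⟨fun h => mul_inv_eq_iff_eq_mul.1 (congrArg Subtype.val h),
    fun h => Subtype.ext (show (n : G) * x.1 * (n : G)⁻¹ = x.1 by rw [h.eq, mul_inv_cancel_right])⟩

theorem Ctx.card_fixedPoints (n : T.N P) :
    Nat.card (Function.fixedPoints (T.σ P n)) = (T.fixSet P n).ncard := by
  rw [← Nat.card_coe_set_eq]
  exact Nat.card_congr
    { toFun := fun x => ⟨x.1.1, x.1.2.1, x.1.2.2, (T.fixed_iff P n x.1).1 x.2⟩
      invFun := fun x => ⟨⟨x.1, x.2.1, x.2.2.1⟩, (T.fixed_iff P n _).2 x.2.2.2⟩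
      left_inv := fun _ => rfl
      right_inv := fun _ => rfl }

theorem Ctx.fixSet_conj {n : G} (hn : n ∈ T.N P) (e : G) :
    (T.fixSet P (n⁻¹ * e * n)).ncard = (T.fixSet P e).ncard := by
  have : T.fixSet P e = (fun x => n * x * n⁻¹) '' T.fixSet P (n⁻¹ * e * n) := by
    ext x
    constructor
    · rintro ⟨h1, h2, h3⟩
      refine ⟨n⁻¹ * x * n, ⟨(Subgroup.mem_normalizer_iff''.1 hn x).1 h1,
        h2.trans (isConj_iff.2 ⟨n⁻¹, by rw [inv_inv]⟩), ?_⟩, by group⟩
      show _ = _
      calc n⁻¹ * e * n * (n⁻¹ * x * n) = n⁻¹ * (e * x) * n := by group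
        _ = n⁻¹ * (x * e) * n := by rw [h3.eq]
        _ = _ := by group
    · rintro ⟨y, ⟨h1, h2, h3⟩, rfl⟩
      refine ⟨(Subgroup.mem_normalizer_iff.1 hn y).1 h1, h2.trans (isConj_iff.2 ⟨n, rfl⟩), ?_⟩
      show _ = _
      calc e * (n * y * n⁻¹) = n * (n⁻¹ * e * n * y) * n⁻¹ := by group
        _ = n * (y * (n⁻¹ * e * n)) * n⁻¹ := by rw [h3.eq]
        _ = _ := by group
  rw [this, Set.ncard_image_of_injective _ (fun a b h => mul_left_cancel (mul_right_cancel h))]

theorem Ctx.fixSet_mem {e : G} (he : e ∈ T.AG P) : (T.fixSet P e).ncard = 22 := by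
  rw [← T.ncard_eq P]
  congr 1
  ext x
  exact ⟨fun h => ⟨h.1, h.2.1⟩, fun h => ⟨h.1, h.2, T.AG_comm P he h.1⟩⟩

/-- An involution of the normaliser outside `A` fixes six of the conjugates, and centralises at most `64`
elements of `A`. -/
theorem Ctx.moved {c : ↥(Subgroup.centralizer ({T.d} : Set G))} (hc : c * c = 1)
    (hn : c ∈ Subgroup.normalizer (T.D.A P : Set ↥(Subgroup.centralizer ({T.d} : Set G))))
    (hcA : c ∉ T.D.A P) :
    (T.fixSet P c).ncard = 6 ∧
      ∀ E : Subgroup ↥(Subgroup.centralizer ({T.d} : Set G)), c ∈ E → (∀ x ∈ E, ∀ y ∈ E, Commute x y) →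
        Nat.card ↥(E ⊓ T.D.A P) ≤ 64 := by
  obtain ⟨k, hk, hk2⟩ := T.D.exists_invol hc
  obtain ⟨P', hU, -, h0, h1, h2⟩ := exists_adapted P hk2 (T.D.inW_of_mem P hk hn) fun hU => hcA ⟨k, hU, hk⟩
  obtain ⟨ω, hω⟩ := exists_omega hF
  have hA := T.D.A_eq hU
  have e1 : k.1 (P'.e 1) = P'.e 1 + iota ω 0 • P'.e 0 := by simp [h1, iota]
  have e2 : k.1 (P'.e 2) = P'.e 2 + iota ω 1 • P'.e 0 + iota ω 0 • P'.e 1 := by simp [h2, iota]
  constructor
  · have hfs : T.fixSet P c = T.fixSet P' c := by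
      unfold Ctx.fixSet Ctx.AG
      rw [hA]
    rw [hfs]
    have h := T.fix_tri P' hω (c := ⟨c, by rw [hA]; exact hn⟩) hk (by norm_num) (by norm_num) (by norm_num) h0 e1 e2
    rw [T.card_fixedPoints] at h
    rw [fix22_ok] at h
    exact h
  · intro E hcE hE
    rw [← hA]
    have h := T.D.card_inter_le P' hω E hE [(0, 1, 0)] fun t ht => by
      rw [List.mem_singleton.1 ht]
      exact ⟨by norm_num, by norm_num, by norm_num, c, hcE, k, hk, h0, e1, e2⟩
    have := Nat.blt_eq.mp fix_one_ok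
    omega

/-- An elementary abelian subgroup of order at least `2 ^ 10` normalising `A` is `A`. -/
theorem Ctx.elem_eq {E : Subgroup G} (hE : Cfsg.IsElementaryAbelian 2 E) (hN : E ≤ T.N P)
    (hcard : 2 ^ 10 ≤ Nat.card E) : E = T.AG P := by
  classical
  have hcomm : ∀ a ∈ E, ∀ b ∈ E, Commute a b := fun a ha b hb => by
    obtain ⟨⟨hc⟩⟩ := hE.1
    exact congrArg Subtype.val (hc ⟨a, ha⟩ ⟨b, hb⟩)
  have hsq : ∀ a ∈ E, a * a = 1 := fun a ha => by rw [← pow_two]; exact hE.2 a ha
  by_cases hle : E ≤ T.AG P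
  · exact Subgroup.eq_of_le_of_card_ge hle (by rw [T.card_AG]; exact hcard)
  by_cases hfx : ∃ x, x ∈ T.AG P ∧ IsConj T.d x ∧ ∀ a ∈ E, Commute a x
  · obtain ⟨x, hxA, hxd, hx⟩ := hfx
    obtain ⟨n, hn, rfl⟩ := T.exists_normalizer P hxA hxd
    set C' := Subgroup.centralizer ({T.d} : Set G)
    have hle' : conjSub n⁻¹ E ≤ C' := fun a ha => by
      rw [mem_conjSub, inv_inv] at ha
      rw [Subgroup.mem_centralizer_singleton_iff]
      calc a * T.d = n⁻¹ * ((n * a * n⁻¹) * (n * T.d * n⁻¹)) * n := by group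
        _ = n⁻¹ * ((n * T.d * n⁻¹) * (n * a * n⁻¹)) * n := by rw [(hx _ ha).eq]
        _ = T.d * a := by group
    have hmap : ((conjSub n⁻¹ E).subgroupOf C').map C'.subtype = conjSub n⁻¹ E := by
      rw [Subgroup.subgroupOf_map_subtype, inf_eq_left.2 hle']
    have h := T.D.elem_eq P ((conjSub n⁻¹ E).subgroupOf C')
      (isElementary_of_map _ Subtype.val_injective (by rw [hmap]; exact isElementary_map _ hE))
      (fun a ha => by
        have ha' : n * (a : G) * n⁻¹ ∈ E := by
          have := mem_conjSub.1 (show (a : G) ∈ conjSub n⁻¹ E from ha)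
          rwa [inv_inv] at this
        refine T.of_mem_N P ?_
        have := mul_mem (mul_mem (inv_mem hn) (hN ha')) hn
        rwa [show n⁻¹ * (n * (a : G) * n⁻¹) * n = a by group] at this)
      (by
        rw [Nat.card_congr (Subgroup.subgroupOfEquivOfLe hle').toEquiv, conjSub,
          Subgroup.card_map_of_injective (MulAut.conj n⁻¹).injective]
        exact hcard)
    have h' : conjSub n⁻¹ E = T.AG P := by rw [← hmap, h]; rfl
    refine absurd (fun a ha => ?_) hle
    have : n⁻¹ * a * n ∈ T.AG P := by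
      rw [← h', mem_conjSub, inv_inv]
      rwa [show n * (n⁻¹ * a * n) * n⁻¹ = a by group]
    exact (Subgroup.mem_normalizer_iff''.1 hn a).2 this
  exfalso
  push Not at hfx
  -- every element outside `A` moves 16 of the conjugates
  have key : ∀ a ∈ E, a ∉ T.AG P → (T.fixSet P a).ncard = 6 ∧ Nat.card ↥(E ⊓ T.AG P) ≤ 32 := by
    intro a ha haA
    obtain ⟨y, hyA, hy, hay⟩ := T.exists_commute_in P (hN ha) (hsq a ha)
    obtain ⟨n, hn, rfl⟩ := T.exists_normalizer P hyA hy
    have hC : n⁻¹ * a * n ∈ Subgroup.centralizer ({T.d} : Set G) := by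
      rw [Subgroup.mem_centralizer_singleton_iff]
      calc n⁻¹ * a * n * T.d = n⁻¹ * (a * (n * T.d * n⁻¹)) * n := by group
        _ = n⁻¹ * ((n * T.d * n⁻¹) * a) * n := by rw [hay.eq]
        _ = _ := by group
    set c : ↥(Subgroup.centralizer ({T.d} : Set G)) := ⟨n⁻¹ * a * n, hC⟩ with hcdef
    have hcA : c ∉ T.D.A P := fun h => haA ((Subgroup.mem_normalizer_iff''.1 hn a).2 ⟨c, h, rfl⟩)
    obtain ⟨h6, h64⟩ := T.moved P (c := c)
      (Subtype.ext (show n⁻¹ * a * n * (n⁻¹ * a * n) = 1 by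
        rw [show n⁻¹ * a * n * (n⁻¹ * a * n) = n⁻¹ * (a * a) * n by group, hsq a ha]; group))
      (T.of_mem_N P (mul_mem (mul_mem (inv_mem hn) (hN ha)) hn)) hcA
    refine ⟨by rw [← T.fixSet_conj P hn]; exact h6, ?_⟩
    have hKC : conjSub n⁻¹ (E ⊓ T.AG P) ≤ Subgroup.centralizer ({T.d} : Set G) := fun b hb =>
      T.AG_le P ((Subgroup.mem_normalizer_iff.1 hn b).2 (by
        have := mem_conjSub.1 hb
        rw [inv_inv] at this
        exact this.2))
    set K := (conjSub n⁻¹ (E ⊓ T.AG P)).subgroupOf (Subgroup.centralizer ({T.d} : Set G))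
    have hKcard : Nat.card K = Nat.card ↥(E ⊓ T.AG P) := by
      rw [Nat.card_congr (Subgroup.subgroupOfEquivOfLe hKC).toEquiv, conjSub,
        Subgroup.card_map_of_injective (MulAut.conj n⁻¹).injective]
    set s : Set ↥(Subgroup.centralizer ({T.d} : Set G)) := insert c (insert T.D.z (K : Set _))
    have hsA : ∀ b ∈ K, n * (b : G) * n⁻¹ ∈ E ⊓ T.AG P := fun b hb => by
      have := mem_conjSub.1 (show (b : G) ∈ conjSub n⁻¹ (E ⊓ T.AG P) from hb)
      rwa [inv_inv] at this
    have hcK : ∀ b ∈ K, Commute c b := fun b hb => Subtype.ext (by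
      show n⁻¹ * a * n * (b : G) = (b : G) * (n⁻¹ * a * n)
      calc n⁻¹ * a * n * (b : G) = n⁻¹ * (a * (n * b * n⁻¹)) * n := by group
        _ = n⁻¹ * ((n * b * n⁻¹) * a) * n := by rw [(hcomm a ha _ (hsA b hb).1).eq]
        _ = _ := by group)
    have hKK : ∀ b ∈ K, ∀ b' ∈ K, Commute b b' := fun b hb b' hb' => Subtype.ext (by
      show (b : G) * b' = b' * b
      calc (b : G) * b' = n⁻¹ * ((n * b * n⁻¹) * (n * b' * n⁻¹)) * n := by group
        _ = n⁻¹ * ((n * b' * n⁻¹) * (n * b * n⁻¹)) * n := by rw [(hcomm _ (hsA b hb).1 _ (hsA b' hb').1).eq]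
        _ = _ := by group)
    have hz : ∀ b, Commute T.D.z b := T.D.central
    have hs : ∀ b ∈ s, ∀ b' ∈ s, Commute b b' := by
      rintro b (rfl | rfl | hb) b' (rfl | rfl | hb')
      all_goals first
        | exact Commute.refl _
        | exact hz _
        | exact (hz _).symm
        | exact hcK _ hb'
        | exact (hcK _ hb).symm
        | exact hKK _ hb _ hb'
    set E' := Subgroup.closure s
    have hE' : ∀ b ∈ E', ∀ b' ∈ E', Commute b b' := by
      have hle : E' ≤ Subgroup.centralizer (E' : Set _) := by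
        refine (Subgroup.closure_le _).2 fun b hb => ?_
        refine Subgroup.mem_centralizer_iff.2 fun b' hb' => ?_
        have : E' ≤ Subgroup.centralizer {b} := (Subgroup.closure_le _).2 fun b'' hb'' =>
          Subgroup.mem_centralizer_singleton_iff.2 (hs b'' hb'' b hb).eq
        exact Subgroup.mem_centralizer_singleton_iff.1 (this hb')
      exact fun b hb b' hb' => Subgroup.mem_centralizer_iff.1 (hle hb') b hb
    have h := h64 E' (Subgroup.subset_closure (Or.inl rfl)) hE'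
    have hzK : T.D.z ∉ K := fun hz' => by
      have hm := (hsA _ hz').1
      rw [T.hz] at hm
      obtain ⟨b, hb, hne⟩ := hfx _ hyA hy
      exact hne (hcomm b hb _ hm)
    have hKA : K ≤ T.D.A P := fun b hb => by
      obtain ⟨b', hb', e⟩ := (Subgroup.mem_normalizer_iff.1 hn (b : G)).2 (hsA b hb).2
      rwa [← Subtype.ext (show (b' : G) = b from e)]
    have hlt : K < E' ⊓ T.D.A P := lt_of_le_of_ne
      (le_inf (fun b hb => Subgroup.subset_closure (Or.inr (Or.inr hb))) hKA)
      fun e => hzK (by rw [e]; exact ⟨Subgroup.subset_closure (Or.inr (Or.inl rfl)), T.D.z_mem P⟩)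
    have h2 : 2 * Nat.card K ≤ Nat.card ↥(E' ⊓ T.D.A P) := by
      obtain ⟨m, hm⟩ := Subgroup.card_dvd_of_le hlt.le
      have hlt' : Nat.card K < Nat.card ↥(E' ⊓ T.D.A P) := lt_of_not_ge fun e =>
        hlt.ne (Subgroup.eq_of_le_of_card_ge hlt.le e)
      rw [hm] at hlt' ⊢
      have : 2 ≤ m := by
        by_contra hm2
        interval_cases m <;> omega
      nlinarith
    omega
  obtain ⟨a₀, ha₀, ha₀A⟩ := SetLike.not_le_iff_exists.1 hle
  have hK := (key a₀ ha₀ ha₀A).2
  -- count the fixed points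
  let f : E →* T.N P := Subgroup.inclusion hN
  let : Fintype E := Fintype.ofFinite E
  let : MulAction E (T.X P) := MulAction.compHom (T.X P) ((T.σ P).comp f)
  have hfix : ∀ a : E, Fintype.card (MulAction.fixedBy (T.X P) a) = (T.fixSet P a).ncard := fun a => by
    rw [← Nat.card_eq_fintype_card, show (a : G) = ((f a : T.N P) : G) from rfl, ← T.card_fixedPoints]
    rfl
  have hsum := MulAction.sum_card_fixedBy_eq_card_orbits_mul_card_group E (T.X P)
  rw [Finset.sum_congr rfl fun a _ => hfix a] at hsum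
  have hval : ∀ a : E, (T.fixSet P a).ncard = 6 + if (a : G) ∈ T.AG P then 16 else 0 := by
    intro a
    by_cases h : (a : G) ∈ T.AG P
    · rw [if_pos h, T.fixSet_mem P h]
    · rw [if_neg h, (key a a.2 h).1]
  rw [Finset.sum_congr rfl fun a _ => hval a, Finset.sum_add_distrib, Finset.sum_const, ← Finset.sum_filter,
    Finset.sum_const, smul_eq_mul, smul_eq_mul, Finset.card_univ] at hsum
  have hKc : (Finset.univ.filter fun a : E => (a : G) ∈ T.AG P).card = Nat.card ↥(E ⊓ T.AG P) := by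
    rw [← Nat.card_eq_finsetCard]
    exact Nat.card_congr
      { toFun := fun a => ⟨a.1.1, a.1.2, (Finset.mem_filter.1 a.2).2⟩
        invFun := fun a => ⟨⟨a.1, a.2.1⟩, Finset.mem_filter.2 ⟨Finset.mem_univ _, a.2.2⟩⟩
        left_inv := fun _ => rfl
        right_inv := fun _ => rfl }
  rw [hKc] at hsum
  rw [Nat.card_eq_fintype_card] at hcard
  set o := Fintype.card (Quotient (MulAction.orbitRel E (T.X P)))
  have hpos : 0 < Nat.card ↥(E ⊓ T.AG P) := Nat.card_pos
  rcases le_or_gt o 6 with h | h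
  · nlinarith
  · nlinarith

variable (T : Ctx hF G) (P : Fr hF)

theorem Ctx.AG_isPGroup : IsPGroup 2 (T.AG P) := IsPGroup.of_card (T.card_AG P)

/-- Every elementary abelian subgroup of order at least `2 ^ 10` is a conjugate of `A`. -/
theorem Ctx.exists_conj_AG {E : Subgroup G} (hE : Cfsg.IsElementaryAbelian 2 E) (hcard : 2 ^ 10 ≤ Nat.card E) :
    ∃ g : G, conjSub g E = T.AG P := by
  have : Fact (Nat.Prime 2) := ⟨Nat.prime_two⟩
  obtain ⟨S, hS⟩ := (T.AG_isPGroup P).exists_le_sylow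
  have hp : IsPGroup 2 E := fun x => ⟨1, Subtype.ext (by simpa using hE.2 x.1 x.2)⟩
  obtain ⟨R, hR⟩ := hp.exists_le_sylow
  obtain ⟨g, hg⟩ := MulAction.exists_smul_eq G R S
  refine ⟨g, T.elem_eq P (isElementary_map _ hE) (le_trans ?_ (T.sylow_le_normalizer P S hS))
    (by rw [conjSub, Subgroup.card_map_of_injective (MulAut.conj g).injective]; exact hcard)⟩
  rintro _ ⟨x, hx, rfl⟩
  rw [← hg]
  exact ⟨x, hR hx, rfl⟩

/-- The subgroup `A` is the only elementary abelian subgroup of that order in a 2-subgroup. -/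
theorem Ctx.unique_in {R : Subgroup G} (hR : IsPGroup 2 R) (hA : T.AG P ≤ R) {E : Subgroup G}
    (hE : Cfsg.IsElementaryAbelian 2 E) (hle : E ≤ R) (hcard : 2 ^ 10 ≤ Nat.card E) : E = T.AG P := by
  obtain ⟨S, hS⟩ := hR.exists_le_sylow
  exact T.elem_eq P hE ((hle.trans hS).trans (T.sylow_le_normalizer P S (hA.trans hS))) hcard

end CfsgLib.U6Cover
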