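import Cfsg.Agent.Lib.U6Cover.Extension
import Cfsg.Agent.Lib.U6Cover.Stable
import Cfsg.Agent.Lib.U6Cover.Classes

/-!
A perfect double cover, embedded as the centraliser of its central involution: the elementary abelian subgroup
of order `2 ^ 11`, its uniqueness, and the possible distributions of the conjugates of the involution in it.
-/

set_option autoImplicit false
set_option linter.unusedSectionVars false

namespace CfsgLib.U6Cover

variable {F : Type*} [Field F] [Fintype F] {hF : Fintype.card F = 2 ^ 2} {Q C G : Type*} [Group Q] [Finite Q]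
  [Group C] [Finite C] [Group G] [Finite G]

/-- A perfect double cover that is the centraliser of its involution in a group, not weakly closed in it. -/
structure Dbl (hF : Fintype.card F = 2 ^ 2) (Q C G : Type*) [Group Q] [Group C] [Group G] where
  /-- the quotient -/
  T : Ctx hF Q
  /-- the projection -/
  π : C →* Q
  surj : Function.Surjective π
  /-- the central involution -/
  z : C
  z_sq : z * z = 1
  z_ne : z ≠ 1
  central : ∀ x, z * x = x * z
  ker : ∀ y, π y = 1 ↔ y = 1 ∨ y = z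
  perfect : Group.IsPerfect C
  /-- the embedding -/
  ι : C →* G
  inj : Function.Injective ι
  cen : ∀ g : G, Commute g (ι z) → ∃ c, ι c = g
  nwc : ∃ g : G, ∃ c, ι c = g * ι z * g⁻¹ ∧ c ≠ z

variable (W : Dbl hF Q C G) (P : Fr hF)

theorem Dbl.πz : W.π W.z = 1 := (W.ker _).2 (Or.inr rfl)

theorem Dbl.eq_or {x y : C} (h : W.π x = W.π y) : x = y ∨ x = y * W.z := by
  have : W.π (y⁻¹ * x) = 1 := by rw [map_mul, map_inv, h, inv_mul_cancel]
  rcases (W.ker _).1 this with e | e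
  · exact Or.inl (inv_mul_eq_one.1 e).symm
  · exact Or.inr (inv_mul_eq_iff_eq_mul.1 e)

/-- The preimage of an involution consists of involutions. -/
theorem Dbl.lift_sq {y : C} (h : W.π y * W.π y = 1) : y * y = 1 := by
  obtain ⟨a, ha, hay⟩ := W.T.exists_lift W.π W.surj W.z W.z_sq W.central W.ker h
  rcases W.eq_or hay.symm with rfl | rfl
  · exact ha
  · rw [(show Commute W.z a from W.central a).mul_mul_mul_comm, ha, W.z_sq, one_mul]

/-- The elementary abelian subgroup of order `2 ^ 11`. -/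
def Dbl.B : Subgroup C := (W.T.AG P).comap W.π

/-- Its image in the group. -/
def Dbl.BG : Subgroup G := (W.B P).map W.ι

theorem Dbl.z_mem : W.z ∈ W.B P := by
  show W.π W.z ∈ W.T.AG P
  rw [W.πz]; exact one_mem _

theorem Dbl.B_sq {a : C} (ha : a ∈ W.B P) : a * a = 1 := by
  refine W.lift_sq ?_
  rw [← pow_two]
  exact (W.T.AG_elem P).2 _ ha

theorem Dbl.B_comm {a b : C} (ha : a ∈ W.B P) (hb : b ∈ W.B P) : Commute a b := by
  have h1 : a⁻¹ = a := inv_eq_of_mul_eq_one_left (W.B_sq P ha)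
  have h2 : b⁻¹ = b := inv_eq_of_mul_eq_one_left (W.B_sq P hb)
  have h3 : (a * b)⁻¹ = a * b := inv_eq_of_mul_eq_one_left (W.B_sq P (mul_mem ha hb))
  show a * b = b * a
  rw [← h3, mul_inv_rev, h1, h2]

theorem Dbl.B_elem : Cfsg.IsElementaryAbelian 2 (W.B P) :=
  ⟨⟨⟨fun a b => Subtype.ext (W.B_comm P a.2 b.2).eq⟩⟩, fun a ha => by rw [pow_two]; exact W.B_sq P ha⟩

theorem Dbl.BG_elem : Cfsg.IsElementaryAbelian 2 (W.BG P) := isElementary_map _ (W.B_elem P)

/-- A chosen element over one in the quotient. -/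
noncomputable def Dbl.s (q : Q) : C := Function.surjInv W.surj q

theorem Dbl.π_s (q : Q) : W.π (W.s q) = q := Function.surjInv_eq W.surj q

/-- The element of the subgroup with given coordinates. -/
noncomputable def Dbl.el2 (ω : F) (p : (Fin 512 × Bool) × Bool) : C :=
  W.s (W.T.elv P ω p.1) * bif p.2 then W.z else 1

theorem Dbl.el2_spec {ω : F} (hω : ω ^ 2 + ω + 1 = 0) :
    (∀ p, W.el2 P ω p ∈ W.B P) ∧ Function.Injective (W.el2 P ω) ∧ ∀ c ∈ W.B P, ∃ p, W.el2 P ω p = c := by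
  obtain ⟨h1, h2, h3⟩ := W.T.elv_spec P hω
  have hπ : ∀ p, W.π (W.el2 P ω p) = W.T.elv P ω p.1 := by
    rintro ⟨p, _ | _⟩ <;> simp [Dbl.el2, W.π_s, W.πz]
  refine ⟨fun p => ?_, fun p p' e => ?_, fun c hc => ?_⟩
  · show W.π (W.el2 P ω p) ∈ W.T.AG P
    rw [hπ]; exact h1 _
  · have e1 : p.1 = p'.1 := h2 (by rw [← hπ, ← hπ, e])
    obtain ⟨a, b⟩ := p
    obtain ⟨a', b'⟩ := p'
    simp only at e1
    subst e1
    have e2 : (bif b then W.z else 1) = (bif b' then W.z else 1) := mul_left_cancel e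
    cases b <;> cases b' <;> simp_all [W.z_ne, W.z_ne.symm]
  · obtain ⟨p, hp⟩ := h3 (W.π c) hc
    rcases W.eq_or (x := c) (y := W.s (W.T.elv P ω p)) (by rw [W.π_s, hp]) with e | e
    · exact ⟨(p, false), by rw [e]; exact mul_one _⟩
    · exact ⟨(p, true), e.symm⟩

theorem Dbl.card_B : Nat.card (W.B P) = 2 ^ 11 := by
  obtain ⟨ω, hω⟩ := exists_omega hF
  obtain ⟨hmem, hinj, hsurj⟩ := W.el2_spec P hω
  rw [← Nat.card_congr (Equiv.ofBijective (fun p => (⟨W.el2 P ω p, hmem p⟩ : W.B P))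
    ⟨fun a b h => hinj (congrArg Subtype.val h), fun c => (hsurj c.1 c.2).imp fun p hp => Subtype.ext hp⟩)]
  simp

theorem Dbl.card_BG : Nat.card (W.BG P) = 2 ^ 11 := by
  rw [Dbl.BG, Subgroup.card_map_of_injective W.inj, W.card_B]

/-- The image of an elementary abelian subgroup of order at least `2 ^ 11` has order at least `2 ^ 10`. -/
theorem Dbl.card_image {E : Subgroup C} (hc : 2 ^ 11 ≤ Nat.card E) : 2 ^ 10 ≤ Nat.card (E.map W.π) := by
  classical
  have h : Nat.card E ≤ Nat.card (↥(E.map W.π) × Bool) := by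
    refine Nat.card_le_card_of_injective
      (fun x => (⟨W.π x.1, x.1, x.2, rfl⟩, decide (x.1 = W.s (W.π x.1)))) fun x y h => ?_
    simp only [Prod.mk.injEq, Subtype.mk.injEq, decide_eq_decide] at h
    refine Subtype.ext ?_
    by_cases hx : x.1 = W.s (W.π x.1)
    · rw [hx, h.2.1 hx, show W.π x.1 = W.π y.1 from congrArg Subtype.val h.1]
    · have hy : ¬ y.1 = W.s (W.π y.1) := fun e => hx (h.2.2 e)
      rw [(W.eq_or (x := x.1) (y := W.s (W.π x.1)) (W.π_s _).symm).resolve_left hx,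
        (W.eq_or (x := y.1) (y := W.s (W.π y.1)) (W.π_s _).symm).resolve_left hy,
        show W.π x.1 = W.π y.1 from congrArg Subtype.val h.1]
  rw [Nat.card_prod, Nat.card_eq_fintype_card (α := Bool), Fintype.card_bool] at h
  omega

/-- Every elementary abelian subgroup of order at least `2 ^ 11` is conjugate to the given one. -/
theorem Dbl.exists_conj_B {E : Subgroup C} (hE : Cfsg.IsElementaryAbelian 2 E) (hc : 2 ^ 11 ≤ Nat.card E) :
    ∃ c, E = conjSub c (W.B P) := by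
  obtain ⟨g, hg⟩ := W.T.exists_conj_AG P (isElementary_map W.π hE) (W.card_image hc)
  obtain ⟨a, rfl⟩ := W.surj g
  refine ⟨a⁻¹, Subgroup.eq_of_le_of_card_ge (fun x hx => mem_conjSub.2 ?_)
    (by rw [conjSub, Subgroup.card_map_of_injective (MulAut.conj a⁻¹).injective, W.card_B]; exact hc)⟩
  show W.π _ ∈ W.T.AG P
  rw [← hg, mem_conjSub, inv_inv, map_mul, map_mul, map_inv,
    show (W.π a)⁻¹ * (W.π a * W.π x * (W.π a)⁻¹) * W.π a = W.π x by group]
  exact ⟨x, hx, rfl⟩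

/-- In a 2-subgroup it is the only such subgroup. -/
theorem Dbl.unique_in {R : Subgroup C} (hR : IsPGroup 2 R) (hB : W.B P ≤ R) {E : Subgroup C}
    (hE : Cfsg.IsElementaryAbelian 2 E) (hle : E ≤ R) (hc : 2 ^ 11 ≤ Nat.card E) : E = W.B P := by
  refine Subgroup.eq_of_le_of_card_ge (fun x hx => ?_) (by rw [W.card_B]; exact hc)
  have h := W.T.unique_in P (hR.map W.π) ?_ (isElementary_map W.π hE) (Subgroup.map_mono hle) (W.card_image hc)
  · show W.π x ∈ W.T.AG P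
    rw [← h]; exact ⟨x, hx, rfl⟩
  · intro q hq
    obtain ⟨y, rfl⟩ := W.surj q
    exact ⟨y, hB hq, rfl⟩

/-- It is the Thompson subgroup of every Sylow 2-subgroup containing it. -/
theorem Dbl.thompson_of_le (S : Sylow 2 C) (hS : W.B P ≤ S) :
    Cfsg.thompsonSubgroupOf 2 (S : Subgroup C) = W.B P :=
  thompson_eq _ _ (W.B_elem P) hS fun E hE hel hc =>
    W.unique_in P S.isPGroup' hS hel hE (by rw [← W.card_B P]; exact hc)

/-- The Thompson subgroups of the Sylow 2-subgroups are its conjugates. -/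
theorem Dbl.thompson (S : Sylow 2 C) : ∃ c, Cfsg.thompsonSubgroupOf 2 (S : Subgroup C) = conjSub c (W.B P) := by
  have : Fact (Nat.Prime 2) := ⟨Nat.prime_two⟩
  obtain ⟨R, hR⟩ := (IsPGroup.of_card (W.card_B P)).exists_le_sylow
  obtain ⟨c, hc⟩ := MulAction.exists_smul_eq C R S
  refine ⟨c, thompson_eq _ _ (isElementary_map _ (W.B_elem P)) ?_ fun E hE hel hcE => ?_⟩
  · rintro _ ⟨a, ha, rfl⟩
    rw [← hc]
    exact ⟨a, hR ha, rfl⟩
  · have hcE : 2 ^ 11 ≤ Nat.card E := by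
      rwa [conjSub, Subgroup.card_map_of_injective (MulAut.conj c).injective, W.card_B] at hcE
    have hle : conjSub c⁻¹ E ≤ R := fun x hx => by
      rw [mem_conjSub, inv_inv] at hx
      have h := hE hx
      rw [← hc] at h
      obtain ⟨a, ha, e⟩ := h
      have e' : c * a * c⁻¹ = c * x * c⁻¹ := e
      rwa [← mul_left_cancel (mul_right_cancel e')]
    have : conjSub c⁻¹ E = W.B P := W.unique_in P R.isPGroup' hR (isElementary_map _ hel) hle
      (by
        show 2 ^ 11 ≤ Nat.card (Subgroup.map _ E)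
        rw [Subgroup.card_map_of_injective (MulAut.conj c⁻¹).injective]; exact hcE)
    ext x
    rw [mem_conjSub, ← this, mem_conjSub, inv_inv]
    simp [mul_assoc]

theorem Dbl.cen_comm {g : G} {c : C} (h : W.ι c = g) : Commute g (W.ι W.z) := by
  subst h
  show W.ι c * W.ι W.z = W.ι W.z * W.ι c
  rw [← map_mul, ← map_mul, W.central]

/-- A conjugate of the involution in the subgroup is its image under the normaliser. -/
theorem Dbl.exists_normalizer {y : G} (hy : y ∈ W.BG P) (hd : IsConj (W.ι W.z) y) :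
    ∃ n ∈ Subgroup.normalizer (W.BG P : Set G), n * W.ι W.z * n⁻¹ = y := by
  obtain ⟨g, rfl⟩ := isConj_iff.1 hd
  have hcomm : ∀ x ∈ conjSub g⁻¹ (W.BG P), Commute x (W.ι W.z) := by
    intro x hx
    rw [mem_conjSub, inv_inv] at hx
    obtain ⟨⟨⟨hc⟩⟩, -⟩ := W.BG_elem P
    have h : g * x * g⁻¹ * (g * W.ι W.z * g⁻¹) = g * W.ι W.z * g⁻¹ * (g * x * g⁻¹) :=
      congrArg Subtype.val (hc ⟨_, hx⟩ ⟨_, hy⟩)
    show x * W.ι W.z = W.ι W.z * x
    calc x * W.ι W.z = g⁻¹ * ((g * x * g⁻¹) * (g * W.ι W.z * g⁻¹)) * g := by group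
      _ = g⁻¹ * ((g * W.ι W.z * g⁻¹) * (g * x * g⁻¹)) * g := by rw [h]
      _ = _ := by group
  set E := (conjSub g⁻¹ (W.BG P)).comap W.ι
  have hmap : E.map W.ι = conjSub g⁻¹ (W.BG P) := by
    refine le_antisymm (Subgroup.map_comap_le _ _) fun x hx => ?_
    obtain ⟨c, rfl⟩ := W.cen x (hcomm x hx)
    exact ⟨c, hx, rfl⟩
  obtain ⟨c, hc⟩ := W.exists_conj_B P (E := E)
    (isElementary_of_map _ W.inj (by rw [hmap]; exact isElementary_map _ (W.BG_elem P)))
    (by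
      rw [← Subgroup.card_map_of_injective W.inj, hmap, conjSub,
        Subgroup.card_map_of_injective (MulAut.conj g⁻¹).injective, W.card_BG])
  have hiff : ∀ x : G, g * x * g⁻¹ ∈ W.BG P ↔ (W.ι c)⁻¹ * x * W.ι c ∈ W.BG P := by
    intro x
    have h1 : g * x * g⁻¹ ∈ W.BG P ↔ x ∈ conjSub g⁻¹ (W.BG P) := by rw [mem_conjSub, inv_inv]
    rw [h1, ← hmap, hc]
    constructor
    · rintro ⟨a, ha, rfl⟩
      exact ⟨_, mem_conjSub.1 ha, by simp⟩
    · rintro ⟨a, ha, hax⟩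
      refine ⟨c * a * c⁻¹, mem_conjSub.2 (by simpa [mul_assoc] using ha), ?_⟩
      rw [map_mul, map_mul, map_inv, hax]
      group
  refine ⟨g * W.ι c, Subgroup.mem_normalizer_iff''.2 fun x => ?_, ?_⟩
  · have := hiff (g⁻¹ * x * g)
    rw [show g * (g⁻¹ * x * g) * g⁻¹ = x by group] at this
    rw [this, mul_inv_rev]
    simp [mul_assoc]
  · calc g * W.ι c * W.ι W.z * (g * W.ι c)⁻¹ = g * (W.ι c * W.ι W.z) * (g * W.ι c)⁻¹ := by group
      _ = g * (W.ι W.z * W.ι c) * (g * W.ι c)⁻¹ := by rw [(W.cen_comm rfl).eq]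
      _ = _ := by group

theorem Dbl.transitive : ∀ x ∈ W.BG P, ∀ y ∈ W.BG P, IsConj (W.ι W.z) x → IsConj (W.ι W.z) y →
    ∃ n ∈ Subgroup.normalizer (W.BG P : Set G), n * x * n⁻¹ = y := by
  intro x hx y hy hdx hdy
  obtain ⟨n, hn, rfl⟩ := W.exists_normalizer P hx hdx
  obtain ⟨m, hm, rfl⟩ := W.exists_normalizer P hy hdy
  exact ⟨m * n⁻¹, mul_mem hm (inv_mem hn), by group⟩

/-- A normalising element of the quotient lifts to one of the group. -/
theorem Dbl.lift_normalizer {c : C} (hc : W.π c ∈ W.T.N P) : W.ι c ∈ Subgroup.normalizer (W.BG P : Set G) := by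
  have key : ∀ (c : C), W.π c ∈ W.T.N P → ∀ x ∈ W.BG P, W.ι c * x * (W.ι c)⁻¹ ∈ W.BG P := by
    rintro c hc _ ⟨a, ha, rfl⟩
    refine ⟨c * a * c⁻¹, ?_, by simp⟩
    show W.π _ ∈ W.T.AG P
    rw [map_mul, map_mul, map_inv]
    exact (Subgroup.mem_normalizer_iff.1 hc _).1 ha
  refine Subgroup.mem_normalizer_iff.2 fun x => ⟨key c hc x, fun hx => ?_⟩
  have := key c⁻¹ (by rw [map_inv]; exact inv_mem hc) _ hx
  rw [map_inv] at this
  simpa [mul_assoc] using this

/-- The indicator of the conjugates of the involution. -/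
noncomputable def Dbl.chi (x : G) : ℕ := by
  classical exact if IsConj (W.ι W.z) x then 1 else 0

theorem Dbl.chi_le (x : G) : W.chi x ≤ 1 := by
  unfold Dbl.chi; split <;> norm_num

theorem Dbl.chi_eq_one {x : G} : W.chi x = 1 ↔ IsConj (W.ι W.z) x := by
  unfold Dbl.chi; split <;> simp_all

theorem Dbl.chi_conj (g x : G) : W.chi (g * x * g⁻¹) = W.chi x := by
  have h : IsConj x (g * x * g⁻¹) := isConj_iff.2 ⟨g, rfl⟩
  have := W.chi_le x
  have := W.chi_le (g * x * g⁻¹)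
  have : W.chi (g * x * g⁻¹) = 1 ↔ W.chi x = 1 := by
    rw [W.chi_eq_one, W.chi_eq_one]
    exact ⟨fun e => e.trans h.symm, fun e => e.trans h⟩
  omega

theorem Dbl.chi_one : W.chi 1 = 0 := by
  have h : ¬ IsConj (W.ι W.z) 1 := fun h => W.z_ne (W.inj (by rw [map_one]; exact isConj_one_left.1 h))
  have := W.chi_le 1
  have := mt W.chi_eq_one.1 h
  omega

/-- The number of values over an element of the quotient. -/
noncomputable def Dbl.cntF (f : G → ℕ) (q : Q) : ℕ := f (W.ι (W.s q)) + f (W.ι (W.s q * W.z))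

theorem Dbl.cntF_π (f : G → ℕ) (c : C) : W.cntF f (W.π c) = f (W.ι c) + f (W.ι (c * W.z)) := by
  rcases W.eq_or (x := W.s (W.π c)) (y := c) (W.π_s _) with e | e <;> rw [Dbl.cntF, e]
  rw [mul_assoc, W.z_sq, mul_one, add_comm]

theorem Dbl.cntF_le (q : Q) : W.cntF W.chi q ≤ 2 := by
  have := W.chi_le (W.ι (W.s q)); have := W.chi_le (W.ι (W.s q * W.z))
  unfold Dbl.cntF; omega

theorem Dbl.cntF_inv {f : G → ℕ} (hf : ∀ n ∈ Subgroup.normalizer (W.BG P : Set G), ∀ x ∈ W.BG P,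
    f (n * x * n⁻¹) = f x) : ∀ g ∈ W.T.N P, ∀ q ∈ W.T.AG P, W.cntF f (g * q * g⁻¹) = W.cntF f q := by
  intro g hg q hq
  obtain ⟨a, rfl⟩ := W.surj g
  have hn := W.lift_normalizer P hg
  obtain ⟨c, rfl⟩ := W.surj q
  rw [← map_inv, ← map_mul, ← map_mul, W.cntF_π, W.cntF_π]
  have h1 : W.ι c ∈ W.BG P := ⟨c, hq, rfl⟩
  have h2 : W.ι (c * W.z) ∈ W.BG P := ⟨_, mul_mem (show c ∈ W.B P from hq) (W.z_mem P), rfl⟩
  rw [show a * c * a⁻¹ * W.z = a * (c * W.z) * a⁻¹ by rw [mul_assoc _ _ W.z, ← W.central a⁻¹]; group]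
  simp only [map_mul, map_inv] at hn h2 ⊢
  rw [hf _ hn _ h1, hf _ hn _ h2]

theorem Dbl.sum_el2 (ω : F) (f : G → ℕ) :
    ∑ p, f (W.ι (W.el2 P ω p)) = ∑ p, W.cntF f (W.T.elv P ω p) := by
  rw [Fintype.sum_prod_type]
  refine Finset.sum_congr rfl fun p _ => ?_
  rw [Fintype.sum_bool, Dbl.cntF, add_comm]
  simp [Dbl.el2]

/-- The convolution. -/
noncomputable def Dbl.cv (ω : F) (f g : G → ℕ) (y : G) : ℕ :=
  ∑ p, f (W.ι (W.el2 P ω p)) * g (W.ι (W.el2 P ω p) * y)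

theorem Dbl.cv_conj {ω : F} (hω : ω ^ 2 + ω + 1 = 0) {f g : G → ℕ}
    (hf : ∀ n ∈ Subgroup.normalizer (W.BG P : Set G), ∀ x ∈ W.BG P, f (n * x * n⁻¹) = f x)
    (hg : ∀ n ∈ Subgroup.normalizer (W.BG P : Set G), ∀ x ∈ W.BG P, g (n * x * n⁻¹) = g x)
    {n : G} (hn : n ∈ Subgroup.normalizer (W.BG P : Set G)) {y : G} (hy : y ∈ W.BG P) :
    W.cv P ω f g (n * y * n⁻¹) = W.cv P ω f g y := by
  obtain ⟨h1, h2, h3⟩ := W.el2_spec P hω
  have hm : ∀ p, W.ι (W.el2 P ω p) ∈ W.BG P := fun p => ⟨_, h1 p, rfl⟩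
  have h4 : ∀ p, ∃ p', W.ι (W.el2 P ω p') = n * W.ι (W.el2 P ω p) * n⁻¹ := fun p => by
    obtain ⟨c, hc, e⟩ := (Subgroup.mem_normalizer_iff.1 hn _).1 (hm p)
    obtain ⟨p', rfl⟩ := h3 c hc
    exact ⟨p', e⟩
  choose σ hσ using h4
  have hb : Function.Bijective σ := by
    refine (Finite.injective_iff_bijective).1 fun u v e => h2 (W.inj ?_)
    have := (hσ u).symm.trans (e ▸ hσ v)
    simpa using this
  unfold Dbl.cv
  refine (Fintype.sum_bijective σ hb _ _ fun p => ?_).symm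
  rw [hσ, hf n hn _ (hm p),
    show n * W.ι (W.el2 P ω p) * n⁻¹ * (n * y * n⁻¹) = n * (W.ι (W.el2 P ω p) * y) * n⁻¹ by group,
    hg n hn _ (mul_mem (hm p) hy)]

theorem Dbl.cv_pair (ω : F) (f g : G → ℕ) (q : Q) :
    W.cntF (W.cv P ω f g) q = W.T.conv P ω (W.cntF f) (W.cntF g) q := by
  obtain ⟨c, rfl⟩ := W.surj q
  rw [W.cntF_π, Dbl.cv, Dbl.cv, Ctx.conv, W.sum_el2 P ω fun x => f x * g (x * W.ι c),
    W.sum_el2 P ω fun x => f x * g (x * W.ι (c * W.z)), ← Finset.sum_add_distrib]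
  refine Finset.sum_congr rfl fun p _ => ?_
  generalize W.T.elv P ω p = r
  obtain ⟨b, rfl⟩ := W.surj r
  rw [← map_mul W.π, W.cntF_π, W.cntF_π, W.cntF_π, W.cntF_π]
  have e1 : b * W.z * c = b * c * W.z := by rw [mul_assoc, W.central, mul_assoc]
  have e2 : b * W.z * (c * W.z) = b * c := by rw [← mul_assoc, e1, mul_assoc, W.z_sq, mul_one]
  simp only [← map_mul, e1, e2, ← mul_assoc]
  ring

theorem Dbl.cv_sum {ω : F} (hω : ω ^ 2 + ω + 1 = 0) {f g : G → ℕ} {K : ℕ}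
    (hK : ∀ x ∈ W.BG P, g x ≠ 0 → f x = K) :
    W.cv P ω f g 1 = K * ∑ p, g (W.ι (W.el2 P ω p)) := by
  rw [Dbl.cv, Finset.mul_sum]
  refine Finset.sum_congr rfl fun p _ => ?_
  rw [mul_one]
  by_cases h : g (W.ι (W.el2 P ω p)) = 0
  · rw [h, mul_zero, mul_zero]
  · rw [hK _ ⟨_, (W.el2_spec P hω).1 p, rfl⟩ h]

theorem Dbl.ncard_X {ω : F} (hω : ω ^ 2 + ω + 1 = 0) :
    Set.ncard {x : G | x ∈ W.BG P ∧ IsConj (W.ι W.z) x} = ∑ p, W.chi (W.ι (W.el2 P ω p)) := by
  classical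
  obtain ⟨h1, h2, h3⟩ := W.el2_spec P hω
  have hset : {x : G | x ∈ W.BG P ∧ IsConj (W.ι W.z) x} = ↑((Finset.univ.filter fun p =>
      IsConj (W.ι W.z) (W.ι (W.el2 P ω p))).image fun p => W.ι (W.el2 P ω p)) := by
    ext x
    simp only [Set.mem_ofPred_eq, Finset.coe_image, Finset.coe_filter, Finset.mem_univ, true_and, Set.mem_image]
    constructor
    · rintro ⟨⟨c, hc, rfl⟩, hd⟩
      obtain ⟨p, rfl⟩ := h3 c hc
      exact ⟨p, hd, rfl⟩
    · rintro ⟨p, hp, rfl⟩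
      exact ⟨⟨_, h1 p, rfl⟩, hp⟩
  rw [hset, Set.ncard_coe_finset,
    Finset.card_image_of_injective _ (show Function.Injective fun p => W.ι (W.el2 P ω p) from W.inj.comp h2),
    Finset.card_filter]
  exact Finset.sum_congr rfl fun p _ => by unfold Dbl.chi; split <;> simp_all

/-- Some other conjugate lies in the subgroup. -/
theorem Dbl.exists_ne : ∃ c ∈ W.B P, IsConj (W.ι W.z) (W.ι c) ∧ c ≠ W.z := by
  obtain ⟨g, c, hc, hne⟩ := W.nwc
  have hsq : c * c = 1 := by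
    apply W.inj
    rw [map_mul, hc, map_one, show g * W.ι W.z * g⁻¹ * (g * W.ι W.z * g⁻¹) = g * (W.ι W.z * W.ι W.z) * g⁻¹ by group,
      ← map_mul, W.z_sq, map_one, mul_one, mul_inv_cancel]
  set x := W.π c
  have hx : x * x = 1 := by rw [← map_mul, hsq, map_one]
  obtain ⟨e, he, hcomm⟩ := W.T.exists_commute hx
  obtain ⟨k, rfl⟩ := isConj_iff.1 he
  have hx' : k⁻¹ * x * k ∈ Subgroup.centralizer ({W.T.d} : Set Q) := by
    rw [Subgroup.mem_centralizer_singleton_iff]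
    calc k⁻¹ * x * k * W.T.d = k⁻¹ * (x * (k * W.T.d * k⁻¹)) * k := by group
      _ = k⁻¹ * ((k * W.T.d * k⁻¹) * x) * k := by rw [hcomm.eq]
      _ = _ := by group
  obtain ⟨u, hu, hu2⟩ := W.T.D.exists_invol (c := ⟨_, hx'⟩) (Subtype.ext (by
    show k⁻¹ * x * k * (k⁻¹ * x * k) = 1
    rw [show k⁻¹ * x * k * (k⁻¹ * x * k) = k⁻¹ * (x * x) * k by group, hx]; group))
  obtain ⟨P', hP'⟩ := exists_frame_fixed hF u hu2
  obtain ⟨m, hm⟩ := W.T.D.exists_conj P (W.T.D.A P') (W.T.D.isElementary P') (le_of_eq (W.T.D.card_A P').symm)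
  have hmem : (⟨_, hx'⟩ : ↥(Subgroup.centralizer ({W.T.d} : Set Q))) ∈ conjSub m (W.T.D.A P) :=
    hm ▸ ⟨u, hP', hu⟩
  rw [mem_conjSub] at hmem
  obtain ⟨a, ha⟩ := W.surj (k * (m : Q))
  have hin : a⁻¹ * c * a ∈ W.B P := ⟨_, hmem, by
    show (m : Q)⁻¹ * (k⁻¹ * W.π c * k) * m = W.π _
    rw [map_mul, map_mul, map_inv, ha]; group⟩
  refine ⟨_, hin, ?_, fun e => hne ?_⟩
  · rw [map_mul, map_mul, map_inv, hc]
    exact isConj_iff.2 ⟨(W.ι a)⁻¹ * g, by group⟩
  · calc c = a * (a⁻¹ * c * a) * a⁻¹ := by group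
      _ = W.z := by rw [e, ← W.central, mul_inv_cancel_right]

end CfsgLib.U6Cover
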