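import Cfsg.Agent.Lib.U6Cover.Sections
import Cfsg.Agent.Lib.U6Cover.Affine

/-!
The subgroup of order `2 ^ 11` of the double cover contains exactly 23 conjugates of the involution.
-/

set_option autoImplicit false
set_option linter.unusedSectionVars false

namespace CfsgLib.U6Cover

variable {F : Type*} [Field F] [Fintype F] {hF : Fintype.card F = 2 ^ 2} {Q C G : Type*} [Group Q] [Finite Q]
  [Group C] [Finite C] [Group G] [Finite G]

theorem Dbl.ncard_eq (W : Dbl hF Q C G) (P : Fr hF) :
    Set.ncard {x : G | x ∈ W.BG P ∧ IsConj (W.ι W.z) x} = 23 := by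
  obtain ⟨ω, hω⟩ := exists_omega hF
  rcases W.options P hω with h | h | h | h
  · rw [W.ncard_X P hω, W.sum_chi P hω, h]
    norm_num
  · exact (W.not_111 P hω h).elim
  · exact (W.not_210 P hω h).elim
  · exact (W.not_222 P hω h).elim

end CfsgLib.U6Cover
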