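import Cfsg.Agent.Lib.U6Cover.Parity
import Cfsg.Agent.Lib.U6Cover.Split

/-!
In a perfect double cover of a group with an involution whose centraliser is the double cover of `PSU(6, 2)`, every
involution lifts to an involution.
-/

set_option autoImplicit false
set_option linter.unusedSectionVars false

namespace CfsgLib.U6Cover

open CfsgLib.Classical.Herm HermSpace CfsgLib.UnitaryTransv

attribute [-simp] stdHerm_h

variable {F : Type*} [Field F] [Fintype F] {hF : Fintype.card F = 2 ^ 2}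

/-- Every involution of a perfect double cover lifts to an involution of a central extension by a group of
order two. -/
theorem exists_lift_cover {C H : Type*} [Group C] [Finite C] [Group H] [Finite H] (D : Data hF C)
    (hC : Group.IsPerfect C) (ρ : H →* C) (hρ : Function.Surjective ρ) (z : H) (hz2 : z * z = 1)
    (hzc : ∀ y, z * y = y * z) (hker : ∀ y, ρ y = 1 ↔ y = 1 ∨ y = z) {x : C} (hx : x * x = 1) :
    ∃ y, y * y = 1 ∧ ρ y = x := by
  classical
  have hρz : ρ z = 1 := (hker z).2 (Or.inr rfl)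
  have hKmap : (commutator H).map ρ = ⊤ := by
    rw [commutator_def, Subgroup.map_commutator, ← MonoidHom.range_eq_map, MonoidHom.range_eq_top.2 hρ,
      ← commutator_def, hC.commutator_eq_top]
  by_cases hzK : z ∈ commutator H
  swap
  · obtain ⟨y, hy, rfl⟩ : x ∈ (commutator H).map ρ := by rw [hKmap]; trivial
    refine ⟨y, ?_, rfl⟩
    have h1 : ρ (y * y) = 1 := by rw [map_mul, hx]
    rcases (hker _).1 h1 with e | e
    · exact e
    · exact absurd (e ▸ mul_mem hy hy) hzK
  have hHperf : commutator H = ⊤ := by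
    refine eq_top_iff.2 fun y _ => ?_
    obtain ⟨a, ha, hay⟩ : ρ y ∈ (commutator H).map ρ := by rw [hKmap]; trivial
    have : ρ (a⁻¹ * y) = 1 := by rw [map_mul, map_inv, hay, inv_mul_cancel]
    rcases (hker _).1 this with e | e
    · rw [show y = a from (inv_mul_eq_one.1 e).symm]; exact ha
    · rw [inv_mul_eq_iff_eq_mul.1 e]; exact mul_mem ha hzK
  obtain ⟨w, hw⟩ := hρ D.z
  have hwc : ∀ y, w * y = y * w := by
    have hmem : ∀ a : H, a * w * a⁻¹ * w⁻¹ ∈ Subgroup.center H := fun a => by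
      have h1 : ρ (a * w * a⁻¹ * w⁻¹) = 1 := by
        rw [map_mul, map_mul, map_mul, map_inv, map_inv, hw, ← D.central (ρ a)]; group
      rcases (hker _).1 h1 with e | e <;> rw [e]
      · exact one_mem _
      · exact Subgroup.mem_center_iff.2 fun g => (hzc g).symm
    have hle : commutator H ≤ Subgroup.centralizer {w} := by
      rw [commutator_def, Subgroup.commutator_le]
      intro a _ b _
      rw [Subgroup.mem_centralizer_singleton_iff, commutatorElement_def]
      have hc : ∀ a, w * a * w⁻¹ = (a * w * a⁻¹ * w⁻¹)⁻¹ * a ∧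
          ∀ y, (a * w * a⁻¹ * w⁻¹)⁻¹ * y = y * (a * w * a⁻¹ * w⁻¹)⁻¹ :=
        fun a => ⟨by group, fun y => (Subgroup.mem_center_iff.1 (inv_mem (hmem a)) y).symm⟩
      exact (commute_comm (hc a).1 (hc b).1 (hc a).2 (hc b).2).eq.symm
    intro y
    rw [hHperf] at hle
    exact (Subgroup.mem_centralizer_singleton_iff.1 (hle (Subgroup.mem_top y))).symm
  let θ := D.θ.comp ρ
  have hθker : ∀ y, θ y = 1 → y = 1 ∨ y = z ∨ y = w ∨ y = w * z := by
    intro y hy
    rcases (D.ker _).1 hy with e | e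
    · rcases (hker y).1 e with h | h
      · exact Or.inl h
      · exact Or.inr (Or.inl h)
    · have h1 : ρ (w⁻¹ * y) = 1 := by rw [map_mul, map_inv, hw, e, inv_mul_cancel]
      rcases (hker _).1 h1 with h | h
      · exact Or.inr (Or.inr (Or.inl (inv_mul_eq_one.1 h).symm))
      · exact Or.inr (Or.inr (Or.inr (inv_mul_eq_iff_eq_mul.1 h)))
  have hθs : Function.Surjective θ := D.surj.comp hρ
  have hθc : θ.ker ≤ Subgroup.center H := fun y hy => Subgroup.mem_center_iff.2 fun g => by
    rcases hθker y hy with rfl | rfl | rfl | rfl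
    · simp
    · exact (hzc g).symm
    · exact (hwc g).symm
    · exact ((show Commute w g from hwc g).mul_left (hzc g)).eq.symm
  by_cases hw2 : w * w = 1
  · have hθ2 : ∀ c ∈ θ.ker, c * c = 1 := fun c hc => by
      rcases hθker c hc with rfl | rfl | rfl | rfl
      · exact one_mul 1
      · exact hz2
      · exact hw2
      · rw [(show Commute z w from hzc w).mul_mul_mul_comm, hw2, hz2, one_mul]
    have hZ : Nat.card (Subgroup.center (Cfsg.SU 6 F 2)) = 3 := by
      rw [CfsgLib.Classical.Herm.card_center_su hF (show 3 ≤ 6 by norm_num)]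
      rfl
    obtain ⟨y, hy, hyx⟩ := exists_involution_lift_six hF θ hθs hθc hθ2 hZ (x := D.θ x)
      (by rw [← map_mul, hx, map_one])
    have h1 : D.θ ((ρ y)⁻¹ * x) = 1 := by
      rw [map_mul, map_inv, show D.θ (ρ y) = θ y from rfl, hyx, inv_mul_cancel]
    rcases (D.ker _).1 h1 with e | e
    · exact ⟨y, hy, inv_mul_eq_one.1 e⟩
    · refine ⟨y * w, ?_, ?_⟩
      · rw [(show Commute w y from hwc y).mul_mul_mul_comm, hy, hw2, one_mul]
      · rw [map_mul, hw]; exact (inv_mul_eq_iff_eq_mul.1 e).symm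
  exfalso
  have hw2z : w * w = z := by
    have h1 : ρ (w * w) = 1 := by rw [map_mul, hw, D.z_sq]
    exact ((hker _).1 h1).resolve_left hw2
  obtain ⟨P, -⟩ := exists_frame_fixed hF 1 (one_mul 1)
  obtain ⟨ω, hω⟩ := exists_omega hF
  let p : C → Prop := fun c => ∃ y, ρ y = c ∧ y * y = 1
  have hcov := isCentralCover_pullback (hF := hF) θ hθs hθc
  have hgood : ∀ Q : Fr hF, ∃ v : ℕ → H, (∀ n, v n * v n = 1) ∧ (∀ n m, Commute (v n) (v m)) ∧
      ∀ n, D.L (ρ (v n)) (Q.u ω n) := by
    intro Q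
    have hlift : ∀ a : ℕ, ∃ y : pullback θ, y * y = 1 ∧ emb hF 6 y.1.2 = Q.tvv ω a := fun a =>
      exists_sq_lift_tv hcov (by norm_num) (Q.h_vec_vec ω a a)
    choose y hy hy' using hlift
    set l := baseVecs.map fun a => (y a).1.1
    have hsq : ∀ t ∈ l, t * t = 1 := fun t ht => by
      obtain ⟨a, -, rfl⟩ := List.mem_map.1 ht
      exact congrArg (fun q : pullback θ => q.1.1) (hy a)
    have hcm : ∀ t ∈ l, ∀ s ∈ l, Commute t s := fun t ht s hs => by
      obtain ⟨a, -, rfl⟩ := List.mem_map.1 ht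
      obtain ⟨b, -, rfl⟩ := List.mem_map.1 hs
      exact congrArg (fun q : pullback θ => q.1.1)
        (commute_lift hcov (by norm_num) _ _ (Q.h_vec_vec ω a b) (x := y a) (y := y b) (hy' a) (hy' b)).eq
    refine ⟨fun n => prodBits l n, fun n => ?_, fun n m => ?_, fun n => ?_⟩
    · show prodBits l n * prodBits l n = 1
      rw [← prodBits_xor l hsq hcm, Nat.xor_self, prodBits_zero]
    · show prodBits l n * prodBits l m = prodBits l m * prodBits l n
      rw [← prodBits_xor l hsq hcm, ← prodBits_xor l hsq hcm, Nat.xor_comm]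
    · set L2 := baseVecs.map fun a => (ρ (y a).1.1, Q.tvv ω a)
      have h : prodBits L2 n ∈ D.pairs := prodBits_mem _ _ (fun t ht => by
        obtain ⟨a, -, rfl⟩ := List.mem_map.1 ht
        exact ⟨(y a).1.2, hy' a, (y a).2⟩) n
      have e1 : (prodBits L2 n).1 = ρ (prodBits l n) := by
        rw [prodBits_map, show (prodBits L2 n).1 = MonoidHom.fst C _ (prodBits L2 n) from rfl, prodBits_map,
          List.map_map, List.map_map]
        rfl
      have e2 : (prodBits L2 n).2 = Q.u ω n := by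
        rw [show (prodBits L2 n).2 = MonoidHom.snd C _ (prodBits L2 n) from rfl, prodBits_map, List.map_map]
        rfl
      show D.L (ρ (prodBits l n)) _
      rw [← e1, ← e2]
      exact h
  have hcommA : ∀ Q, ∀ a ∈ D.A Q, ∀ b ∈ D.A Q, ∀ y y', ρ y = a → ρ y' = b → Commute y y' := by
    intro Q a ha b hb y y' hy hy'
    obtain ⟨v, -, hvc, hvL⟩ := hgood Q
    have key : ∀ a ∈ D.A Q, ∀ y, ρ y = a → ∃ n, ∀ u, Commute (v n) u → Commute y u := by
      intro a ha y hy
      obtain ⟨n, -, hL, -⟩ := D.exists_code Q hω ha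
      refine ⟨n, fun u hu => ?_⟩
      have h1 : θ ((v n)⁻¹ * y) = 1 := by
        show D.θ (ρ _) = 1
        rw [map_mul, map_inv, hy]
        rcases (hvL n).eq_or hL with e | e <;> rw [e]
        · rw [inv_mul_cancel, map_one]
        · rw [inv_mul_cancel_left, (D.ker D.z).2 (Or.inr rfl)]
      have hc := Subgroup.mem_center_iff.1 (hθc h1) u
      rw [show y = v n * ((v n)⁻¹ * y) by group]
      exact hu.mul_left hc.symm
    obtain ⟨n, hn⟩ := key a ha y hy
    obtain ⟨m, hm⟩ := key b hb y' hy'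
    exact hn _ (hm _ (hvc m n)).symm
  refine D.no_split hC P hω p ⟨1, map_one ρ, one_mul 1⟩ ?_ ?_ ?_ ?_
  · rintro ⟨y, hy, hy2⟩
    have h1 : ρ (w⁻¹ * y) = 1 := by rw [map_mul, map_inv, hw, hy, inv_mul_cancel]
    rcases (hker _).1 h1 with e | e
    · rw [← inv_mul_eq_one.1 e] at hy2; exact hw2 hy2
    · rw [inv_mul_eq_iff_eq_mul.1 e, (show Commute z w from hzc w).mul_mul_mul_comm, hz2, mul_one] at hy2
      exact hw2 hy2
  · rintro c x' ⟨y, rfl, hy⟩
    obtain ⟨g, rfl⟩ := hρ c
    refine ⟨g * y * g⁻¹, by rw [map_mul, map_mul, map_inv], ?_⟩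
    rw [show g * y * g⁻¹ * (g * y * g⁻¹) = g * (y * y) * g⁻¹ by group, hy]; group
  · rintro Q a ha b hb ⟨y, hy, hy2⟩ ⟨y', hy', hy2'⟩
    refine ⟨y * y', by rw [map_mul, hy, hy'], ?_⟩
    rw [(hcommA Q b hb a ha y' y hy' hy).mul_mul_mul_comm, hy2, hy2', one_mul]
  · intro Q a ha
    obtain ⟨v, hv2, -, hvL⟩ := hgood Q
    obtain ⟨n, -, hL, -⟩ := D.exists_code Q hω ha
    rcases hL.eq_or (hvL n) with e | e
    · exact Or.inl ⟨v n, e, hv2 n⟩
    · exact Or.inr ⟨v n, e, hv2 n⟩

variable {G : Type*} [Group G] [Finite G]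

/-- Every involution lifts to an involution in a central extension by a group of order two. -/
theorem Ctx.exists_lift {C : Type*} [Group C] [Finite C] (T : Ctx hF G) (π : C →* G)
    (hπ : Function.Surjective π) (z : C) (hz2 : z * z = 1) (hzc : ∀ y, z * y = y * z)
    (hker : ∀ y, π y = 1 ↔ y = 1 ∨ y = z) {x : G} (hx : x * x = 1) : ∃ y, y * y = 1 ∧ π y = x := by
  obtain ⟨e, he, hcomm⟩ := T.exists_commute hx
  obtain ⟨g, hg⟩ := isConj_iff.1 he
  obtain ⟨gh, hgh⟩ := hπ g
  set C' := Subgroup.centralizer ({T.d} : Set G)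
  have hmem : g⁻¹ * x * g ∈ C' := by
    rw [Subgroup.mem_centralizer_singleton_iff]
    calc g⁻¹ * x * g * T.d = g⁻¹ * (x * e) * g := by rw [← hg]; group
      _ = g⁻¹ * (e * x) * g := by rw [hcomm.eq]
      _ = _ := by rw [← hg]; group
  let H := C'.comap π
  let ρ : H →* C' :=
    { toFun := fun y => ⟨π y.1, y.2⟩
      map_one' := Subtype.ext (map_one π)
      map_mul' := fun a b => Subtype.ext (map_mul π _ _) }
  have hρ : Function.Surjective ρ := fun c => by
    obtain ⟨y, hy⟩ := hπ c.1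
    exact ⟨⟨y, show π y ∈ C' from hy ▸ c.2⟩, Subtype.ext hy⟩
  have hzH : z ∈ H := show π z ∈ C' by rw [(hker z).2 (Or.inr rfl)]; exact one_mem _
  obtain ⟨y, hy, hyx⟩ := exists_lift_cover T.D T.perfect ρ hρ ⟨z, hzH⟩ (Subtype.ext hz2)
    (fun y => Subtype.ext (hzc y.1))
    (fun y => by
      constructor
      · intro h
        exact ((hker y.1).1 (congrArg Subtype.val h)).imp (fun e => Subtype.ext e) (fun e => Subtype.ext e)
      · intro h
        exact Subtype.ext ((hker y.1).2 (h.imp (congrArg Subtype.val) (congrArg Subtype.val))))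
    (x := ⟨_, hmem⟩) (Subtype.ext (by
      show g⁻¹ * x * g * (g⁻¹ * x * g) = 1
      rw [show g⁻¹ * x * g * (g⁻¹ * x * g) = g⁻¹ * (x * x) * g by group, hx]; group))
  refine ⟨gh * y.1 * gh⁻¹, ?_, ?_⟩
  · have h1 : y.1 * y.1 = 1 := congrArg Subtype.val hy
    rw [show gh * y.1 * gh⁻¹ * (gh * y.1 * gh⁻¹) = gh * (y.1 * y.1) * gh⁻¹ by group, h1]; group
  · rw [map_mul, map_mul, map_inv, hgh, show π y.1 = g⁻¹ * x * g from congrArg Subtype.val hyx]
    group

end CfsgLib.U6Cover
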