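import Cfsg.Agent.Lib.U6Cover.CaseOne
import Cfsg.Agent.Lib.U6Cover.CaseTwo

/-!
The subgroup of order `2 ^ 10` contains exactly 22 conjugates of the involution: itself and one over each
transvection coordinate.
-/

set_option autoImplicit false

namespace CfsgLib.U6Cover

variable {F : Type*} [Field F] [Fintype F] {hF : Fintype.card F = 2 ^ 2} {G : Type*} [Group G] [Finite G]

/-- The distribution of the conjugates. -/
theorem Ctx.cnt_eq (T : Ctx hF G) (P : Fr hF) {ω : F} (hω : ω ^ 2 + ω + 1 = 0) :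
    ∀ n < 512, T.cnt P ω n = sel 1 0 0 n := by
  obtain ⟨c1, c2, c3, hsel, h⟩ := T.options P hω
  rcases h with h | h | h <;> simp only [Prod.mk.injEq] at h <;> obtain ⟨rfl, rfl, rfl⟩ := h
  · exact hsel
  · refine (T.not_one P hω fun n hn => ?_).elim
    rw [hsel n hn]
    simp [sel]
  · refine (T.not_two P hω fun n hn hn0 => ?_).elim
    rw [hsel n hn]
    have : Nat.beq n 0 = false := Bool.eq_false_iff.2 fun e => hn0 (Nat.eq_of_beq_eq_true e)
    simp [sel, this]

theorem Ctx.ncard_eq (T : Ctx hF G) (P : Fr hF) :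
    Set.ncard {x : G | x ∈ T.AG P ∧ IsConj T.d x} = 22 := by
  obtain ⟨ω, hω⟩ := exists_omega hF
  rw [T.ncard_X P hω, Finset.sum_congr rfl fun n hn => T.cnt_eq P hω n (Finset.mem_range.1 hn), sum_sel]
  rfl

end CfsgLib.U6Cover
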