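import Cfsg.Agent.Lib.U6Cover.Split
import Cfsg.Agent.Lib.U6Cover.Orbits

/-!
The two classes of lifts of transvections in a double cover of `PSU(6, 2)`: each contains exactly one element
over each transvection with coded coordinates.
-/

set_option autoImplicit false

namespace CfsgLib.U6Cover

open Module CfsgLib.Classical.Herm HermSpace CfsgLib.UnitaryTransv

attribute [-simp] stdHerm_h

variable {F : Type*} [Field F] [Fintype F] {hF : Fintype.card F = 2 ^ 2}

/-- The transvection of the first vector of a frame. -/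
def Fr.tau (P : Fr hF) : Unit' (stdHerm hF 6) := tv hF (P.e 0) (P.ee 0 0)

theorem code4_vec_lt (v : ℕ) (hv : v < 64) : code4 v < 512 := (code_spec hv).2.1

theorem Fr.u_code4 (P : Fr hF) {ω : F} (hω : ω ^ 2 + ω + 1 = 0) {v : ℕ} (hv : v < 64) :
    P.u ω (code4 v) = P.tvv ω v := by
  have h1 := P.hasCode_u hω (code4 v)
  have h2 := P.hasCode_tvv hω hv
  rw [show lin baseMats (code4 v) = outer4 v from (coord_spec (code_spec hv).1).1] at h1
  exact h1.eq h2

theorem Fr.tau_eq (P : Fr hF) {ω : F} (hω : ω ^ 2 + ω + 1 = 0) : P.u ω 1 = P.tau := by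
  rw [show (1 : ℕ) = code4 1 by decide +kernel, P.u_code4 hω (by norm_num)]
  exact tv_congr hF _ _ (P.e_eq_vec ω).1.symm

theorem Fr.tau_mem (P : Fr hF) : P.tau ∈ P.U ∧ P.tau ∈ P.P2.U ∧ P.tau ∈ P.P3.U := by
  refine ⟨fun i => ?_, fun i => ?_, fun i => ?_⟩ <;>
    fin_cases i <;> simp [Fr.tau, Fr.P2, Fr.P3, tv_apply, P.ee, P.fe]

theorem Fr.tau_sq (P : Fr hF) : P.tau * P.tau = 1 := tv_sq hF _ _

theorem Fr.det_tau (P : Fr hF) : detHom (stdHerm hF 6) P.tau = 1 := det_tv hF _ _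

variable {C : Type*} [Group C]

/-- The conjugates of an element. -/
def Data.InT (_D : Data hF C) (t x : C) : Prop := ∃ c : C, x = c * t * c⁻¹

variable [Finite C] (D : Data hF C) (P : Fr hF)

/-- A lift of the transvection commutes with the lifts of its centraliser. -/
theorem Data.commute_tau {t c : C} {g : Unit' (stdHerm hF 6)} (ht : D.L t P.tau) (hc : D.L c g)
    (hg : Commute g P.tau) : Commute c t := by
  classical
  obtain ⟨ω, hω⟩ := exists_omega hF
  let H : Subgroup C :=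
    { carrier := {c | ∃ g, D.L c g ∧ Commute g P.tau}
      one_mem' := ⟨1, D.L_one, Commute.one_left _⟩
      mul_mem' := fun ⟨g, h, k⟩ ⟨g', h', k'⟩ => ⟨g * g', h.mul h', k.mul_left k'⟩
      inv_mem' := fun ⟨g, h, k⟩ => ⟨g⁻¹, h.inv, k.inv_left⟩ }
  have hcase : ∀ x ∈ H, x * t * x⁻¹ = t ∨ x * t * x⁻¹ = t * D.z := by
    rintro x ⟨g, h, k⟩
    have h1 := h.conj ht
    rw [show g * P.tau * g⁻¹ = P.tau from by rw [k.eq, mul_inv_cancel_right]] at h1
    exact ht.eq_or h1
  let K : Subgroup C := H ⊓ Subgroup.centralizer ({t} : Set C)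
  have hS : D.S0 P ω hω ≤ K := by
    have hA : ∀ Q : Fr hF, P.tau ∈ Q.U → ∀ x ∈ D.A Q, x ∈ K := by
      intro Q hQ x hx
      have hcm : Commute x t := congrArg Subtype.val
        ((D.isElementary Q).1.1.comm ⟨x, hx⟩ ⟨t, _, hQ, ht⟩)
      obtain ⟨n, hlt, hn, -⟩ := D.exists_code Q hω hx
      refine ⟨⟨_, hn, ?_⟩, Subgroup.mem_centralizer_singleton_iff.2 hcm.eq⟩
      exact D.commute_invol hn ht (D.u_sq Q hω hlt) P.tau_sq hcm
    exact sup_le (hA P P.tau_mem.1) (sup_le (fun x hx => hA _ P.tau_mem.2.2 x ((D.B3_le P hω).1 hx))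
      (fun x hx => hA _ P.tau_mem.2.1 x ((D.B2_le P hω).1 hx)))
  by_contra hne
  have hcH : c ∈ H := ⟨g, hc, hg⟩
  let φ : ↥H →* ℤˣ :=
    { toFun := fun x => if Commute (x : C) t then 1 else -1
      map_one' := if_pos (Commute.one_left t)
      map_mul' := fun x y => by
        by_cases hx : Commute (x : C) t
        · rw [if_pos hx, one_mul]
          exact if_congr ⟨fun h => by simpa using hx.inv_left.mul_left h, fun h => hx.mul_left h⟩ rfl rfl
        · by_cases hy : Commute (y : C) t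
          · rw [if_pos hy, mul_one]
            exact if_congr ⟨fun h => by simpa using h.mul_left hy.inv_left, fun h => h.mul_left hy⟩ rfl rfl
          · rw [if_neg hx, if_neg hy, if_pos]
            · norm_num
            · have h1 := (hcase x x.2).resolve_left fun h => hx (mul_inv_eq_iff_eq_mul.1 h)
              have h2 := (hcase y y.2).resolve_left fun h => hy (mul_inv_eq_iff_eq_mul.1 h)
              refine mul_inv_eq_iff_eq_mul.1 ?_
              calc (x : C) * y * t * ((x : C) * y)⁻¹ = (x : C) * ((y : C) * t * (y : C)⁻¹) * (x : C)⁻¹ := by group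
                _ = ((x : C) * t * (x : C)⁻¹) * ((x : C) * D.z * (x : C)⁻¹) := by rw [h2]; group
                _ = t := by rw [h1, ← D.central x, mul_inv_cancel_right, mul_assoc, D.z_sq, mul_one] }
  have hker : (K.subgroupOf H) ≤ φ.ker := fun x hx =>
    MonoidHom.mem_ker.2 (if_pos (Subgroup.mem_centralizer_singleton_iff.1 hx.2))
  have hsurj : φ.range = ⊤ := by
    refine eq_top_iff.2 fun u _ => ?_
    rcases Int.units_eq_one_or u with rfl | rfl
    · exact one_mem _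
    · exact ⟨⟨c, hcH⟩, if_neg hne⟩
  have h2 : 2 ∣ φ.ker.index := by
    rw [Subgroup.index_ker, hsurj, Subgroup.card_top, Nat.card_eq_fintype_card, Fintype.card_units_int]
  obtain ⟨-, -, hodd⟩ := D.exists_sylow P hω
  refine Nat.not_even_iff_odd.2 hodd (even_iff_two_dvd.2 ?_)
  refine h2.trans ((Subgroup.index_dvd_of_le hker).trans ?_)
  exact (Dvd.intro _ (Subgroup.relIndex_mul_index inf_le_left)).trans (Subgroup.index_dvd_of_le hS)

/-- At most one conjugate of a lift lies over an involution. -/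
theorem Data.InT.eq {t x y : C} (ht : D.L t P.tau) (hx : D.InT t x) (hy : D.InT t y)
    {k : Unit' (stdHerm hF 6)} (hk : k * k = 1) (hxk : D.L x k) (hyk : D.L y k) : x = y := by
  obtain ⟨c, rfl⟩ := hx
  obtain ⟨c', rfl⟩ := hy
  obtain ⟨g, hg⟩ := D.exists_L c
  obtain ⟨g', hg'⟩ := D.exists_L c'
  have hsq : ∀ g : Unit' (stdHerm hF 6), (g * P.tau * g⁻¹) * (g * P.tau * g⁻¹) = 1 := fun g => by
    rw [show g * P.tau * g⁻¹ * (g * P.tau * g⁻¹) = g * (P.tau * P.tau) * g⁻¹ by group, P.tau_sq, mul_one,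
      mul_inv_cancel]
  have e1 := hxk.eq_of_invol (hg.conj ht) hk (hsq g)
  have e2 := hyk.eq_of_invol (hg'.conj ht) hk (hsq g')
  have hcm : Commute (g'⁻¹ * g) P.tau := by
    refine mul_inv_eq_iff_eq_mul.1 ?_
    calc g'⁻¹ * g * P.tau * (g'⁻¹ * g)⁻¹ = g'⁻¹ * (g * P.tau * g⁻¹) * g' := by group
      _ = P.tau := by rw [e1, ← e2]; group
  have h := D.commute_tau P ht (hg'.inv.mul hg) hcm
  calc c * t * c⁻¹ = c' * ((c'⁻¹ * c) * t * (c'⁻¹ * c)⁻¹) * c'⁻¹ := by group
    _ = c' * t * c'⁻¹ := by rw [h.eq, mul_inv_cancel_right]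

theorem genAct_lt {g : ℕ} (hg : g < 6) (n : ℕ) : genAct g n < 512 :=
  lin_lt _ (by interval_cases g <;> decide +kernel) n

/-- Conjugation by a generator. -/
theorem Data.exists_step {ω : F} (hω : ω ^ 2 + ω + 1 = 0) {g : ℕ} (hg : g < 6) :
    ∃ (c : C) (k : Unit' (stdHerm hF 6)), D.L c k ∧ ∀ n < 512, k * P.u ω n * k⁻¹ = P.u ω (genAct g n) := by
  obtain ⟨c, -, hc⟩ := exists_genAct D P hω g hg
  obtain ⟨k, hk⟩ := D.exists_L c
  refine ⟨c, k, hk, fun m hm => (hc m).eq_of_invol (hk.conj (D.L_au P ω m)) (D.u_sq P hω (genAct_lt hg m)) ?_⟩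
  rw [show k * P.u ω m * k⁻¹ * (k * P.u ω m * k⁻¹) = k * (P.u ω m * P.u ω m) * k⁻¹ by group,
    D.u_sq P hω hm, mul_one, mul_inv_cancel]

theorem Data.InT.conj {t x : C} (hx : D.InT t x) (c : C) : D.InT t (c * x * c⁻¹) := by
  obtain ⟨c', rfl⟩ := hx
  exact ⟨c * c', by group⟩

/-- A conjugate of the lift over each coordinate of rank one. -/
theorem Data.exists_inT {ω : F} (hω : ω ^ 2 + ω + 1 = 0) {t : C} (ht : D.L t P.tau) {n : ℕ} (hn : n < 512)
    (hn0 : n ≠ 0) (hr : root4 n = 1) : ∃ x, D.InT t x ∧ D.L x (P.u ω n) := by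
  let f : ℕ → Prop := fun m => ∃ x, D.InT t x ∧ D.L x (P.u ω m)
  have hf : ∀ g < 6, ∀ m < 512, f (genAct g m) = f m := by
    intro g hg m hm
    obtain ⟨c, k, hk, he⟩ := D.exists_step P hω hg
    refine propext ⟨fun ⟨x, hx, h⟩ => ?_, fun ⟨x, hx, h⟩ => ⟨_, hx.conj D c, he m hm ▸ hk.conj h⟩⟩
    have := hk.inv.conj h
    rw [← he m hm, show k⁻¹ * (k * P.u ω m * k⁻¹) * k⁻¹⁻¹ = P.u ω m by group] at this
    exact ⟨_, hx.conj D c⁻¹, this⟩
  show f n
  rw [(root_invariant f hf hn hn0).1, hr]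
  exact ⟨t, ⟨1, by group⟩, P.tau_eq hω ▸ ht⟩

end CfsgLib.U6Cover
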