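import Cfsg.Agent.Lib.U6Cover.MultClass

/-!
If the products over two hexads of lifts of transvections in one class are trivial, the double cover splits
over the subgroups of order `2 ^ 10`, so it is not perfect.
-/

set_option autoImplicit false
set_option linter.unusedSectionVars false

namespace CfsgLib.U6Cover

open Module CfsgLib.Classical.Herm HermSpace CfsgLib.UnitaryTransv

attribute [-simp] stdHerm_h

/-- The codes of the transvections in the first group. -/
def pts21 : List ℕ :=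
  [1, 2, 4, 8, 16, 27, 32, 64, 101, 128, 175, 215, 249, 256, 316, 335, 370, 390, 433, 474, 492]

theorem pts21_ok : ∀ n ∈ pts21, n < 512 ∧ n ≠ 0 ∧ root4 n = 1 := by decide +kernel

theorem code4_mem_pts21 : ∀ v < 64, v ≠ 0 → code4 v ∈ pts21 := by decide +kernel

/-- The first hexad. -/
def hexOne : List ℕ := [1, 8, 32, 175, 256, 390]

/-- The second hexad. -/
def hexTwo : List ℕ := [1, 2, 32, 215, 370, 390]

/-- The transvections of a line. -/
def lineOne : List ℕ := [1, 2, 8, 16, 27]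

theorem line_hex_mem : (∀ n ∈ lineOne, n ∈ pts21) ∧ (∀ n ∈ hexOne, n ∈ pts21) ∧ ∀ n ∈ hexTwo, n ∈ pts21 := by
  decide +kernel

theorem base_pts21 : ∀ v ∈ baseVecs, code4 v ∈ pts21 := by decide +kernel

theorem genAct_pts21 : ∀ g < 6, ∀ n ∈ pts21, genAct g n ∈ pts21 := by decide +kernel

/-- The image of a list under a word in the generators. -/
def moved (w : List ℕ) (l : List ℕ) : List ℕ := w.foldl (fun l g => l.map (genAct g)) l

variable {F : Type*} [Field F] [Fintype F] {hF : Fintype.card F = 2 ^ 2} {C : Type*} [Group C] [Finite C]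

/-- An element of the class over each transvection of the first group of a frame. -/
structure Data.Sel (D : Data hF C) (P : Fr hF) (ω : F) (t : C) (f : ℕ → C) : Prop where
  mem : ∀ n ∈ pts21, D.InT t (f n)
  lies : ∀ n ∈ pts21, D.L (f n) (P.u ω n)

/-- The normalised lifts. -/
def Data.tz (D : Data hF C) (f : ℕ → C) (n : ℕ) : C := f n * D.z

/-- Their products. -/
noncomputable def Data.aw (D : Data hF C) (f : ℕ → C) (n : ℕ) : C :=
  prodBits (baseVecs.map fun v => D.tz f (code4 v)) n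

/-- Every lift is the product given by its code. -/
def Data.Good (D : Data hF C) (f : ℕ → C) : Prop := ∀ n ∈ pts21, D.tz f n = D.aw f n

variable (D : Data hF C) {P₀ P : Fr hF} {ω : F} {t : C} {f : ℕ → C}

theorem Data.Sel.L_tz (h : D.Sel P ω t f) {n : ℕ} (hn : n ∈ pts21) : D.L (D.tz f n) (P.u ω n) :=
  (h.lies n hn).mul_z

theorem Data.Sel.tz_mem (hω : ω ^ 2 + ω + 1 = 0) (h : D.Sel P ω t f) {n : ℕ} (hn : n ∈ pts21) :
    D.tz f n ∈ D.A P := ⟨_, P.u_mem hω n, h.L_tz D hn⟩

theorem Data.Sel.L_aw (hω : ω ^ 2 + ω + 1 = 0) (h : D.Sel P ω t f) (n : ℕ) :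
    D.L (D.aw f n) (P.u ω n) := by
  set l := baseVecs.map fun v => (D.tz f (code4 v), P.tvv ω v)
  have hl : prodBits l n ∈ D.pairs := prodBits_mem _ _ (fun s hs => by
    obtain ⟨v, hv, rfl⟩ := List.mem_map.1 hs
    show D.L _ _
    rw [← P.u_code4 hω (baseVecs_lt v hv)]
    exact h.L_tz D (base_pts21 v hv)) n
  have e1 : (prodBits l n).1 = D.aw f n := by
    rw [show (prodBits l n).1 = MonoidHom.fst C _ (prodBits l n) from rfl, prodBits_map, List.map_map]
    rfl
  have e2 : (prodBits l n).2 = P.u ω n := by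
    rw [show (prodBits l n).2 = MonoidHom.snd C _ (prodBits l n) from rfl, prodBits_map, List.map_map]
    rfl
  rw [← e1, ← e2]
  exact hl

theorem Data.Sel.aw_xor (hω : ω ^ 2 + ω + 1 = 0) (h : D.Sel P ω t f) (a b : ℕ) :
    D.aw f (a ^^^ b) = D.aw f a * D.aw f b := by
  refine prodBits_xor _ (fun s hs => ?_) (fun s hs r hr => ?_) a b
  · obtain ⟨v, hv, rfl⟩ := List.mem_map.1 hs
    simpa [pow_two] using (D.isElementary P).2 _ (h.tz_mem D hω (base_pts21 v hv))
  · obtain ⟨v, hv, rfl⟩ := List.mem_map.1 hs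
    obtain ⟨w, hw, rfl⟩ := List.mem_map.1 hr
    exact congrArg Subtype.val ((D.isElementary P).1.1.comm ⟨_, h.tz_mem D hω (base_pts21 v hv)⟩
      ⟨_, h.tz_mem D hω (base_pts21 w hw)⟩)

theorem Data.aw_zero (f : ℕ → C) : D.aw f 0 = 1 := prodBits_zero _

theorem Data.aw_base (f : ℕ → C) : ∀ v ∈ baseVecs, D.tz f (code4 v) = D.aw f (code4 v) := by
  intro v hv
  simp only [baseVecs, List.mem_cons, List.not_mem_nil, or_false] at hv
  rcases hv with rfl | rfl | rfl | rfl | rfl | rfl | rfl | rfl | rfl <;>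
    simp [Data.aw, baseVecs, prodBits, show code4 1 = 1 by decide +kernel, show code4 4 = 2 by decide +kernel,
      show code4 16 = 4 by decide +kernel, show code4 5 = 8 by decide +kernel,
      show code4 9 = 16 by decide +kernel, show code4 17 = 32 by decide +kernel,
      show code4 33 = 64 by decide +kernel, show code4 20 = 128 by decide +kernel,
      show code4 36 = 256 by decide +kernel, show Nat.beq 0 1 = false from rfl, show Nat.beq 1 1 = true from rfl]

theorem Data.Sel.prod_aw (hω : ω ^ 2 + ω + 1 = 0) (h : D.Sel P ω t f) (l : List ℕ) :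
    (l.map (D.aw f)).prod = D.aw f (l.foldr (· ^^^ ·) 0) := by
  induction l with
  | nil => simp [D.aw_zero]
  | cons a l ih => rw [List.map_cons, List.prod_cons, ih, List.foldr_cons, h.aw_xor D hω]

theorem Data.Sel.solve (hω : ω ^ 2 + ω + 1 = 0) (h : D.Sel P ω t f) (l₁ l₂ : List ℕ) {n : ℕ}
    (hp : ((l₁ ++ n :: l₂).map (D.tz f)).prod = 1) (hx : (l₁ ++ n :: l₂).foldr (· ^^^ ·) 0 = 0)
    (h₁ : ∀ m ∈ l₁, D.tz f m = D.aw f m) (h₂ : ∀ m ∈ l₂, D.tz f m = D.aw f m) :
    D.tz f n = D.aw f n := by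
  have h0 := h.prod_aw D hω (l₁ ++ n :: l₂)
  rw [hx, D.aw_zero] at h0
  simp only [List.map_append, List.map_cons, List.prod_append, List.prod_cons, List.map_congr_left h₁,
    List.map_congr_left h₂] at hp h0
  exact mul_right_cancel (mul_left_cancel (hp.trans h0.symm))

theorem Data.Sel.conj_tz (hω : ω ^ 2 + ω + 1 = 0) (h : D.Sel P ω t f) (ht : D.L t P₀.tau) {g : ℕ}
    (hg : g < 6) : ∃ c : C, ∀ n ∈ pts21, c * D.tz f n * c⁻¹ = D.tz f (genAct g n) := by
  obtain ⟨c, k, hk, he⟩ := D.exists_step P hω hg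
  refine ⟨c, fun n hn => ?_⟩
  have hm := genAct_pts21 g hg n hn
  have e : c * f n * c⁻¹ = f (genAct g n) :=
    Data.InT.eq D P₀ ht ((h.mem n hn).conj D c) (h.mem _ hm) (D.u_sq P hω (genAct_lt hg n))
      (he n (pts21_ok n hn).1 ▸ hk.conj (h.lies n hn)) (h.lies _ hm)
  rw [Data.tz, Data.tz, ← e, mul_assoc (c * f n) c⁻¹ D.z, ← D.central c⁻¹]
  group

theorem Data.Sel.line (hω : ω ^ 2 + ω + 1 = 0) (h : D.Sel P ω t f) (ht : D.L t P₀.tau)
    (hl : (lineOne.map (D.tz f)).prod = 1) : ∀ w : List ℕ, (∀ g ∈ w, g < 6) →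
      ((moved w lineOne).map (D.tz f)).prod = 1 := by
  suffices ∀ (w l : List ℕ), (∀ g ∈ w, g < 6) → (∀ n ∈ l, n ∈ pts21) → (l.map (D.tz f)).prod = 1 →
      ((moved w l).map (D.tz f)).prod = 1 from fun w hw => this w _ hw line_hex_mem.1 hl
  intro w
  induction w with
  | nil => exact fun l _ _ e => e
  | cons g w ih =>
    intro l hw hl e
    have hg : g < 6 := hw g List.mem_cons_self
    refine ih (l.map (genAct g)) (fun x hx => hw x (List.mem_cons_of_mem _ hx)) (fun n hn => ?_) ?_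
    · obtain ⟨m, hm, rfl⟩ := List.mem_map.1 hn
      exact genAct_pts21 g hg m (hl m hm)
    · obtain ⟨c, hc⟩ := h.conj_tz D hω ht hg
      rw [List.map_map, show l.map (D.tz f ∘ genAct g) = (l.map (D.tz f)).map (MulAut.conj c) by
        rw [List.map_map]; exact List.map_congr_left fun n hn => (hc n (hl n hn)).symm, ← map_list_prod, e,
        map_one]

/-- One line and two hexads determine all the relations. -/
theorem Data.Sel.good (hω : ω ^ 2 + ω + 1 = 0) (h : D.Sel P ω t f) (ht : D.L t P₀.tau)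
    (hl : (lineOne.map (D.tz f)).prod = 1) (h₁ : (hexOne.map (D.tz f)).prod = 1)
    (h₂ : (hexTwo.map (D.tz f)).prod = 1) : D.Good f := by
  let G := fun n => D.tz f n = D.aw f n
  have hb : ∀ n ∈ [1, 2, 4, 8, 16, 32, 64, 128, 256], G n := by
    intro n hn
    rw [show [1, 2, 4, 8, 16, 32, 64, 128, 256] = baseVecs.map code4 by decide +kernel] at hn
    obtain ⟨v, hv, rfl⟩ := List.mem_map.1 hn
    exact D.aw_base f v hv
  simp only [List.forall_mem_cons, List.not_mem_nil, false_implies, forall_const, and_true] at hb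
  obtain ⟨k1, k2, k4, k8, k16, k32, k64, k128, k256⟩ := hb
  have hline : ∀ (w : List ℕ) (l₁ l₂ : List ℕ) (n : ℕ), (w.all fun g => Nat.blt g 6) = true →
      moved w lineOne = l₁ ++ n :: l₂ → (l₁ ++ n :: l₂).foldr (· ^^^ ·) 0 = 0 → (∀ m ∈ l₁, G m) →
      (∀ m ∈ l₂, G m) → G n := by
    intro w l₁ l₂ n hw e hx g₁ g₂
    refine h.solve D hω l₁ l₂ (e ▸ h.line D hω ht hl w fun g hg => ?_) hx g₁ g₂
    exact Nat.blt_eq.mp (List.all_eq_true.1 hw g hg)
  have k27 := hline [] [1, 2, 8, 16] [] 27 rfl (by decide +kernel) (by decide +kernel) (by simp [*]) (by simp)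
  have k101 := hline [5, 2] [1, 4, 32, 64] [] 101 rfl (by decide +kernel) (by decide +kernel) (by simp [*])
    (by simp)
  have k390 := hline [5, 2, 4, 0] [2, 4, 128, 256] [] 390 rfl (by decide +kernel) (by decide +kernel)
    (by simp [*]) (by simp)
  have k175 : G 175 := h.solve D hω [1, 8, 32] [256, 390] h₁ (by decide +kernel) (by simp [G, *] at *)
    (by simp [G, *] at *)
  have k474 := hline [5, 4, 1, 2] [16, 101, 175, 256] [] 474 rfl (by decide +kernel) (by decide +kernel)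
    (by simp [*]) (by simp)
  have k370 := hline [5, 4, 1, 4] [27] [175, 390, 64] 370 rfl (by decide +kernel) (by decide +kernel)
    (by simp [*]) (by simp [*])
  have k215 : G 215 := h.solve D hω [1, 2, 32] [370, 390] h₂ (by decide +kernel) (by simp [G, *] at *)
    (by simp [G, *] at *)
  have k249 := hline [5] [1, 128, 175, 215] [] 249 rfl (by decide +kernel) (by decide +kernel) (by simp [*])
    (by simp)
  have k335 := hline [5, 4, 1] [16, 249, 32, 390] [] 335 rfl (by decide +kernel) (by decide +kernel)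
    (by simp [*]) (by simp)
  have k433 := hline [5, 2, 4, 1] [16, 4, 215, 370] [] 433 rfl (by decide +kernel) (by decide +kernel)
    (by simp [*]) (by simp)
  have k492 := hline [5, 4, 0, 1] [27, 215, 32] [256] 492 rfl (by decide +kernel) (by decide +kernel)
    (by simp [*]) (by simp [*])
  have k316 := hline [5, 2, 4, 0, 1] [27, 4, 249] [474] 316 rfl (by decide +kernel) (by decide +kernel)
    (by simp [*]) (by simp [*])
  intro n hn
  simp only [pts21, List.mem_cons, List.not_mem_nil, or_false] at hn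
  rcases hn with rfl | rfl | rfl | rfl | rfl | rfl | rfl | rfl | rfl | rfl | rfl | rfl | rfl | rfl | rfl |
    rfl | rfl | rfl | rfl | rfl | rfl <;> assumption

/-- The products of the normalised lifts. -/
noncomputable def Data.Sel.H (hω : ω ^ 2 + ω + 1 = 0) (h : D.Sel P ω t f) : Subgroup C where
  carrier := {c | ∃ n < 512, D.aw f n = c}
  one_mem' := ⟨0, by norm_num, D.aw_zero f⟩
  mul_mem' := by
    rintro a b ⟨n, hn, rfl⟩ ⟨m, hm, rfl⟩
    exact ⟨n ^^^ m, Nat.xor_lt_two_pow (n := 9) hn hm, h.aw_xor D hω n m⟩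
  inv_mem' := by
    rintro a ⟨n, hn, rfl⟩
    refine ⟨n, hn, eq_inv_of_mul_eq_one_left ?_⟩
    rw [← h.aw_xor D hω, Nat.xor_self, D.aw_zero]

theorem Data.Sel.H_spec (hω : ω ^ 2 + ω + 1 = 0) (h : D.Sel P ω t f) :
    D.z ∉ h.H D hω ∧ h.H D hω ≤ D.A P ∧
      ∀ x ∈ D.A P, x ∈ h.H D hω ∨ x * D.z ∈ h.H D hω := by
  refine ⟨?_, ?_, fun x hx => ?_⟩
  · rintro ⟨n, hn, e⟩
    obtain rfl : (0 : ℕ) = n := D.code_unique P hω hn (by norm_num) (e ▸ h.L_aw D hω n)
      (by rw [show P.u ω 0 = 1 from prodBits_zero _]; exact D.L_z)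
    exact D.z_ne (by rw [← e, D.aw_zero])
  · rintro _ ⟨n, -, rfl⟩
    exact ⟨_, P.u_mem hω n, h.L_aw D hω n⟩
  · obtain ⟨n, hn, hL, -⟩ := D.exists_code P hω hx
    rcases (h.L_aw D hω n).eq_or hL with rfl | rfl
    · exact Or.inl ⟨n, hn, rfl⟩
    · exact Or.inr ⟨n, hn, by rw [mul_assoc, D.z_sq, mul_one]⟩

/-- Elements mapping the coded vectors to coded vectors preserve the products. -/
theorem Data.Sel.H_conj (hω : ω ^ 2 + ω + 1 = 0) (h : D.Sel P ω t f) (ht : D.L t P₀.tau) (hG : D.Good f)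
    {c : C} {k : Unit' (stdHerm hF 6)} (hc : D.L c k)
    (hk : ∀ v ∈ baseVecs, ∃ w < 64, w ≠ 0 ∧ k.1 (P.vec ω v) = P.vec ω w) {x : C} (hx : x ∈ h.H D hω) :
    c * x * c⁻¹ ∈ h.H D hω := by
  obtain ⟨n, -, rfl⟩ := hx
  rw [Data.aw, show c * prodBits (baseVecs.map fun v => D.tz f (code4 v)) n * c⁻¹ =
    (MulAut.conj c).toMonoidHom (prodBits (baseVecs.map fun v => D.tz f (code4 v)) n) from rfl, prodBits_map]
  refine prodBits_mem (h.H D hω).toSubmonoid _ (fun s hs => ?_) n
  simp only [List.map_map, List.mem_map, Function.comp_apply] at hs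
  obtain ⟨v, hv, rfl⟩ := hs
  obtain ⟨w, hw, hw0, e⟩ := hk v hv
  have hwp := code4_mem_pts21 w hw hw0
  have he : k * P.u ω (code4 v) * k⁻¹ = P.u ω (code4 w) := by
    rw [P.u_code4 hω (baseVecs_lt v hv), P.u_code4 hω hw]
    exact (tv_conj hF k _ _).trans (tv_congr hF _ _ e)
  have e1 : c * f (code4 v) * c⁻¹ = f (code4 w) :=
    Data.InT.eq D P₀ ht ((h.mem _ (base_pts21 v hv)).conj D c) (h.mem _ hwp)
      (D.u_sq P hω (code_spec hw).2.1) (he ▸ hc.conj (h.lies _ (base_pts21 v hv))) (h.lies _ hwp)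
  refine ⟨code4 w, (code_spec hw).2.1, ?_⟩
  rw [← hG _ hwp]
  show f (code4 w) * D.z = c * (f (code4 v) * D.z) * c⁻¹
  rw [← e1, mul_assoc (c * f (code4 v)) c⁻¹ D.z, ← D.central c⁻¹]
  group

/-- Transport of the lifts along an isometry. -/
theorem Data.Sel.transport (hω : ω ^ 2 + ω + 1 = 0) (h : D.Sel P ω t f) {Q : Fr hF} {c : C}
    {k : Unit' (stdHerm hF 6)} (hc : D.L c k) (hk : ∀ i, k.1 (P.e i) = Q.e i) :
    D.Sel Q ω t (fun n => c * f n * c⁻¹) ∧ (D.Good f → D.Good fun n => c * f n * c⁻¹) := by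
  have hu : ∀ n, k * P.u ω n * k⁻¹ = Q.u ω n := fun n => by
    rw [show k * P.u ω n * k⁻¹ = (MulAut.conj k).toMonoidHom (P.u ω n) from rfl, Fr.u, prodBits_map,
      List.map_map]
    refine congrArg (prodBits · n) (List.map_congr_left fun v _ => ?_)
    refine (tv_conj hF k _ _).trans (tv_congr hF _ _ ?_)
    rw [P.vec_map, hk, hk, hk, Fr.vec, Fin.sum_univ_three]
    rfl
  refine ⟨⟨fun n hn => (h.mem n hn).conj D c, fun n hn => hu n ▸ hc.conj (h.lies n hn)⟩, fun hG n hn => ?_⟩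
  have e : ∀ m, D.tz (fun n => c * f n * c⁻¹) m = c * D.tz f m * c⁻¹ := fun m => by
    show c * f m * c⁻¹ * D.z = c * (f m * D.z) * c⁻¹
    rw [mul_assoc (c * f m) c⁻¹ D.z, ← D.central c⁻¹]
    group
  rw [e, hG n hn]
  show (MulAut.conj c).toMonoidHom (D.aw f n) = _
  rw [Data.aw, prodBits_map, List.map_map]
  exact congrArg (prodBits · n) (List.map_congr_left fun v _ => (e _).symm)

end CfsgLib.U6Cover
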