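import Cfsg.Agent.Lib.U6Cover.Transpositions
import Mathlib.GroupTheory.Perm.Cycle.Type

/-!
The normaliser of the subgroup of order `2 ^ 10` permutes the 22 conjugates evenly, so each of its involutions
fixes one of them, and every involution of the group commutes with a conjugate.
-/

set_option autoImplicit false
set_option linter.unusedSectionVars false

namespace CfsgLib.U6Cover

open CfsgLib.Classical.Herm HermSpace CfsgLib.UnitaryTransv

attribute [-simp] stdHerm_h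

/-- The coordinates of the conjugates. -/
def code22 (n : ℕ) : Bool := Nat.beq n 0 || Nat.beq (rank4 n) 1

theorem code22_card : countBelow 512 code22 = 22 := by decide +kernel

theorem parity2_ok : (below 4 fun a =>
    Nat.beq (((22 - countBelow 512 fun n => code22 n && Nat.beq (lin (triImgs a 0 0) n) n) / 2) % 2) 0) = true := by
  decide +kernel

theorem parity3_ok : (below 4 fun p => below 4 fun q =>
    Nat.beq (((22 - countBelow 512 fun n => code22 n && Nat.beq (lin (triImgs 0 p q) n) n) / 2) % 2) 0) = true := by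
  decide +kernel

variable {F : Type*} [Field F] [Fintype F] {hF : Fintype.card F = 2 ^ 2} {G : Type*} [Group G] [Finite G]

variable (T : Ctx hF G) (P : Fr hF)

/-- The conjugates in `A`. -/
def Ctx.X : Type _ := {x : G // x ∈ T.AG P ∧ IsConj T.d x}

noncomputable instance : Fintype (T.X P) := by unfold Ctx.X; exact Fintype.ofFinite _
noncomputable instance : DecidableEq (T.X P) := Classical.decEq _

/-- The normaliser of `A`. -/
def Ctx.N : Subgroup G := Subgroup.normalizer (T.AG P : Set G)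

/-- The permutation of the conjugates induced by the normaliser. -/
noncomputable def Ctx.σ : T.N P →* Equiv.Perm (T.X P) where
  toFun n :=
    { toFun := fun x => ⟨(n : G) * x.1 * (n : G)⁻¹, (Subgroup.mem_normalizer_iff.1 n.2 _).1 x.2.1,
        x.2.2.trans (isConj_iff.2 ⟨(n : G), rfl⟩)⟩
      invFun := fun x => ⟨(n : G)⁻¹ * x.1 * (n : G), (Subgroup.mem_normalizer_iff''.1 n.2 _).1 x.2.1,
        x.2.2.trans (isConj_iff.2 ⟨(n : G)⁻¹, by rw [inv_inv]⟩)⟩
      left_inv := fun x => Subtype.ext (by simp [mul_assoc])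
      right_inv := fun x => Subtype.ext (by simp [mul_assoc]) }
  map_one' := Equiv.ext fun x => Subtype.ext (by
    show ((1 : T.N P) : G) * x.1 * ((1 : T.N P) : G)⁻¹ = x.1
    simp)
  map_mul' a b := Equiv.ext fun x => Subtype.ext (by
    show ((a * b : T.N P) : G) * x.1 * ((a * b : T.N P) : G)⁻¹ =
      (a : G) * ((b : G) * x.1 * (b : G)⁻¹) * (a : G)⁻¹
    simp [mul_assoc])

theorem Ctx.σ_apply (n : T.N P) (x : T.X P) : ((T.σ P n) x).1 = (n : G) * x.1 * (n : G)⁻¹ := rfl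

/-- The sign of the permutation. -/
noncomputable def Ctx.χ : T.N P →* ℤˣ := (Equiv.Perm.sign : Equiv.Perm (T.X P) →* ℤˣ).comp (T.σ P)

theorem Ctx.card_X : Fintype.card (T.X P) = 22 := by
  rw [← Nat.card_eq_fintype_card, ← T.ncard_eq P, ← Nat.card_coe_set_eq]
  rfl

theorem Ctx.sign_sq {τ : Equiv.Perm (T.X P)} (h : τ * τ = 1) :
    Equiv.Perm.sign τ = (-1) ^ ((22 - Nat.card (Function.fixedPoints τ)) / 2) := by
  classical
  rw [Equiv.Perm.sign_of_pow_two_eq_one (by rw [pow_two]; exact h), T.card_X, Nat.card_eq_fintype_card]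

/-- The conjugates are indexed by their coordinates. -/
theorem Ctx.exists_index {ω : F} (hω : ω ^ 2 + ω + 1 = 0) :
    ∃ κ : T.X P → ℕ, Function.Injective κ ∧ (∀ x, κ x < 512 ∧ code22 (κ x) = true ∧
      ∃ c ∈ T.D.A P, (c : G) = x.1 ∧ T.D.L c (P.u ω (κ x))) ∧
      ∀ n < 512, code22 n = true → ∃ x, κ x = n := by
  obtain ⟨h1, h2, h3⟩ := T.elv_spec P hω
  choose e he using fun x : T.X P => h3 x.1 x.2.1
  have hchi : ∀ x, T.chi (T.elv P ω (e x)) = 1 := fun x => by rw [he]; exact T.chi_eq_one.2 x.2.2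
  have hcnt : ∀ x, 0 < T.cnt P ω (e x).1 ∧ code22 (e x).1 = true := by
    intro x
    have h := hchi x
    have hpos : 0 < T.cnt P ω (e x).1 := by
      unfold Ctx.cnt
      generalize e x = p at h ⊢
      rcases p with ⟨n, (_ | _)⟩
      · rw [T.elv_false] at h; show 0 < T.chi (T.av P ω n) + _; omega
      · rw [T.elv_true] at h; show 0 < _ + T.chi (T.av P ω n * T.d); omega
    refine ⟨hpos, ?_⟩
    rw [T.cnt_eq P hω _ (e x).1.2] at hpos
    revert hpos
    unfold code22 sel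
    cases Nat.beq ((e x).1 : ℕ) 0 <;> cases Nat.beq (rank4 (e x).1) 1 <;> simp
  have hinj : Function.Injective (fun x => ((e x).1 : ℕ)) := by
    intro x y hxy
    have hn : (e x).1 = (e y).1 := Fin.ext hxy
    have hle : T.cnt P ω (e x).1 ≤ 1 := by
      rw [T.cnt_eq P hω _ (e x).1.2]
      unfold sel
      cases Nat.beq ((e x).1 : ℕ) 0 <;> cases Nat.beq (rank4 (e x).1) 1 <;> simp
    have hx := hchi x
    have hy := hchi y
    apply Subtype.ext
    rw [← he x, ← he y]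
    unfold Ctx.cnt at hle
    revert hx hy hn hle
    rcases e x with ⟨n, b⟩
    rcases e y with ⟨m, b'⟩
    intro hn
    change n = m at hn
    subst hn
    intro hle hx hy
    change T.chi (T.av P ω n) + T.chi (T.av P ω n * T.d) ≤ 1 at hle
    cases b <;> cases b' <;> first | rfl | (simp only [T.elv_false, T.elv_true] at hx hy; omega)
  refine ⟨fun x => (e x).1, hinj, fun x => ⟨(e x).1.2, (hcnt x).2, T.D.el P ω (e x), ?_, he x, ?_⟩, ?_⟩
  · exact (T.D.el_bij P hω).1 _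
  · show T.D.L (T.D.au P ω (e x).1 * (bif (e x).2 then T.D.z else 1)) (P.u ω (e x).1)
    cases (e x).2
    · rw [cond_false, mul_one]; exact T.D.L_au P ω _
    · exact (T.D.L_au P ω _).mul_z
  · intro n hn hc
    have hcard : (Finset.univ.image fun x => ((e x).1 : ℕ)) = (Finset.range 512).filter fun n => code22 n := by
      refine Finset.eq_of_subset_of_card_le (fun m hm => ?_) ?_
      · obtain ⟨x, -, rfl⟩ := Finset.mem_image.1 hm
        exact Finset.mem_filter.2 ⟨Finset.mem_range.2 (e x).1.2, (hcnt x).2⟩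
      · rw [Finset.card_image_of_injective _ hinj, Finset.card_univ, T.card_X]
        exact le_of_eq ((countBelow_eq 512 code22).symm.trans code22_card)
    obtain ⟨x, -, hx⟩ := Finset.mem_image.1 (hcard ▸ Finset.mem_filter.2 ⟨Finset.mem_range.2 hn, hc⟩)
    exact ⟨x, hx⟩

theorem Ctx.coe_mem_N {c : ↥(Subgroup.centralizer ({T.d} : Set G))}
    (hc : c ∈ Subgroup.normalizer (T.D.A P : Set ↥(Subgroup.centralizer ({T.d} : Set G)))) : (c : G) ∈ T.N P := by
  refine Subgroup.mem_normalizer_iff.2 fun x => ⟨?_, ?_⟩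
  · rintro ⟨a, ha, rfl⟩
    exact ⟨_, (Subgroup.mem_normalizer_iff.1 hc a).1 ha, rfl⟩
  · rintro ⟨a, ha, hax⟩
    exact ⟨_, (Subgroup.mem_normalizer_iff''.1 hc a).1 ha, by
      show (c : G)⁻¹ * (a : G) * c = x
      rw [show (a : G) = (c : G) * x * (c : G)⁻¹ from hax]
      group⟩

theorem Ctx.of_mem_N {c : ↥(Subgroup.centralizer ({T.d} : Set G))} (hc : (c : G) ∈ T.N P) :
    c ∈ Subgroup.normalizer (T.D.A P : Set ↥(Subgroup.centralizer ({T.d} : Set G))) := by
  refine Subgroup.mem_normalizer_iff.2 fun a => ?_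
  have key : ∀ b : ↥(Subgroup.centralizer ({T.d} : Set G)), (b : G) ∈ T.AG P ↔ b ∈ T.D.A P := fun b =>
    ⟨fun ⟨_, h, e⟩ => by rwa [← Subtype.ext e], fun h => ⟨b, h, rfl⟩⟩
  rw [← key, ← key]
  exact Subgroup.mem_normalizer_iff.1 hc (a : G)

/-- The normaliser of `A` in the centraliser, mapped to the normaliser of `A`. -/
def Ctx.incl : ↥(Subgroup.normalizer (T.D.A P : Set ↥(Subgroup.centralizer ({T.d} : Set G)))) →* T.N P where
  toFun c := ⟨(c.1 : G), T.coe_mem_N P c.2⟩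
  map_one' := rfl
  map_mul' _ _ := rfl

theorem pow_even_neg_one {k : ℕ} (h : k % 2 = 0) : ((-1 : ℤˣ)) ^ k = 1 :=
  (Nat.even_iff.2 h).neg_one_pow

/-- The fixed points of a unitriangular element. -/
theorem Ctx.fix_tri {ω : F} (hω : ω ^ 2 + ω + 1 = 0)
    {c : ↥(Subgroup.normalizer (T.D.A P : Set ↥(Subgroup.centralizer ({T.d} : Set G))))} {g : Unit' (stdHerm hF 6)}
    (hg : T.D.L c.1 g) {a p q : ℕ} (ha : a < 4) (hp : p < 4) (hq : q < 4)
    (h0 : g.1 (P.e 0) = P.e 0) (h1 : g.1 (P.e 1) = P.e 1 + iota ω a • P.e 0)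
    (h2 : g.1 (P.e 2) = P.e 2 + iota ω p • P.e 0 + iota ω q • P.e 1) :
    Nat.card (Function.fixedPoints (T.σ P (T.incl P c))) =
      countBelow 512 fun n => code22 n && Nat.beq (lin (triImgs a p q) n) n := by
  classical
  obtain ⟨κ, hinj, hκ, hsurj⟩ := T.exists_index P hω
  have hv := P.vec_tri hω ha hp hq h0 h1 h2
  have hws : ∀ w ∈ baseVecs.map (tri4 a p q), w < 64 := fun w hw => by
    obtain ⟨v, -, rfl⟩ := List.mem_map.1 hw
    exact (hv v).2
  have hfix : ∀ x, T.σ P (T.incl P c) x = x ↔ lin (triImgs a p q) (κ x) = κ x := by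
    intro x
    obtain ⟨hlt, -, b, hb, hbx, hLb⟩ := hκ x
    obtain ⟨hlt', -, b', hb', hbx', hLb'⟩ := hκ (T.σ P (T.incl P c) x)
    have h4 := hg.conj hLb
    rw [P.u_conj hω hws (by rw [List.map_map]; exact List.map_congr_left fun v _ => (hv v).1)] at h4
    have e : b' = c.1 * b * c.1⁻¹ := Subtype.ext (by rw [hbx']; show _ = (c.1 : G) * (b : G) * (c.1 : G)⁻¹; rw [hbx]; rfl)
    rw [← e] at h4
    have hk : lin (triImgs a p q) (κ x) = κ (T.σ P (T.incl P c) x) :=
      T.D.code_unique P hω hlt' (code4_lt_of hws _) hLb' h4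
    constructor
    · intro h; rw [hk, h]
    · intro h; rw [hk] at h; exact hinj h
  rw [countBelow_eq, ← Nat.card_eq_finsetCard]
  refine Nat.card_congr (Equiv.ofBijective (fun x => ⟨κ x.1, Finset.mem_filter.2 ⟨Finset.mem_range.2 (hκ x.1).1, ?_⟩⟩) ⟨?_, ?_⟩)
  · rw [(hκ x.1).2.1, Bool.true_and, (hfix x.1).1 x.2]
    exact Nat.beq_refl _
  · intro x y h
    exact Subtype.ext (hinj (congrArg Subtype.val h))
  · rintro ⟨n, hn⟩
    obtain ⟨hn1, hn2⟩ := Finset.mem_filter.1 hn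
    simp only [Bool.and_eq_true] at hn2
    obtain ⟨x, hx⟩ := hsurj n (Finset.mem_range.1 hn1) hn2.1
    exact ⟨⟨x, (hfix x).2 (by rw [hx]; exact Nat.eq_of_beq_eq_true hn2.2)⟩, Subtype.ext hx⟩

/-- A unitriangular element induces the computed permutation. -/
theorem Ctx.χ_tri {ω : F} (hω : ω ^ 2 + ω + 1 = 0)
    {c : ↥(Subgroup.normalizer (T.D.A P : Set ↥(Subgroup.centralizer ({T.d} : Set G))))} {g : Unit' (stdHerm hF 6)}
    (hg : T.D.L c.1 g) (hc : c.1 * c.1 = 1) {a p q : ℕ} (ha : a < 4) (hp : p < 4) (hq : q < 4)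
    (h0 : g.1 (P.e 0) = P.e 0) (h1 : g.1 (P.e 1) = P.e 1 + iota ω a • P.e 0)
    (h2 : g.1 (P.e 2) = P.e 2 + iota ω p • P.e 0 + iota ω q • P.e 1)
    (heven : ((22 - countBelow 512 fun n => code22 n && Nat.beq (lin (triImgs a p q) n) n) / 2) % 2 = 0) :
    T.χ P (T.incl P c) = 1 := by
  classical
  have hτ : T.σ P (T.incl P c) * T.σ P (T.incl P c) = 1 := by
    rw [← map_mul, ← map_mul, show c * c = 1 from Subtype.ext hc, map_one, map_one]
  show Equiv.Perm.sign (T.σ P (T.incl P c)) = 1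
  rw [T.sign_sq P hτ]
  refine pow_even_neg_one ?_
  rw [T.fix_tri P hω hg ha hp hq h0 h1 h2]
  exact heven

/-- Permutations from the centraliser are even. -/
theorem Ctx.χ_incl (c : ↥(Subgroup.normalizer (T.D.A P : Set ↥(Subgroup.centralizer ({T.d} : Set G))))) :
    T.χ P (T.incl P c) = 1 := by
  obtain ⟨ω, hω⟩ := exists_omega hF
  obtain ⟨-, -, hodd⟩ := T.D.exists_sylow P hω
  set φ := (T.χ P).comp (T.incl P)
  have hS : ∀ x ∈ T.D.S0 P ω hω, ∀ hx : x ∈ Subgroup.normalizer (T.D.A P : Set _), φ ⟨x, hx⟩ = 1 := by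
    have hle : T.D.S0 P ω hω ≤ (φ.ker).map (Subgroup.subtype _) := by
      refine sup_le (fun x hx => ?_) (sup_le (fun x hx => ?_) (fun x hx => ?_))
      · refine ⟨⟨x, Subgroup.le_normalizer hx⟩, ?_, rfl⟩
        show Equiv.Perm.sign (T.σ P _) = 1
        rw [show T.σ P (T.incl P ⟨x, Subgroup.le_normalizer hx⟩) = 1 from Equiv.ext fun y => Subtype.ext (by
          show (x : G) * y.1 * (x : G)⁻¹ = y.1
          rw [(show Commute (x : G) y.1 from T.AG_comm P ⟨x, hx, rfl⟩ y.2.1).eq, mul_inv_cancel_right])]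
        exact map_one _
      · obtain ⟨n, hn, hm, hL⟩ := id hx
        obtain ⟨p0, p1, p2⟩ := P.u3_apply hω hn hm
        refine ⟨⟨x, (T.D.B3_le P hω).2 hx⟩, ?_, rfl⟩
        have hlt : ∀ i j : ℕ, i < 3 → j < 3 → ent4 (lin baseMats n) i j < 4 :=
          fun i j hi hj => (ent4_lt (coord_spec hn).2.2.1 hi hj).1
        refine T.χ_tri P hω (a := 0) hL (T.D.A_sq P.P3 ((T.D.B3_le P hω).1 hx)) (by norm_num)
          (hlt 0 2 (by norm_num) (by norm_num)) (hlt 1 2 (by norm_num) (by norm_num)) p0 (by simp [p1, iota]) p2 ?_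
        exact Nat.eq_of_beq_eq_true (below_spec (below_spec parity3_ok (hlt 0 2 (by norm_num) (by norm_num)))
          (hlt 1 2 (by norm_num) (by norm_num)))
      · obtain ⟨n, hn, hm, hL⟩ := id hx
        obtain ⟨p0, p1, p2, -⟩ := P.u2_apply hω hn hm
        refine ⟨⟨x, (T.D.B2_le P hω).2 hx⟩, ?_, rfl⟩
        have hlt : ent4 (lin baseMats n) 0 1 < 4 := (ent4_lt (coord_spec hn).2.2.1 (by norm_num) (by norm_num)).1
        refine T.χ_tri P hω (p := 0) (q := 0) hL (T.D.A_sq P.P2 ((T.D.B2_le P hω).1 hx)) hlt (by norm_num)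
          (by norm_num) p0 p1 (by simp [p2, iota]) ?_
        exact Nat.eq_of_beq_eq_true (below_spec parity2_ok hlt)
    intro x hx hx'
    obtain ⟨y, hy, e⟩ := hle hx
    rw [show (⟨x, hx'⟩ : ↥(Subgroup.normalizer _)) = y from Subtype.ext e.symm]
    exact hy
  have h1 : (T.D.S0 P ω hω).subgroupOf _ ≤ φ.ker := fun y hy => hS y.1 hy y.2
  have h2 : φ.ker.index ∣ (T.D.S0 P ω hω).index :=
    (Subgroup.index_dvd_of_le h1).trans (Subgroup.relIndex_dvd_index_of_le (T.D.S0_le_normalizer P hω))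
  have h3 : φ.ker.index ∣ 2 := by
    rw [Subgroup.index_ker]
    have h := Subgroup.card_subgroup_dvd_card φ.range
    rwa [Nat.card_eq_fintype_card (α := ℤˣ), Fintype.card_units_int] at h
  have h4 : φ.ker.index = 1 := by
    have := Nat.dvd_gcd h3 h2
    rwa [Nat.coprime_two_left.2 hodd, Nat.dvd_one] at this
  have : c ∈ φ.ker := by rw [Subgroup.index_eq_one.1 h4]; trivial
  exact this

/-- The centraliser is transitive on the other conjugates. -/
theorem Ctx.exists_move {x y : T.X P} (hx : x.1 ≠ T.d) (hy : y.1 ≠ T.d) :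
    ∃ c, T.σ P (T.incl P c) x = y := by
  obtain ⟨ω, hω⟩ := exists_omega hF
  obtain ⟨κ, hinj, hκ, hsurj⟩ := T.exists_index P hω
  set M := Subgroup.normalizer (T.D.A P : Set ↥(Subgroup.centralizer ({T.d} : Set G)))
  let f : ℕ → Prop := fun n => ∃ m : M, T.D.L (m.1 * T.D.au P ω 1 * m.1⁻¹) (P.u ω n)
  have hf : ∀ g < 6, ∀ n < 512, f (genAct g n) = f n := by
    intro g hg n hn
    obtain ⟨c, hcM, hc⟩ := exists_genAct T.D P hω g hg
    have hgn : genAct g n < 512 := lin_lt _ (by interval_cases g <;> decide +kernel) n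
    refine propext ⟨fun ⟨m, hm⟩ => ⟨⟨c, hcM⟩⁻¹ * m, ?_⟩, fun ⟨m, hm⟩ => ⟨⟨c, hcM⟩ * m, ?_⟩⟩
    · show T.D.L (c⁻¹ * m.1 * T.D.au P ω 1 * (c⁻¹ * m.1)⁻¹) _
      rw [show c⁻¹ * m.1 * T.D.au P ω 1 * (c⁻¹ * m.1)⁻¹ = c⁻¹ * (m.1 * T.D.au P ω 1 * m.1⁻¹) * c by group]
      rcases (hc n).eq_or hm with e | e <;> rw [e]
      · rw [show c⁻¹ * (c * T.D.au P ω n * c⁻¹) * c = T.D.au P ω n by group]
        exact T.D.L_au P ω n
      · rw [show c⁻¹ * (c * T.D.au P ω n * c⁻¹ * T.D.z) * c = T.D.au P ω n * (c⁻¹ * (T.D.z * c)) by group,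
          T.D.central c, inv_mul_cancel_left]
        exact (T.D.L_au P ω n).mul_z
    · show T.D.L (c * m.1 * T.D.au P ω 1 * (c * m.1)⁻¹) _
      rw [show c * m.1 * T.D.au P ω 1 * (c * m.1)⁻¹ = c * (m.1 * T.D.au P ω 1 * m.1⁻¹) * c⁻¹ by group]
      rcases (T.D.L_au P ω n).eq_or hm with e | e <;> rw [e]
      · exact hc n
      · rw [show c * (T.D.au P ω n * T.D.z) * c⁻¹ = c * T.D.au P ω n * (T.D.z * c⁻¹) by group, T.D.central c⁻¹,
          ← mul_assoc]
        exact (hc n).mul_z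
  have hne : ∀ z : T.X P, z.1 ≠ T.d → κ z ≠ 0 := by
    intro z hz h0
    obtain ⟨-, -, b, hb, hbz, hL⟩ := hκ z
    rw [h0, show P.u ω 0 = 1 from prodBits_zero _] at hL
    rcases T.D.L_one.eq_or hL with e | e
    · have := z.2.2
      rw [← hbz, e] at this
      exact T.d_ne (isConj_one_left.1 this)
    · rw [one_mul] at e
      exact hz (by rw [← hbz, e, T.hz])
  obtain ⟨p, hp⟩ := hsurj 1 (by norm_num) (by decide +kernel)
  have reach : ∀ z : T.X P, z.1 ≠ T.d → ∃ m : M, T.σ P (T.incl P m) p = z := by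
    intro z hz
    obtain ⟨hlt, hc22, b, hb, hbz, hL⟩ := hκ z
    have hr : rank4 (κ z) = 1 := by
      simp only [code22, Bool.or_eq_true] at hc22
      rcases hc22 with h | h
      · exact absurd (Nat.eq_of_beq_eq_true h) (hne z hz)
      · exact Nat.eq_of_beq_eq_true h
    obtain ⟨hroot, hr'⟩ := root_invariant f hf hlt (hne z hz)
    have hroot1 : root4 (κ z) = 1 := by
      rcases hr' with h | h | h
      · exact h
      all_goals (unfold rank4 at hr; rw [h] at hr; simp [Nat.beq] at hr)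
    obtain ⟨m, hm⟩ : f (κ z) := by
      rw [hroot, hroot1]
      exact ⟨1, by
        show T.D.L ((1 : ↥(Subgroup.centralizer ({T.d} : Set G))) * T.D.au P ω 1 * 1⁻¹) _
        rw [one_mul, inv_one, mul_one]; exact T.D.L_au P ω 1⟩
    refine ⟨m, hinj ?_⟩
    obtain ⟨hlt1, -, b1, hb1, hbp, hL1⟩ := hκ p
    obtain ⟨hlt2, -, b2, hb2, hb2z, hL2⟩ := hκ (T.σ P (T.incl P m) p)
    have e : b2 = m.1 * b1 * m.1⁻¹ := Subtype.ext (by rw [hb2z]; show _ = (m.1 : G) * (b1 : G) * (m.1 : G)⁻¹; rw [hbp]; rfl)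
    refine T.D.code_unique P hω hlt hlt2 ?_ hL2
    rw [e]
    rw [hp] at hL1
    rcases (T.D.L_au P ω 1).eq_or hL1 with e1 | e1 <;> rw [e1]
    · exact hm
    · rw [show m.1 * (T.D.au P ω 1 * T.D.z) * m.1⁻¹ = m.1 * T.D.au P ω 1 * (T.D.z * m.1⁻¹) by group,
        T.D.central m.1⁻¹, ← mul_assoc]
      exact hm.mul_z
  obtain ⟨m1, h1⟩ := reach x hx
  obtain ⟨m2, h2⟩ := reach y hy
  refine ⟨m2 * m1⁻¹, ?_⟩
  rw [map_mul, map_mul, map_inv, map_inv, Equiv.Perm.mul_apply, ← h1]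
  rw [show (T.σ P (T.incl P m1))⁻¹ (T.σ P (T.incl P m1) p) = p from Equiv.symm_apply_apply _ _]
  exact h2

/-- An involution normalising `A` centralises a conjugate in `A`. -/
theorem Ctx.exists_fixed (n : T.N P) (hn : (n : G) * n = 1) : ∃ x : T.X P, T.σ P n x = x := by
  classical
  by_contra! hcon
  have hσ : T.σ P n * T.σ P n = 1 := by
    rw [← map_mul, show n * n = 1 from Subtype.ext hn, map_one]
  have hχ : T.χ P n = -1 := by
    show Equiv.Perm.sign (T.σ P n) = -1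
    rw [T.sign_sq P hσ]
    have : IsEmpty (Function.fixedPoints (T.σ P n)) := ⟨fun x => hcon x.1 x.2⟩
    rw [Nat.card_of_isEmpty]
    exact Odd.neg_one_pow ⟨5, rfl⟩
  let d0 : T.X P := ⟨T.d, T.d_mem P, IsConj.refl _⟩
  set y := T.σ P n d0 with hy
  obtain ⟨z, hz1, hz2⟩ : ∃ z : T.X P, z ≠ d0 ∧ z ≠ y := by
    by_contra! h
    have hle := (Finset.card_le_card (fun z _ => by
      by_cases hz : z = d0
      · simp [hz]
      · simp [h z hz] : (Finset.univ : Finset (T.X P)) ⊆ {d0, y})).trans Finset.card_le_two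
    rw [Finset.card_univ, T.card_X] at hle
    omega
  obtain ⟨g, hg, hgz⟩ := T.exists_normalizer P z.2.1 z.2.2
  let n2 : T.N P := ⟨g, hg⟩
  have hn2 : T.σ P n2 d0 = z := Subtype.ext hgz
  obtain ⟨k, hk, hkd⟩ : ∃ k, T.χ P k = 1 ∧ T.σ P k d0 ≠ d0 := by
    rcases Int.units_eq_one_or (T.χ P n2) with h | h
    · exact ⟨n2, h, hn2 ▸ hz1⟩
    · refine ⟨n * n2, by rw [map_mul, hχ, h]; norm_num, ?_⟩
      rw [map_mul, Equiv.Perm.mul_apply, hn2]
      intro e
      apply hz2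
      rw [hy, ← e, ← Equiv.Perm.mul_apply, hσ, Equiv.Perm.one_apply]
  have hyd : y ≠ d0 := hcon d0
  obtain ⟨c, hc⟩ := T.exists_move P (x := T.σ P k d0) (y := y) (fun e => hkd (Subtype.ext e))
    (fun e => hyd (Subtype.ext e))
  set k' : T.N P := (T.incl P c * k)⁻¹ * n
  have hfix : T.σ P k' d0 = d0 := by
    rw [map_mul, map_inv, map_mul, Equiv.Perm.mul_apply, ← hy, ← hc, ← Equiv.Perm.mul_apply (T.σ P (T.incl P c))]
    exact Equiv.symm_apply_apply _ _
  have hk'C : (k' : G) ∈ Subgroup.centralizer ({T.d} : Set G) := by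
    rw [Subgroup.mem_centralizer_singleton_iff]
    exact mul_inv_eq_iff_eq_mul.1 (congrArg Subtype.val hfix)
  have h1 := T.χ_incl P ⟨⟨(k' : G), hk'C⟩, T.of_mem_N P k'.2⟩
  have h1' : T.χ P k' = 1 := h1
  rw [map_mul, map_inv, map_mul, T.χ_incl, hk, hχ] at h1'
  norm_num at h1'

/-- An involution normalising `A` commutes with a conjugate of `d` in `A`. -/
theorem Ctx.exists_commute_in {n : G} (hn : n ∈ T.N P) (hn2 : n * n = 1) :
    ∃ y ∈ T.AG P, IsConj T.d y ∧ Commute n y := by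
  obtain ⟨y, hy⟩ := T.exists_fixed P ⟨n, hn⟩ hn2
  exact ⟨y.1, y.2.1, y.2.2, mul_inv_eq_iff_eq_mul.1 (congrArg Subtype.val hy)⟩

/-- A Sylow subgroup containing `A` normalises it. -/
theorem Ctx.sylow_le_normalizer (S : Sylow 2 G) (hS : T.AG P ≤ S) : (S : Subgroup G) ≤ T.N P := by
  have hfixN := fun n hn hn2 => T.exists_commute_in P (n := n) hn hn2
  have : Fact (Nat.Prime 2) := ⟨Nat.prime_two⟩
  by_contra hle
  set M := (T.N P).subgroupOf (S : Subgroup G)
  have hM : M < ⊤ := lt_top_iff_ne_top.2 fun e => hle (Subgroup.subgroupOf_eq_top.1 e)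
  obtain ⟨g, hg, hgM⟩ := SetLike.exists_of_lt
    ((Group.normalizerCondition_of_isNilpotent (h := S.isPGroup'.isNilpotent)) M hM)
  apply hgM
  show (g : G) ∈ T.N P
  have hconj : ∀ e, e ∈ T.AG P → IsConj T.d e → (g : G) * e * (g : G)⁻¹ ∈ T.AG P := by
    intro e heA he
    set e' := (g : G) * e * (g : G)⁻¹
    have he' : IsConj T.d e' := he.trans (isConj_iff.2 ⟨(g : G), rfl⟩)
    have he'N : e' ∈ T.N P :=
      (Subgroup.mem_normalizer_iff.1 hg ⟨e, hS heA⟩).1 (Subgroup.le_normalizer heA)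
    have he'2 : e' * e' = 1 := by
      obtain ⟨h, hh⟩ := isConj_iff.1 he'
      rw [← hh, show h * T.d * h⁻¹ * (h * T.d * h⁻¹) = h * (T.d * T.d) * h⁻¹ by group, T.d_sq, mul_one,
        mul_inv_cancel]
    obtain ⟨y, hyA, hy, hcomm⟩ := hfixN e' he'N he'2
    obtain ⟨n, hn, rfl⟩ := T.exists_normalizer P hyA hy
    set e'' := n⁻¹ * e' * n
    have hC : e'' ∈ Subgroup.centralizer ({T.d} : Set G) := by
      rw [Subgroup.mem_centralizer_singleton_iff]
      calc e'' * T.d = n⁻¹ * (e' * (n * T.d * n⁻¹)) * n := by simp only [e'']; group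
        _ = n⁻¹ * ((n * T.d * n⁻¹) * e') * n := by rw [hcomm.eq]
        _ = T.d * e'' := by simp only [e'']; group
    have hmem := T.conj_mem_A P (c := ⟨e'', hC⟩)
      (he'.trans (isConj_iff.2 ⟨n⁻¹, by rw [inv_inv]⟩))
      (T.of_mem_N P (mul_mem (mul_mem (inv_mem hn) he'N) hn))
    exact (Subgroup.mem_normalizer_iff''.1 hn e').2 ⟨_, hmem, rfl⟩
  have hle2 : T.AG P ≤ (T.AG P).comap (MulAut.conj (g : G)).toMonoidHom := by
    refine (T.AG_le_closure P).trans ((Subgroup.closure_le _).2 fun e he => ?_)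
    exact hconj e he.1 he.2
  have hinj : Function.Injective (fun a : T.AG P => (⟨(g : G) * a * (g : G)⁻¹, hle2 a.2⟩ : T.AG P)) :=
    fun a b h => Subtype.ext (mul_left_cancel (mul_right_cancel (congrArg Subtype.val h)))
  refine Subgroup.mem_normalizer_iff.2 fun a => ⟨fun ha => hle2 ha, fun ha => ?_⟩
  obtain ⟨b, hb⟩ := Finite.surjective_of_injective hinj ⟨_, ha⟩
  have : (b : G) = a := mul_left_cancel (mul_right_cancel (congrArg Subtype.val hb))
  exact this ▸ b.2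

/-- Every involution commutes with a conjugate of `d`. -/
theorem Ctx.exists_commute (T : Ctx hF G) {x : G} (hx : x * x = 1) : ∃ e, IsConj T.d e ∧ Commute x e := by
  obtain ⟨P, -⟩ := exists_frame_fixed hF 1 (one_mul 1)
  have hA2 : IsPGroup 2 (T.AG P) := IsPGroup.of_card (T.card_AG P)
  obtain ⟨S, hS⟩ := hA2.exists_le_sylow
  have : Fact (Nat.Prime 2) := ⟨Nat.prime_two⟩
  have hfixN := fun n hn hn2 => T.exists_commute_in P (n := n) hn hn2
  have hSN := T.sylow_le_normalizer P S hS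
  have hpx : IsPGroup 2 (Subgroup.zpowers x) := by
    rintro ⟨y, hy⟩
    obtain ⟨k, rfl⟩ := Subgroup.mem_zpowers_iff.1 hy
    refine ⟨1, Subtype.ext ?_⟩
    show (x ^ k) ^ (2 ^ 1) = 1
    rw [pow_one, pow_two, ← (Commute.refl x).mul_zpow, hx, one_zpow]
  obtain ⟨R, hR⟩ := hpx.exists_le_sylow
  obtain ⟨h, hh⟩ := MulAction.exists_smul_eq G S R
  have hxR : x ∈ R := hR (Subgroup.mem_zpowers x)
  have hx' : h⁻¹ * x * h ∈ (S : Subgroup G) := by
    rw [← hh] at hxR
    obtain ⟨a, ha, e⟩ := hxR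
    rw [show x = h * a * h⁻¹ from e.symm]
    rw [show h⁻¹ * (h * a * h⁻¹) * h = a by group]
    exact ha
  obtain ⟨y, -, hy, hc⟩ := hfixN _ (hSN hx')
    (by rw [show h⁻¹ * x * h * (h⁻¹ * x * h) = h⁻¹ * (x * x) * h by group, hx]; group)
  refine ⟨h * y * h⁻¹, hy.trans (isConj_iff.2 ⟨h, rfl⟩), ?_⟩
  show x * (h * y * h⁻¹) = h * y * h⁻¹ * x
  calc x * (h * y * h⁻¹) = h * ((h⁻¹ * x * h) * y) * h⁻¹ := by group
    _ = h * (y * (h⁻¹ * x * h)) * h⁻¹ := by rw [hc.eq]
    _ = _ := by group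

end CfsgLib.U6Cover
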