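import Cfsg.Agent.Lib.U6Cover.Central

/-!
If both elements over each conjugate in `A` and one over each product of two are conjugates, the elements over
the conjugates fall into two classes preserved by the normaliser, and a central element of a Sylow subgroup is a
conjugate, which is impossible.
-/

set_option autoImplicit false
set_option linter.unusedSectionVars false

namespace CfsgLib.U6Cover

variable {F : Type*} [Field F] [Fintype F] {hF : Fintype.card F = 2 ^ 2} {Q C G : Type*} [Group Q] [Finite Q]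
  [Group C] [Finite C] [Group G] [Finite G]

variable (W : Dbl hF Q C G) (P : Fr hF)

/-- An element over a conjugate in `A`. -/
def Dbl.Pt (a : C) : Prop := a ∈ W.B P ∧ IsConj W.T.d (W.π a)

/-- The product is a conjugate of the involution. -/
def Dbl.Rel (a b : C) : Prop := IsConj (W.ι W.z) (W.ι (a * b))

/-- The same class. -/
def Dbl.Same (a b : C) : Prop := (W.π a = W.π b → a = b) ∧ (W.π a ≠ W.π b → W.Rel a b)

variable {W P} {ω : F}

theorem Dbl.Pt.mul_z {a : C} (ha : W.Pt P a) : W.Pt P (a * W.z) :=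
  ⟨mul_mem ha.1 (W.z_mem P), by rw [map_mul, W.πz, mul_one]; exact ha.2⟩

theorem Dbl.Pt.conj {a g : C} (ha : W.Pt P a) (hg : W.π g ∈ W.T.N P) : W.Pt P (g * a * g⁻¹) :=
  ⟨show W.π (g * a * g⁻¹) ∈ W.T.AG P by
    rw [map_mul, map_mul, map_inv]; exact (Subgroup.mem_normalizer_iff.1 hg _).1 ha.1,
    by rw [map_mul, map_mul, map_inv]; exact ha.2.trans (isConj_iff.2 ⟨W.π g, rfl⟩)⟩

variable (W P)

theorem Dbl.mul_z_mul_z (a b : C) : a * W.z * (b * W.z) = a * b := by
  rw [show a * W.z * (b * W.z) = a * (W.z * b) * W.z by group, W.central b,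
    show a * (b * W.z) * W.z = a * b * (W.z * W.z) by group, W.z_sq, mul_one]

theorem Dbl.rel_mul_z (a b : C) : W.Rel (a * W.z) (b * W.z) ↔ W.Rel a b := by
  unfold Dbl.Rel
  rw [W.mul_z_mul_z]

theorem Dbl.same_mul_z (a b : C) : W.Same (a * W.z) (b * W.z) ↔ W.Same a b := by
  unfold Dbl.Same
  rw [map_mul, map_mul, W.πz, mul_one, mul_one, W.rel_mul_z, mul_left_inj]

theorem Dbl.cnt_val (hω : ω ^ 2 + ω + 1 = 0) {k : ℕ} (hk : k < 4) {q : Q} (hq : W.T.Orb P (W.T.rep P ω k) q) :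
    W.cntF W.chi q = pick (W.num P ω) k := (W.vals_chi P ω).orb hω hk hq

variable (hω : ω ^ 2 + ω + 1 = 0) (hv : W.num P ω = (1, 2, 1, 0))
include hω hv

theorem Dbl.pt_conjugate {a : C} (ha : W.Pt P a) : IsConj (W.ι W.z) (W.ι a) := by
  obtain ⟨n, hn, hne⟩ := W.T.exists_normalizer P ha.1 ha.2
  have h := W.cnt_val P hω (k := 1) (by norm_num) ⟨n, hn, hne⟩
  rw [hv, W.cntF_π] at h
  have := W.chi_le (W.ι a); have := W.chi_le (W.ι (a * W.z))
  simp only [pick] at h
  exact W.chi_eq_one.1 (by omega)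

theorem Dbl.pair_cnt {a b : C} (ha : W.Pt P a) (hb : W.Pt P b) (hne : W.π a ≠ W.π b) :
    (W.Rel a b ↔ ¬ W.Rel a (b * W.z)) := by
  have h := W.cnt_val P hω (k := 2) (by norm_num) (W.T.orb_two P hω ha.1 ha.2 hb.1 hb.2 hne)
  rw [hv, ← map_mul, W.cntF_π] at h
  simp only [pick] at h
  have := W.chi_le (W.ι (a * b)); have := W.chi_le (W.ι (a * b * W.z))
  unfold Dbl.Rel
  rw [← W.chi_eq_one, ← W.chi_eq_one, ← mul_assoc]
  omega

theorem Dbl.triple_not {a b : C} {x y : Q} (hx : x ∈ W.T.AG P) (hxd : IsConj W.T.d x) (hy : y ∈ W.T.AG P)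
    (hyd : IsConj W.T.d y) (ha : W.π a = x * y) (hb : W.Pt P b) (hxy : x ≠ y) (h1 : x ≠ W.π b) (h2 : y ≠ W.π b) :
    ¬ W.Rel a b := by
  intro hr
  have h := W.cnt_val P hω (k := 3) (by norm_num) (W.T.orb_three P hω hx hxd hy hyd hb.1 hb.2 hxy h1 h2)
  rw [hv, ← ha, ← map_mul, W.cntF_π, W.chi_eq_one.2 hr] at h
  simp only [pick] at h
  omega

/-- An element whose products with two related ones are conjugates lies over one of few elements. -/
theorem Dbl.classify {u v a : C} (hu : W.Pt P u) (hv' : W.Pt P v) (hne : W.π u ≠ W.π v) (huv : W.Rel u v)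
    (haB : a ∈ W.B P) (ha : IsConj (W.ι W.z) (W.ι a)) (hau : W.Rel a u) (hav : W.Rel a v) :
    (W.π a = 1 ∧ a = W.z) ∨ (W.π a = W.π u * W.π v ∧ a = u * v) ∨
      (W.Pt P a ∧ W.π a ≠ W.π u ∧ W.π a ≠ W.π v) := by
  have h1 : W.ι 1 = 1 := map_one _
  have hbad : ∀ b, IsConj (W.ι W.z) (W.ι b) → b ≠ 1 := fun b hb e => by
    rw [e, h1] at hb
    exact W.z_ne (W.inj ((isConj_one_left.1 hb).trans h1.symm))
  have hself : ∀ {w}, W.Pt P w → ∀ {w'}, W.Pt P w' → W.π w ≠ W.π w' → W.Rel w w' → W.Rel a w → W.Rel a w' →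
      W.π a ≠ W.π w := by
    intro w hw w' hw' hww hrel haw haw' e
    rcases W.eq_or e with rfl | rfl
    · exact hbad _ haw (W.B_sq P hw.1)
    · have h2 : ¬ W.Rel w (w' * W.z) := (W.pair_cnt P hω hv hw hw' hww).1 hrel
      apply h2
      unfold Dbl.Rel at haw' ⊢
      rw [show w * (w' * W.z) = w * W.z * w' by rw [← W.central w', ← mul_assoc]]
      exact haw'
  obtain ⟨k, hk, g, hg, hgk⟩ := W.T.exists_rep P hω (x := W.π a) haB
  have hc := W.cnt_val P hω hk ⟨g, hg, hgk⟩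
  rw [hv, W.cntF_π, W.chi_eq_one.2 ha] at hc
  interval_cases k
  · have hπ : W.π a = 1 := by rw [← hgk]; show g * 1 * g⁻¹ = 1; group
    refine Or.inl ⟨hπ, ((W.ker a).1 hπ).resolve_left (hbad a ha)⟩
  · refine Or.inr (Or.inr ⟨⟨haB, hgk ▸ isConj_iff.2 ⟨g, rfl⟩⟩, hself hu hv' hne huv hau hav, ?_⟩)
    refine hself hv' hu hne.symm ?_ hav hau
    unfold Dbl.Rel at huv ⊢
    rwa [(W.B_comm P hv'.1 hu.1).eq]
  · set x := g * W.T.d * g⁻¹
    set y := g * W.T.pt P ω 1 * g⁻¹
    obtain ⟨hp, hpd⟩ := W.T.pt_conj P hω (n := 1) (by decide)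
    have hxy : x ≠ y := fun e => by
      have e' := mul_left_cancel (mul_right_cancel e)
      exact absurd (W.T.pt_inj P hω (by decide) (by decide) ((W.T.pt_zero P).trans e')) (by norm_num)
    have hx : x ∈ W.T.AG P := (Subgroup.mem_normalizer_iff.1 hg _).1 (W.T.d_mem P)
    have hy : y ∈ W.T.AG P := (Subgroup.mem_normalizer_iff.1 hg _).1 hp
    have hπ : W.π a = x * y := by rw [← hgk]; show g * (W.T.d * W.T.pt P ω 1) * g⁻¹ = _; simp only [x, y]; group
    have hxd : IsConj W.T.d x := isConj_iff.2 ⟨g, rfl⟩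
    have hyd : IsConj W.T.d y := hpd.trans (isConj_iff.2 ⟨g, rfl⟩)
    have key : ∀ b, W.Pt P b → W.Rel a b → W.π b = x ∨ W.π b = y := fun b hb hr => by
      by_contra h
      rw [not_or] at h
      exact W.triple_not P hω hv hx hxd hy hyd hπ hb hxy (Ne.symm h.1) (Ne.symm h.2) hr
    have hπ' : W.π a = W.π u * W.π v := by
      rcases key u hu hau with e | e <;> rcases key v hv' hav with e' | e' <;>
        first
          | exact absurd (e.trans e'.symm) hne
          | (rw [hπ, e, e']; done)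
          | (rw [hπ, e, e', (W.T.AG_comm P hx hy).eq])
    refine Or.inr (Or.inl ⟨hπ', ?_⟩)
    rcases W.eq_or (x := a) (y := u * v) (by rw [hπ', map_mul]) with e | e
    · exact e
    · exfalso
      have h2 : ¬ W.Rel u (v * W.z) := (W.pair_cnt P hω hv hu hv' hne).1 huv
      apply h2
      unfold Dbl.Rel
      rw [← mul_assoc, ← e]
      exact ha
  · simp only [pick] at hc; omega

/-- Related elements are related to common elements over every other conjugate. -/
theorem Dbl.common {u v : C} (hu : W.Pt P u) (hv' : W.Pt P v) (hne : W.π u ≠ W.π v) (huv : W.Rel u v) {q : Q}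
    (hq : q ∈ W.T.AG P) (hqd : IsConj W.T.d q) (hqu : q ≠ W.π u) (hqv : q ≠ W.π v) :
    ∃ w, W.Pt P w ∧ W.π w = q ∧ W.Rel w u ∧ W.Rel w v := by
  classical
  obtain ⟨n, hn, hne'⟩ := W.exists_normalizer P (y := W.ι u) ⟨u, hu.1, rfl⟩ (W.pt_conjugate P hω hv hu)
  obtain ⟨b, hbB, hb⟩ : n⁻¹ * W.ι v * n ∈ W.BG P :=
    (Subgroup.mem_normalizer_iff''.1 hn _).1 ⟨v, hv'.1, rfl⟩
  have hzb : W.Rel W.z b := by
    unfold Dbl.Rel at huv ⊢
    rw [map_mul, hb]
    rw [map_mul, ← hne'] at huv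
    refine huv.trans (isConj_iff.2 ⟨n⁻¹, ?_⟩)
    group
  have hbconj : IsConj (W.ι W.z) (W.ι b) := by
    rw [hb]; exact (W.pt_conjugate P hω hv hv').trans (isConj_iff.2 ⟨n⁻¹, by rw [inv_inv]⟩)
  have hbne : b ≠ W.z := fun e => by
    refine hne (congrArg W.π (W.inj ?_))
    rw [e] at hb
    rw [← hne', hb]; group
  have hbπ : W.π b ∈ W.T.AG P := hbB
  have hbp : W.Pt P b := by
    obtain ⟨k, hk, g, hg, hgk⟩ := W.T.exists_rep P hω (x := W.π b) hbB
    have hc := W.cnt_val P hω hk ⟨g, hg, hgk⟩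
    have hbz : IsConj (W.ι W.z) (W.ι (b * W.z)) := by rw [← W.central]; exact hzb
    rw [hv, W.cntF_π, W.chi_eq_one.2 hbconj, W.chi_eq_one.2 hbz] at hc
    interval_cases k
    · simp [pick] at hc
    · exact ⟨hbB, hgk ▸ isConj_iff.2 ⟨g, rfl⟩⟩
    all_goals simp [pick] at hc
  -- twenty-two common neighbours of the first pair
  let r : W.T.X P → C := fun x =>
    if x.1 = W.π b then b * W.z else if W.Rel (W.s x.1) b then W.s x.1 else W.s x.1 * W.z
  have hr : ∀ x, W.π (r x) = x.1 ∧ IsConj (W.ι W.z) (W.ι (r x)) ∧ W.Rel (r x) W.z ∧ W.Rel (r x) b := by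
    intro x
    have hsx : W.Pt P (W.s x.1) := ⟨show W.π _ ∈ W.T.AG P by rw [W.π_s]; exact x.2.1, by rw [W.π_s]; exact x.2.2⟩
    have fin : ∀ c, W.Pt P c → W.π c = x.1 → W.Rel c b →
        W.π c = x.1 ∧ IsConj (W.ι W.z) (W.ι c) ∧ W.Rel c W.z ∧ W.Rel c b := fun c hc e h =>
      ⟨e, W.pt_conjugate P hω hv hc, W.pt_conjugate P hω hv hc.mul_z, h⟩
    simp only [r]
    split_ifs with h1 h2
    · refine fin _ hbp.mul_z (by rw [map_mul, W.πz, mul_one, h1]) ?_
      unfold Dbl.Rel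
      rw [mul_assoc, W.central b, ← mul_assoc, W.B_sq P hbB, one_mul]
    · exact fin _ hsx (W.π_s _) h2
    · refine fin _ hsx.mul_z (by rw [map_mul, W.π_s, W.πz, mul_one]) ?_
      have h3 := W.pair_cnt P hω hv hsx hbp (by rw [W.π_s]; exact h1)
      have h4 : W.Rel (W.s x.1) (b * W.z) := not_not.1 (mt h3.2 h2)
      unfold Dbl.Rel at h4 ⊢
      rwa [mul_assoc, W.central b]
  have hrB : ∀ x, r x ∈ W.B P := fun x => show W.π _ ∈ W.T.AG P by rw [(hr x).1]; exact x.2.1
  have htr : ∀ a ∈ W.B P, ∃ a' ∈ W.B P, W.ι a' = n * W.ι a * n⁻¹ := fun a ha =>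
    (Subgroup.mem_normalizer_iff.1 hn _).1 ⟨a, ha, rfl⟩
  choose m hmB hme using htr
  let f : W.T.X P → C := fun x => m (r x) (hrB x)
  have hf : ∀ x, IsConj (W.ι W.z) (W.ι (f x)) ∧ W.Rel (f x) u ∧ W.Rel (f x) v := fun x => by
    obtain ⟨-, h1, h2, h3⟩ := hr x
    have hme' : W.ι (f x) = n * W.ι (r x) * n⁻¹ := hme _ _
    refine ⟨hme' ▸ h1.trans (isConj_iff.2 ⟨n, rfl⟩), ?_, ?_⟩
    · unfold Dbl.Rel at h2 ⊢
      rw [map_mul, hme', ← hne']
      rw [map_mul] at h2
      exact h2.trans (isConj_iff.2 ⟨n, by group⟩)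
    · unfold Dbl.Rel at h3 ⊢
      rw [map_mul, hme']
      rw [map_mul, hb] at h3
      exact h3.trans (isConj_iff.2 ⟨n, by group⟩)
  have hcl := fun x => W.classify P hω hv hu hv' hne huv (hmB (r x) (hrB x)) (hf x).1 (hf x).2.1 (hf x).2.2
  have hinj : Function.Injective fun x => W.π (f x) := by
    intro x y h
    have h' : W.π (f x) = W.π (f y) := h
    have hxy : f x = f y := by
      rcases W.eq_or h' with e | e
      · exact e
      · exfalso
        rcases hcl x with ⟨hx, hx'⟩ | ⟨hx, hx'⟩ | ⟨hx, hx1, hx2⟩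
        · rcases hcl y with ⟨-, hy'⟩ | ⟨hy, -⟩ | ⟨hy, -, -⟩
          · change f y = W.z at hy'
            change f x = W.z at hx'
            rw [hx', hy', W.z_sq] at e
            exact W.z_ne e
          · exact hne (inv_injective (by
              rw [inv_eq_of_mul_eq_one_right ((hy.symm.trans h'.symm).trans hx)]
              exact (inv_eq_of_mul_eq_one_right (by
                rw [← pow_two]; exact (W.T.AG_elem P).2 _ hv'.1)).symm))
          · have := hy.2
            rw [show W.π (f y) = 1 from h'.symm.trans hx] at this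
            exact W.T.d_ne (isConj_one_left.1 this)
        · have h4 := (W.pair_cnt P hω hv hu hv' hne).1 huv
          apply h4
          have e2 : f y = u * (v * W.z) := by
            have : f y = f x * W.z := by rw [e, mul_assoc, W.z_sq, mul_one]
            rw [this]; change f x = u * v at hx'; rw [hx', mul_assoc]
          have := (hf y).1
          rw [e2] at this
          exact this
        · have h4 := W.pair_cnt P hω hv hu hx hx1.symm
          have r1 : W.Rel u (f x) := by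
            have := (hf x).2.1
            unfold Dbl.Rel at this ⊢
            rwa [← (W.B_comm P hx.1 hu.1).eq]
          apply h4.1 r1
          have := (hf y).2.1
          unfold Dbl.Rel at this ⊢
          rw [show m (r x) (hrB x) * W.z = f y by
            show f x * W.z = f y
            rw [e, mul_assoc, W.z_sq, mul_one]]
          rwa [(W.B_comm P hu.1 (hmB _ (hrB y))).eq]
    have h2 : r x = r y := W.inj (mul_left_cancel (mul_right_cancel
      (((hme _ _).symm.trans (congrArg W.ι hxy)).trans (hme _ _))))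
    exact Subtype.ext ((hr x).1.symm.trans ((congrArg W.π h2).trans (hr y).1))
  let S22 : Finset Q := insert 1 (insert (W.π u * W.π v)
    (((Finset.univ.image fun x : W.T.X P => x.1).erase (W.π u)).erase (W.π v)))
  have hsub : (Finset.univ.image fun x => W.π (f x)) ⊆ S22 := by
    intro p hp
    obtain ⟨x, -, rfl⟩ := Finset.mem_image.1 hp
    simp only [S22, Finset.mem_insert, Finset.mem_erase, Finset.mem_image, Finset.mem_univ, true_and]
    rcases hcl x with ⟨h, -⟩ | ⟨h, -⟩ | ⟨h, h1, h2⟩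
    · exact Or.inl h
    · exact Or.inr (Or.inl h)
    · exact Or.inr (Or.inr ⟨h2, h1, ⟨_, h.1, h.2⟩, rfl⟩)
  have hcard : S22.card ≤ (Finset.univ.image fun x => W.π (f x)).card := by
    rw [Finset.card_image_of_injective _ hinj, Finset.card_univ, W.T.card_X]
    have hu' : W.π u ∈ Finset.univ.image fun x : W.T.X P => x.1 :=
      Finset.mem_image.2 ⟨⟨_, hu.1, hu.2⟩, Finset.mem_univ _, rfl⟩
    have hv'' : W.π v ∈ (Finset.univ.image fun x : W.T.X P => x.1).erase (W.π u) :=
      Finset.mem_erase.2 ⟨hne.symm, Finset.mem_image.2 ⟨⟨_, hv'.1, hv'.2⟩, Finset.mem_univ _, rfl⟩⟩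
    have h20 : (((Finset.univ.image fun x : W.T.X P => x.1).erase (W.π u)).erase (W.π v)).card = 20 := by
      rw [Finset.card_erase_of_mem hv'', Finset.card_erase_of_mem hu',
        Finset.card_image_of_injective _ (show Function.Injective fun x : W.T.X P => x.1 from fun a b h => Subtype.ext h), Finset.card_univ, W.T.card_X]
    refine (Finset.card_insert_le _ _).trans ?_
    have := Finset.card_insert_le (W.π u * W.π v)
      (((Finset.univ.image fun x : W.T.X P => x.1).erase (W.π u)).erase (W.π v))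
    omega
  have hqS : q ∈ S22 := Finset.mem_insert_of_mem (Finset.mem_insert_of_mem
    (Finset.mem_erase.2 ⟨hqv, Finset.mem_erase.2 ⟨hqu, Finset.mem_image.2 ⟨⟨q, hq, hqd⟩, Finset.mem_univ _, rfl⟩⟩⟩))
  rw [← Finset.eq_of_subset_of_card_le hsub hcard] at hqS
  obtain ⟨x, -, hx⟩ := Finset.mem_image.1 hqS
  exact ⟨f x, ⟨hmB _ _, hx ▸ hqd⟩, hx, (hf x).2.1, (hf x).2.2⟩

theorem Dbl.rel_comm {a b : C} (ha : W.Pt P a) (hb : W.Pt P b) : W.Rel a b ↔ W.Rel b a := by
  unfold Dbl.Rel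
  rw [(W.B_comm P ha.1 hb.1).eq]

theorem Dbl.same_trans {a b c : C} (ha : W.Pt P a) (hb : W.Pt P b) (hc : W.Pt P c) (h1 : W.Same a b)
    (h2 : W.Same b c) : W.Same a c := by
  by_cases eab : W.π a = W.π b
  · rw [h1.1 eab]; exact h2
  by_cases ebc : W.π b = W.π c
  · rw [← h2.1 ebc]; exact h1
  have r1 : W.Rel b a := (W.rel_comm P hω hv ha hb).1 (h1.2 eab)
  have r2 := h2.2 ebc
  constructor
  · intro eac
    rcases W.eq_or eac with e | e
    · exact e
    · exfalso
      have h := (W.pair_cnt P hω hv hb hc ebc).1 r2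
      rw [← e] at h
      exact h r1
  · intro eac
    obtain ⟨w, hw, hwπ, hwb, hwa⟩ :=
      W.common P hω hv hb ha (Ne.symm eab) r1 hc.1 hc.2 (Ne.symm ebc) (Ne.symm eac)
    rcases W.eq_or hwπ with e | e
    · rw [e] at hwa
      exact (W.rel_comm P hω hv hc ha).1 hwa
    · exfalso
      have h := (W.pair_cnt P hω hv hb hc ebc).1 r2
      apply h
      rw [← e]
      exact (W.rel_comm P hω hv hw hb).1 hwb

theorem Dbl.same_flip {a b : C} (ha : W.Pt P a) (hb : W.Pt P b) : W.Same a b ↔ ¬ W.Same a (b * W.z) := by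
  unfold Dbl.Same
  rw [map_mul, W.πz, mul_one]
  by_cases e : W.π a = W.π b
  · simp only [e, true_implies, ne_eq, not_true_eq_false, false_implies, and_true]
    rcases W.eq_or e with rfl | rfl
    · exact iff_of_true rfl (fun h => W.z_ne (mul_left_cancel (h.symm.trans (mul_one a).symm)))
    · refine iff_of_false (fun h => W.z_ne (mul_left_cancel (h.trans (mul_one b).symm))) (not_not.2 rfl)
  · simp only [e, ne_eq, false_implies, not_false_eq_true, true_implies, true_and]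
    exact W.pair_cnt P hω hv ha hb e

/-- The case of both elements over a conjugate and one over a product of two. -/
theorem Dbl.not_210 : False := by
  obtain ⟨K⟩ := W.nonempty_swap P hω
  set d := W.s W.T.d
  have hd : W.Pt P d := ⟨K.mem.1, by rw [W.π_s]⟩
  let sgn : C → Prop := fun g => W.Same d (g * d * g⁻¹)
  have hinv : ∀ g, W.π g ∈ W.T.N P → ∀ a b, W.Same a b → W.Same (g * a * g⁻¹) (g * b * g⁻¹) := by
    intro g hg a b ⟨h1, h2⟩
    constructor
    · intro e
      rw [map_mul, map_mul, map_mul, map_mul] at e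
      rw [h1 (mul_left_cancel (mul_right_cancel e))]
    · intro e
      have : W.π a ≠ W.π b := fun h => e (by rw [map_mul, map_mul, map_mul W.π (g * b), map_mul, h])
      unfold Dbl.Rel
      rw [show g * a * g⁻¹ * (g * b * g⁻¹) = g * (a * b) * g⁻¹ by group, map_mul, map_mul, map_inv]
      exact (h2 this).trans (isConj_iff.2 ⟨W.ι g, rfl⟩)
  have hsame : ∀ a b, W.Pt P a → W.Pt P b → ∀ c, W.Pt P c →
      (W.Same a c ↔ (W.Same a b ↔ W.Same b c)) := by
    intro a b ha hb c hc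
    have symm : ∀ {a b : C}, W.Pt P a → W.Pt P b → W.Same a b → W.Same b a := fun ha hb ⟨h1, h2⟩ =>
      ⟨fun e => (h1 e.symm).symm, fun e => (W.rel_comm P hω hv ha hb).1 (h2 e.symm)⟩
    by_cases h1 : W.Same a b
    · exact ⟨fun h => iff_of_true h1 (W.same_trans P hω hv hb ha hc (symm ha hb h1) h),
        fun h => W.same_trans P hω hv ha hb hc h1 (h.1 h1)⟩
    · constructor
      · intro h
        refine iff_of_false h1 fun h2 => h1 (W.same_trans P hω hv ha hc hb h (symm hb hc h2))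
      · intro h
        have h2 : ¬ W.Same b c := fun e => h1 (h.2 e)
        have e1 : W.Same a (b * W.z) := not_not.1 (mt (W.same_flip P hω hv ha hb).2 h1)
        have e2 : W.Same b (c * W.z) := not_not.1 (mt (W.same_flip P hω hv hb hc).2 h2)
        have e3 := (W.same_mul_z b (c * W.z)).2 e2
        rw [mul_assoc c, W.z_sq, mul_one] at e3
        exact W.same_trans P hω hv ha hb.mul_z hc e1 e3
  have hmul : ∀ g h, W.π g ∈ W.T.N P → W.π h ∈ W.T.N P → (sgn (g * h) ↔ (sgn g ↔ sgn h)) := by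
    intro g h hg hh
    have h1 := hd.conj (g := h) hh
    have h2 := hd.conj (g := g) hg
    show W.Same d (g * h * d * (g * h)⁻¹) ↔ _
    rw [show g * h * d * (g * h)⁻¹ = g * (h * d * h⁻¹) * g⁻¹ by group, hsame d _ hd h2 _ (h1.conj hg)]
    refine iff_congr Iff.rfl ⟨fun e => ?_, fun e => hinv g hg _ _ e⟩
    have := hinv g⁻¹ (by rw [map_inv]; exact inv_mem hg) _ _ e
    show W.Same d (h * d * h⁻¹)
    simpa [mul_assoc, inv_inv] using this
  have hfix : ∀ g, Commute (W.π g) W.T.d → sgn g := fun g hg => by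
    show W.Same d (g * d * g⁻¹)
    rw [(W.central_lift hg).eq, mul_inv_cancel_right]
    exact ⟨fun _ => rfl, fun h => absurd rfl h⟩
  have hone : sgn 1 := hfix 1 (by rw [map_one]; exact Commute.one_left _)
  have htN : W.π K.t ∈ W.T.N P := K.hSN ((K.hR _).1 K.ht)
  obtain ⟨hp1, hp1d⟩ := W.T.pt_conj P hω (n := 1) (by decide)
  obtain ⟨hp2, hp2d⟩ := W.T.pt_conj P hω (n := 2) (by decide)
  have hp1ne : W.T.pt P ω 1 ≠ W.T.d := fun e =>
    absurd (W.T.pt_inj P hω (by decide) (by decide) (e.trans (W.T.pt_zero P).symm)) one_ne_zero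
  have hp2ne : W.T.pt P ω 2 ≠ W.T.d := fun e =>
    absurd (W.T.pt_inj P hω (by decide) (by decide) (e.trans (W.T.pt_zero P).symm)) two_ne_zero
  have p12 : W.T.pt P ω 2 ≠ W.T.pt P ω 1 := fun e =>
    absurd (W.T.pt_inj P hω (by decide) (by decide) e) (by norm_num)
  -- a product of stabilising elements interchanging the two points
  obtain ⟨c, hc⟩ := W.T.exists_move P (x := ⟨_, hp1, hp1d⟩) (y := ⟨_, hp2, hp2d⟩) hp1ne hp2ne
  obtain ⟨h, hh⟩ := W.surj (c.1 : Q)
  have hcd : Commute (c.1 : Q) W.T.d := Subgroup.mem_centralizer_singleton_iff.1 c.1.2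
  have hhN : W.π h ∈ W.T.N P := hh ▸ W.T.coe_mem_N P c.2
  set q := W.π K.t * W.T.pt P ω 2 * (W.π K.t)⁻¹
  have hqA : q ∈ W.T.AG P := (Subgroup.mem_normalizer_iff.1 htN _).1 hp2
  have hqne : q ≠ W.T.d := fun e => p12 (mul_left_cancel (mul_right_cancel (e.trans K.htp.symm)))
  obtain ⟨c', hc'⟩ := W.T.exists_move P (x := ⟨q, hqA, hp2d.trans (isConj_iff.2 ⟨_, rfl⟩)⟩)
    (y := ⟨_, hp1, hp1d⟩) hqne hp1ne
  obtain ⟨h', hh'⟩ := W.surj (c'.1 : Q)
  have hcd' : Commute (c'.1 : Q) W.T.d := Subgroup.mem_centralizer_singleton_iff.1 c'.1.2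
  have hhN' : W.π h' ∈ W.T.N P := hh' ▸ W.T.coe_mem_N P c'.2
  have hinvN : W.π K.t⁻¹ ∈ W.T.N P := by rw [map_inv]; exact inv_mem htN
  have hti : sgn K.t⁻¹ ↔ sgn K.t := by
    have := hmul K.t K.t⁻¹ htN hinvN
    rw [mul_inv_cancel] at this
    exact (this.1 hone).symm
  have hsc : sgn (K.t * h * K.t⁻¹) := by
    refine (hmul _ _ (by rw [map_mul]; exact mul_mem htN hhN) hinvN).2 ?_
    rw [hmul _ _ htN hhN, hti, iff_true_intro (hfix h (hh ▸ hcd))]
    simp
  set m := h' * (K.t * h * K.t⁻¹)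
  have hmN : W.π m ∈ W.T.N P := by
    rw [map_mul, map_mul, map_mul]; exact mul_mem hhN' (mul_mem (mul_mem htN hhN) hinvN)
  have hsm : sgn m := (hmul _ _ hhN' (by rw [map_mul, map_mul]; exact mul_mem (mul_mem htN hhN) hinvN)).2
    (iff_of_true (hfix h' (hh' ▸ hcd')) hsc)
  have hc1 : (c.1 : Q) * W.T.pt P ω 1 * (c.1 : Q)⁻¹ = W.T.pt P ω 2 := congrArg Subtype.val hc
  have hc2 : (c'.1 : Q) * q * (c'.1 : Q)⁻¹ = W.T.pt P ω 1 := congrArg Subtype.val hc'
  have hi : (W.π K.t)⁻¹ * W.T.d * W.π K.t = W.T.pt P ω 1 := by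
    conv_lhs => rw [← K.htp]
    group
  have hm : W.π m * W.T.d * (W.π m)⁻¹ = W.T.pt P ω 1 := by
    simp only [m, map_mul, map_inv, hh, hh']
    calc _ = (c'.1 : Q) * (W.π K.t * ((c.1 : Q) * ((W.π K.t)⁻¹ * W.T.d * W.π K.t) * (c.1 : Q)⁻¹) *
        (W.π K.t)⁻¹) * (c'.1 : Q)⁻¹ := by group
      _ = _ := by rw [hi, hc1, hc2]
  have hst : sgn K.t := by
    have hf := hfix (K.t⁻¹ * m) (by
      rw [map_mul, map_inv]
      show _ = _
      calc (W.π K.t)⁻¹ * W.π m * W.T.d = (W.π K.t)⁻¹ * (W.π m * W.T.d * (W.π m)⁻¹) * W.π m := by group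
        _ = W.T.d * ((W.π K.t)⁻¹ * W.π m) := by rw [hm, ← K.htd]; group)
    exact hti.1 (((hmul _ _ hinvN hmN).1 hf).2 hsm)
  apply K.not_conj
  exact hst.2 (by
    rw [K.π_p, W.π_s]
    exact hp1ne.symm)

end CfsgLib.U6Cover
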