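import Cfsg.Agent.Lib.U6Cover.Complete

/-!
The subspace spanned by the first triple of a frame, and root elements preserving it.
-/

set_option autoImplicit false

namespace CfsgLib.U6Cover

open Module CfsgLib.Classical.Herm HermSpace CfsgLib.UnitaryTransv

attribute [-simp] stdHerm_h

variable {F : Type*} [Field F] [Fintype F] {hF : Fintype.card F = 2 ^ 2}

theorem comp4_mk4 {a b c : ℕ} (ha : a < 4) (hb : b < 4) (hc : c < 4) :
    mk4 a b c < 64 ∧ comp4 (mk4 a b c) 0 = a ∧ comp4 (mk4 a b c) 1 = b ∧ comp4 (mk4 a b c) 2 = c := by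
  have h : (below 4 fun a => below 4 fun b => below 4 fun c => Nat.blt (mk4 a b c) 64 &&
      Nat.beq (comp4 (mk4 a b c) 0) a && Nat.beq (comp4 (mk4 a b c) 1) b &&
      Nat.beq (comp4 (mk4 a b c) 2) c) = true := by decide +kernel
  have h' := below_spec (below_spec (below_spec h ha) hb) hc
  simp only [Bool.and_eq_true, Nat.blt_eq] at h'
  exact ⟨h'.1.1.1, Nat.eq_of_beq_eq_true h'.1.1.2, Nat.eq_of_beq_eq_true h'.1.2, Nat.eq_of_beq_eq_true h'.2⟩

/-- Membership in the span of the first triple. -/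
def Fr.InW (P : Fr hF) (x : Fin 6 → F) : Prop := ∀ i, (stdHerm hF 6).h x (P.e i) = 0

theorem Fr.h_vec_f (P : Fr hF) (ω : F) (v : ℕ) (i : Fin 3) :
    (stdHerm hF 6).h (P.vec ω v) (P.f i) = iota ω (comp4 v i) := by
  rw [Fr.vec, h_sum_left, Finset.sum_eq_single i]
  · rw [(stdHerm hF 6).smul_left, P.ef, if_pos rfl, mul_one]
  · intro k _ hk
    rw [(stdHerm hF 6).smul_left, P.ef, if_neg hk, mul_zero]
  · simp

theorem Fr.inW_vec (P : Fr hF) (ω : F) (v : ℕ) : P.InW (P.vec ω v) := fun i => by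
  rw [Fr.vec, h_sum_left]
  exact Finset.sum_eq_zero fun k _ => by rw [(stdHerm hF 6).smul_left, P.ee, mul_zero]

theorem Fr.eq_sum_of_inW (P : Fr hF) {x : Fin 6 → F} (h : P.InW x) :
    x = ∑ i, (stdHerm hF 6).h x (P.f i) • P.e i := by
  conv_lhs => rw [P.decomp x]
  rw [add_eq_left]
  exact Finset.sum_eq_zero fun i _ => by rw [h i, zero_smul]

theorem Fr.exists_vec (P : Fr hF) {ω : F} (hω : ω ^ 2 + ω + 1 = 0) {x : Fin 6 → F} (h : P.InW x) :
    ∃ v < 64, x = P.vec ω v := by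
  obtain ⟨a, ha, ha'⟩ := iota_surj hF hω ((stdHerm hF 6).h x (P.f 0))
  obtain ⟨b, hb, hb'⟩ := iota_surj hF hω ((stdHerm hF 6).h x (P.f 1))
  obtain ⟨c, hc, hc'⟩ := iota_surj hF hω ((stdHerm hF 6).h x (P.f 2))
  obtain ⟨hlt, e0, e1, e2⟩ := comp4_mk4 ha hb hc
  refine ⟨mk4 a b c, hlt, ?_⟩
  conv_lhs => rw [P.eq_sum_of_inW h]
  rw [Fr.vec, Fin.sum_univ_three, Fin.sum_univ_three]
  simp only [Fin.val_zero, Fin.val_one, Fin.val_two, e0, e1, e2, ha', hb', hc']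

theorem Fr.inW_e (P : Fr hF) (i : Fin 3) : P.InW (P.e i) := fun j => P.ee i j

theorem Fr.e_eq_vec (P : Fr hF) (ω : F) :
    P.e 0 = P.vec ω 1 ∧ P.e 1 = P.vec ω 4 ∧ P.e 2 = P.vec ω 16 := by
  refine ⟨?_, ?_, ?_⟩ <;>
    · rw [Fr.vec, Fin.sum_univ_three]
      simp [comp4, iota]

theorem Fr.e_ne_zero (P : Fr hF) (i : Fin 3) : P.e i ≠ 0 := fun h => by
  have := P.ef i i
  rw [h, (stdHerm hF 6).zero_left, if_pos rfl] at this
  exact zero_ne_one this

theorem Fr.U_fix_inW (P : Fr hF) {g : Unit' (stdHerm hF 6)} (hg : g ∈ P.U) {x : Fin 6 → F}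
    (hx : P.InW x) : g.1 x = x := by
  rw [P.eq_sum_of_inW hx, map_sum]
  exact Finset.sum_congr rfl fun i _ => by rw [map_smul, hg i]

theorem Fr.inW_of_fixed (P : Fr hF) {ω : F} (hω : ω ^ 2 + ω + 1 = 0) {x : Fin 6 → F}
    (h : ∀ g ∈ P.U, g.1 x = x) : P.InW x := by
  obtain ⟨e0, e1, e2⟩ := P.e_eq_vec ω
  have key : ∀ (v : ℕ) (hv : v < 64) (i : Fin 3), P.e i = P.vec ω v → (stdHerm hF 6).h x (P.e i) = 0 := by
    intro v hv i hi
    have h1 := h _ (P.hasCode_tvv hω hv).mem_U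
    rw [Fr.tvv, tv_apply, ← hi, add_eq_left] at h1
    exact (smul_eq_zero.1 h1).resolve_right (P.e_ne_zero i)
  intro i
  fin_cases i
  · exact key 1 (by norm_num) 0 e0
  · exact key 4 (by norm_num) 1 e1
  · exact key 16 (by norm_num) 2 e2

theorem Fr.card_U (P : Fr hF) : Nat.card P.U = 512 := by
  obtain ⟨ω, hω⟩ := exists_omega hF
  rw [← Nat.card_fin 512]
  refine (Nat.card_congr (Equiv.ofBijective (fun n : Fin 512 => (⟨P.u ω n, P.u_mem hω n⟩ : P.U)) ⟨?_, ?_⟩)).symm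
  · exact fun a b h => Fin.ext (P.u_inj hω a.2 b.2 (congrArg Subtype.val h))
  · rintro ⟨g, hg⟩
    obtain ⟨n, hn, rfl⟩ := P.exists_u hω hg
    exact ⟨⟨n, hn⟩, rfl⟩

theorem Fr.U_eq_of_inW (P P' : Fr hF) (h : ∀ i, P.InW (P'.e i)) : P'.U = P.U := by
  have hle : P.U ≤ P'.U := fun g hg i => P.U_fix_inW hg (h i)
  have : Finite P'.U := Nat.finite_of_card_ne_zero (by rw [P'.card_U]; norm_num)
  exact (Subgroup.eq_of_le_of_card_ge hle (by rw [P'.card_U, P.card_U])).symm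

theorem Fr.vec_map (P : Fr hF) {ω : F} (g : Unit' (stdHerm hF 6)) (v : ℕ) :
    g.1 (P.vec ω v) = iota ω (comp4 v 0) • g.1 (P.e 0) + iota ω (comp4 v 1) • g.1 (P.e 1) +
      iota ω (comp4 v 2) • g.1 (P.e 2) := by
  rw [Fr.vec, Fin.sum_univ_three, map_add, map_add, map_smul, map_smul, map_smul]
  rfl

/-- The image of a coded vector under an upper unitriangular map. -/
def tri4 (a p q v : ℕ) : ℕ :=
  mk4 (comp4 v 0 ^^^ mul4 (comp4 v 1) a ^^^ mul4 (comp4 v 2) p) (comp4 v 1 ^^^ mul4 (comp4 v 2) q) (comp4 v 2)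

theorem xor_lt_four {a b : ℕ} (ha : a < 4) (hb : b < 4) : a ^^^ b < 4 := Nat.xor_lt_two_pow (n := 2) ha hb

theorem Fr.vec_tri (P : Fr hF) {ω : F} (hω : ω ^ 2 + ω + 1 = 0) {g : Unit' (stdHerm hF 6)} {a p q : ℕ}
    (ha : a < 4) (hp : p < 4) (hq : q < 4) (h0 : g.1 (P.e 0) = P.e 0)
    (h1 : g.1 (P.e 1) = P.e 1 + iota ω a • P.e 0)
    (h2 : g.1 (P.e 2) = P.e 2 + iota ω p • P.e 0 + iota ω q • P.e 1) (v : ℕ) :
    g.1 (P.vec ω v) = P.vec ω (tri4 a p q v) ∧ tri4 a p q v < 64 := by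
  have l0 : comp4 v 0 ^^^ mul4 (comp4 v 1) a < 4 := xor_lt_four (comp4_lt v 0) (mul4_lt _ _)
  obtain ⟨hlt, e0, e1, e2⟩ := comp4_mk4 (xor_lt_four l0 (mul4_lt (comp4 v 2) p))
    (xor_lt_four (comp4_lt v 1) (mul4_lt (comp4 v 2) q)) (comp4_lt v 2)
  refine ⟨?_, hlt⟩
  rw [P.vec_map, h0, h1, h2, tri4, Fr.vec, Fin.sum_univ_three]
  simp only [Fin.val_zero, Fin.val_one, Fin.val_two, e0, e1, e2, iota_xor hF hω l0 (mul4_lt _ _),
    iota_xor hF hω (comp4_lt v 0) (mul4_lt _ _), iota_xor hF hω (comp4_lt v 1) (mul4_lt _ _),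
    iota_mul hF hω (comp4_lt v _) ha, iota_mul hF hω (comp4_lt v _) hp, iota_mul hF hω (comp4_lt v _) hq]
  module

theorem gr_cond (P : Fr hF) {i j : Fin 3} (hij : i ≠ j) (t : F) :
    RootCond (stdHerm hF 6) (P.e i) (t • P.f j) 0 := by
  refine ⟨P.ee i i, ?_, ?_⟩
  · rw [(stdHerm hF 6).smul_left, P.fe, if_neg hij.symm, mul_zero]
  · rw [map_zero, (stdHerm hF 6).smul_left, (stdHerm hF 6).smul_right, P.ff]
    simp

theorem gr_isotropic (P : Fr hF) {i j : Fin 3} (hij : i ≠ j) (t : F) :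
    (stdHerm hF 6).h (t • P.f j) (t • P.f j) = 0 ∧
      (stdHerm hF 6).h (P.e i + t • P.f j) (P.e i + t • P.f j) = 0 := by
  simp only [(stdHerm hF 6).add_left, (stdHerm hF 6).add_right, (stdHerm hF 6).smul_left,
    (stdHerm hF 6).smul_right, P.ee, P.ef, P.fe, P.ff, if_neg hij, if_neg hij.symm, mul_zero, add_zero,
    and_self]

/-- The root element mapping `e k` to `e k + δ c e i`. -/
def Fr.gr (P : Fr hF) (i j : Fin 3) (hij : i ≠ j) (c : F) : Unit' (stdHerm hF 6) :=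
  root (stdHerm hF 6) (P.e i) (c ^ 2 • P.f j) 0 (gr_cond P hij _)

theorem Fr.gr_e (P : Fr hF) (i j : Fin 3) (hij : i ≠ j) (c : F) (k : Fin 3) :
    (P.gr i j hij c).1 (P.e k) = P.e k + (if k = j then c else 0) • P.e i := by
  rw [Fr.gr, root_apply, P.ee, (stdHerm hF 6).smul_right, P.ef, stdHerm_conj, neg_eq hF, zero_smul,
    add_zero, mul_zero, add_zero]
  congr 2
  by_cases h : k = j
  · rw [if_pos h, if_pos h, mul_one, ← pow_mul, show c ^ (2 * 2) = c ^ Fintype.card F by rw [hF]; norm_num,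
      FiniteField.pow_card]
  · rw [if_neg h, if_neg h, mul_zero]

theorem Fr.gr_tv (P : Fr hF) (i j : Fin 3) (hij : i ≠ j) (c : F) :
    P.gr i j hij c = tv hF (P.e i + c ^ 2 • P.f j) (gr_isotropic P hij _).2 * tv hF (P.e i) (P.ee i i) *
      tv hF (c ^ 2 • P.f j) (gr_isotropic P hij _).1 := by
  let H := stdHerm hF 6
  set m := c ^ 2 • P.f j with hmdef
  have hum : H.h (P.e i) m = 0 := by rw [hmdef, H.smul_right, P.ef, if_neg hij, mul_zero]
  have hmm : H.h m m = 0 := (gr_isotropic P hij _).1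
  refine unit_ext fun x => ?_
  simp only [Fr.gr, ← hmdef, root_apply, CfsgLib.Classical.Herm.mul_apply, tv_apply, H.add_left, H.smul_left,
    H.add_right, P.ee, hmm, hum, H.h_comm_zero hum, neg_eq hF, zero_mul, mul_zero, add_zero, smul_add, add_smul, H]
  have e1 : (stdHerm hF 6).h x (P.e i) • P.e i + (stdHerm hF 6).h x (P.e i) • P.e i = 0 :=
    smul_add_self_zero hF _
  have e2 : (stdHerm hF 6).h x m • m + (stdHerm hF 6).h x m • m = 0 := smul_add_self_zero hF _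
  linear_combination (norm := module) (-1 : F) • e1 + (-1 : F) • e2

theorem Fr.det_gr (P : Fr hF) (i j : Fin 3) (hij : i ≠ j) (c : F) :
    detHom (stdHerm hF 6) (P.gr i j hij c) = 1 := detHom_root _

end CfsgLib.U6Cover
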