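import Cfsg.Agent.Lib.U6Cover.Sylow

/-!
All elementary abelian subgroups of order `2 ^ 10` of the double cover are conjugate, and each is the Thompson
subgroup of the Sylow 2-subgroups containing it.
-/

set_option autoImplicit false

namespace CfsgLib.U6Cover

open Pointwise

variable {F : Type*} [Field F] [Fintype F] {hF : Fintype.card F = 2 ^ 2} {C : Type*} [Group C] [Finite C]

/-- The conjugate of a subgroup. -/
def conjSub {G : Type*} [Group G] (g : G) (H : Subgroup G) : Subgroup G := H.map (MulAut.conj g).toMonoidHom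

theorem mem_conjSub {G : Type*} [Group G] {g : G} {H : Subgroup G} {x : G} :
    x ∈ conjSub g H ↔ g⁻¹ * x * g ∈ H := by
  constructor
  · rintro ⟨a, ha, rfl⟩
    simpa [MulAut.conj_apply, mul_assoc] using ha
  · intro h
    exact ⟨_, h, by simp [MulAut.conj_apply, mul_assoc]⟩

theorem isElementary_map {G H : Type*} [Group G] [Group H] (f : G →* H) {A : Subgroup G}
    (h : Cfsg.IsElementaryAbelian 2 A) : Cfsg.IsElementaryAbelian 2 (A.map f) := by
  obtain ⟨⟨⟨hc⟩⟩, hp⟩ := h
  refine ⟨⟨⟨?_⟩⟩, ?_⟩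
  · rintro ⟨_, a, ha, rfl⟩ ⟨_, b, hb, rfl⟩
    apply Subtype.ext
    show f a * f b = f b * f a
    rw [← map_mul, ← map_mul]
    exact congrArg f (congrArg Subtype.val (hc ⟨a, ha⟩ ⟨b, hb⟩))
  · rintro _ ⟨a, ha, rfl⟩
    rw [← map_pow, hp a ha, map_one]

theorem isElementary_of_map {G H : Type*} [Group G] [Group H] (f : G →* H) (hf : Function.Injective f)
    {A : Subgroup G} (h : Cfsg.IsElementaryAbelian 2 (A.map f)) : Cfsg.IsElementaryAbelian 2 A := by
  obtain ⟨⟨⟨hc⟩⟩, hp⟩ := h
  refine ⟨⟨⟨?_⟩⟩, ?_⟩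
  · rintro ⟨a, ha⟩ ⟨b, hb⟩
    apply Subtype.ext
    apply hf
    show f (a * b) = f (b * a)
    rw [map_mul, map_mul]
    exact congrArg Subtype.val (hc ⟨_, a, ha, rfl⟩ ⟨_, b, hb, rfl⟩)
  · intro a ha
    apply hf
    rw [map_pow, hp _ ⟨a, ha, rfl⟩, map_one]

theorem Data.exists_conj (D : Data hF C) (P : Fr hF) (E : Subgroup C) (hE : Cfsg.IsElementaryAbelian 2 E)
    (hcard : 2 ^ 10 ≤ Nat.card E) : ∃ c, E = conjSub c (D.A P) := by
  obtain ⟨ω, hω⟩ := exists_omega hF
  obtain ⟨S, hS, -⟩ := D.exists_sylow P hω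
  have hp : IsPGroup 2 E := fun x => ⟨1, Subtype.ext (by simpa using hE.2 x.1 x.2)⟩
  obtain ⟨S', hS'⟩ := hp.exists_le_sylow
  obtain ⟨c, hc⟩ := MulAction.exists_smul_eq C S S'
  refine ⟨c, ?_⟩
  have hle : conjSub c⁻¹ E ≤ D.S0 P ω hω := fun x hx => by
    rw [mem_conjSub, inv_inv] at hx
    have h := hS' hx
    rw [← hc] at h
    change c * x * c⁻¹ ∈ MulAut.conj c • (S : Subgroup C) at h
    rw [Subgroup.mem_pointwise_smul_iff_inv_smul_mem, hS] at h
    simpa [← map_inv, MulAut.smul_def, MulAut.conj_apply, mul_assoc] using h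
  have := D.elem_eq P (conjSub c⁻¹ E) (isElementary_map _ hE) (hle.trans (D.S0_le_normalizer P hω))
    (by rw [conjSub, Subgroup.card_map_of_injective (MulAut.conj c⁻¹).injective]; exact hcard)
  ext x
  rw [mem_conjSub, ← this, mem_conjSub, inv_inv]
  simp [mul_assoc]

theorem thompson_eq {G : Type*} [Group G] [Finite G] (S A : Subgroup G) (hA : Cfsg.IsElementaryAbelian 2 A)
    (hle : A ≤ S) (huniq : ∀ E ≤ S, Cfsg.IsElementaryAbelian 2 E → Nat.card A ≤ Nat.card E → E = A) :
    Cfsg.thompsonSubgroupOf 2 S = A := by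
  have hA' : (A.subgroupOf S).map S.subtype = A := by
    rw [Subgroup.subgroupOf_map_subtype, inf_eq_left.2 hle]
  have hcA : Nat.card (A.subgroupOf S) = Nat.card A := Nat.card_congr (Subgroup.subgroupOfEquivOfLe hle).toEquiv
  have heA : Cfsg.IsElementaryAbelian 2 (A.subgroupOf S) :=
    isElementary_of_map S.subtype S.subtype_injective (by rw [hA']; exact hA)
  have key : ∀ E : Subgroup S, Cfsg.IsElementaryAbelian 2 E → Nat.card A ≤ Nat.card E → E = A.subgroupOf S := by
    intro E hE hcard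
    apply Subgroup.map_injective S.subtype_injective
    rw [hA']
    refine huniq _ (fun x ⟨y, _, e⟩ => e ▸ y.2) (isElementary_map _ hE) ?_
    rwa [Subgroup.card_map_of_injective S.subtype_injective]
  have hmem : A.subgroupOf S ∈ Cfsg.maxElementaryAbelianSubgroups 2 S := by
    refine ⟨heA, fun B hB => ?_⟩
    rcases Nat.le_total (Nat.card B) (Nat.card A) with h | h
    · rw [hcA]; exact h
    · rw [key B hB h]
  have hset : Cfsg.maxElementaryAbelianSubgroups 2 S = {A.subgroupOf S} := by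
    refine Set.eq_singleton_iff_unique_mem.2 ⟨hmem, fun E hE => key E hE.1 ?_⟩
    rw [← hcA]
    exact hE.2 _ heA
  rw [Cfsg.thompsonSubgroupOf, Cfsg.thompsonSubgroup, hset, sSup_singleton, hA']

/-- The Thompson subgroup of a Sylow 2-subgroup. -/
theorem Data.thompson (D : Data hF C) (P : Fr hF) (S : Sylow 2 C) :
    ∃ c, Cfsg.thompsonSubgroupOf 2 (S : Subgroup C) = conjSub c (D.A P) := by
  obtain ⟨ω, hω⟩ := exists_omega hF
  obtain ⟨T, hT, -⟩ := D.exists_sylow P hω
  obtain ⟨c, hc⟩ := MulAction.exists_smul_eq C T S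
  refine ⟨c, thompson_eq _ _ (isElementary_map _ (D.isElementary P)) ?_ fun E hE hel hcard => ?_⟩
  · rintro _ ⟨a, ha, rfl⟩
    rw [← hc]
    change c * a * c⁻¹ ∈ MulAut.conj c • (T : Subgroup C)
    rw [Subgroup.mem_pointwise_smul_iff_inv_smul_mem, hT]
    simp [← map_inv, MulAut.smul_def, MulAut.conj_apply, mul_assoc]
    exact Subgroup.mem_sup_left ha
  · rw [conjSub, Subgroup.card_map_of_injective (MulAut.conj c).injective, D.card_A] at hcard
    have hle : conjSub c⁻¹ E ≤ D.S0 P ω hω := fun x hx => by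
      rw [mem_conjSub, inv_inv] at hx
      have h := hE hx
      rw [← hc] at h
      change c * x * c⁻¹ ∈ MulAut.conj c • (T : Subgroup C) at h
      rw [Subgroup.mem_pointwise_smul_iff_inv_smul_mem, hT] at h
      simpa [← map_inv, MulAut.smul_def, MulAut.conj_apply, mul_assoc] using h
    have := D.elem_eq P (conjSub c⁻¹ E) (isElementary_map _ hel) (hle.trans (D.S0_le_normalizer P hω))
      (by rw [conjSub, Subgroup.card_map_of_injective (MulAut.conj c⁻¹).injective]; exact hcard)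
    ext x
    rw [mem_conjSub, ← this, mem_conjSub, inv_inv]
    simp [mul_assoc]

end CfsgLib.U6Cover
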